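import Groth.Agent.IsoNat.K864.DvrExt
import Groth.Agent.AlgSp.K604.ProperDvr
import Groth.Agent.Gerb.K893.Desc
import Groth.Agent.Gerb.K893.RowsA
import Groth.Agent.AlgSt.K740.Inertia
import Groth.Agent.AlgSt.K735.Top

/-!
# Properness of the inertia of a locally Noetherian stack from extension of automorphisms over discrete valuation rings
-/

set_option autoImplicit false
set_option backward.isDefEq.respectTransparency false
set_option backward.isDefEq.respectTransparency.types false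

universe u

open CategoryTheory CategoryTheory.Limits AlgebraicGeometry Opposite AlgSp

namespace K864.PropInertia

open K862 K862.Fib K862.Yon K864.DvrExt K604.DvrClosed

variable {S : Scheme.{u}} {𝒳 𝒴 : AlgSt.Cat S}

/-- The elementwise form of a given representation. -/
theorem exists_fRep_of_equiv {f : 𝒳 ⥤ᵇ 𝒴} [FibCat.IsFibGrpd 𝒳.p] [FibCat.IsFibGrpd 𝒴.p] {T : Over S}
    (y : FibCat.overCat T ⥤ᵇ 𝒴) {F : Sp S} (e : AlgSt.ofSp F ⥤ᵇ FibCat.fp y f) (he : FibCat.IsEquivOver e) :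
    ∃ R : FRep f (objOf y) F, R.π = AlgSt.spMapOfOver (BasedFunctor.comp e (FibCat.fpFst y f)) := by
  let R₀ := SpRep.ofEquiv e he
  refine ⟨FRep.ofSpRep R₀ _ (fun {T'} z => ?_), rfl⟩
  obtain ⟨s, hs⟩ : ∃ s, R₀.sec z = s := ⟨_, rfl⟩
  let z₀ : (FibCat.fp y f).p.Fiber T' := ⟨e.obj ⟨T', s⟩, e.w_obj _⟩
  have h1 : R₀.sec z₀ = s := SpRep.ofEquiv_sec_obj e he s
  obtain ⟨θ⟩ := R₀.sec_eq (h1.trans hs.symm)
  have h2 := comp_fstHom (𝟙 T') θ.1 θ.2
  rw [Category.id_comp] at h2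
  rw [hs, h2]
  rfl

theorem isLocNoethSp_yon {V : Over S} (h : IsLocallyNoetherian V.left) : IsLocNoethSp ((yon S).obj V) :=
  ⟨V, 𝟙 _, repWith_id _ _, repWith_id _ _, h⟩

theorem locP_mono {P Q : MorphismProperty Scheme.{u}} (h : P ≤ Q) {F G : Sp S} {f : F ⟶ G} (hf : LocP P f) :
    LocP Q f := by
  intro U V p q g hp hq w
  exact h _ (hf p q g hp hq w)

/-- The automorphism space over a locally Noetherian chart is universally closed. -/
theorem isUnivClosedMor_aut [FibCat.IsFibGrpd 𝒴.p] (H : Ext 𝒴) {V : Over S} (hV : IsLocallyNoetherian V.left)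
    (v : FibCat.overCat V ⥤ᵇ 𝒴) {F : Space S}
    (e : AlgSt.ofSp F.obj ⥤ᵇ FibCat.fp v (FibCat.inertiaToBase (FibCat.toSelf 𝒴))) (he : FibCat.IsEquivOver e)
    (h1 : IsQuasiCompactMor (AlgSt.spMapOfOver (BasedFunctor.comp e (FibCat.fpFst v
      (FibCat.inertiaToBase (FibCat.toSelf 𝒴))))))
    (h2 : LocP @LocallyOfFinitePresentation (AlgSt.spMapOfOver (BasedFunctor.comp e (FibCat.fpFst v
      (FibCat.inertiaToBase (FibCat.toSelf 𝒴)))))) :
    IsUnivClosedMor (AlgSt.spMapOfOver (BasedFunctor.comp e (FibCat.fpFst v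
      (FibCat.inertiaToBase (FibCat.toSelf 𝒴))))) := by
  have := isFibGrpd_inertia (𝒳 := 𝒴)
  obtain ⟨R, hR⟩ := exists_fRep_of_equiv v e he
  have h3 : DvrExist R.π := dvrExist_of_ext H (objOf v) (AutRep.ofFRep R)
  rw [← hR] at h1 h2 ⊢
  let f : F ⟶ (ofScheme S).obj V := ObjectProperty.homMk R.π
  exact K604.ProperDvr.isUnivClosedMor_of_dvrExist f ⟨locP_mono (fun _ _ g (hg : LocallyOfFinitePresentation g) =>
    show LocallyOfFiniteType g from inferInstance) h2, h1⟩ (isLocNoethSp_yon hV) h3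

theorem main (h𝒴 : AlgSt.IsAlgStack Scheme.fppfPrecoverage 𝒴)
    (h𝒴d : AlgSt.RepByAlgSpWith (AlgSp.IsSeparatedMor ⊓ AlgSp.IsQuasiCompactMor)
      (FibCat.diag (FibCat.toSelf 𝒴)))
    (h𝒴i : AlgSt.RepByAlgSpWith (AlgSp.LocP @LocallyOfFinitePresentation)
      (FibCat.inertiaToBase (FibCat.toSelf 𝒴)))
    (hN : AlgSt.SmoothLocally (fun X => IsLocallyNoetherian X) 𝒴) (H : Ext 𝒴) :
    AlgSt.RepByAlgSpWith AlgSp.IsProperMor (FibCat.inertiaToBase (FibCat.toSelf 𝒴)) := by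
  have hp := h𝒴.isStack.1
  have := K735.Top.locP_respectsIso (S := S) @LocallyOfFinitePresentation
  have h1 := K735.Top.repByAlgSpWith_inf (K740.Inertia.repByAlgSpWith_inertiaToBase _ h𝒴d) h𝒴i
  obtain ⟨V, v, hv, hvs⟩ := h𝒴.atlas
  have hV : IsLocallyNoetherian V.left := hN V v hv
  have hf : AlgSt.RepByAlgSp1 (FibCat.inertiaToBase (FibCat.toSelf 𝒴)) := K735.Rep.repByAlgSp1_of_with h1
  obtain ⟨F', e', he', ⟨-, hqc'⟩, hlfp'⟩ := h1 V v
  have huc := isUnivClosedMor_aut H hV v e' he' hqc' hlfp'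
  intro U y
  obtain ⟨F, e, he, ⟨hs, hqc⟩, hlfp⟩ := h1 U y
  refine ⟨F, e, he, hs, ⟨locP_mono (fun _ _ g (hg : LocallyOfFinitePresentation g) =>
    show LocallyOfFiniteType g from inferInstance) hlfp, hqc⟩, ?_⟩
  have hy : AlgSt.RepByAlgSpWith (AlgSp.LocP ⊤) y := by
    intro T t
    obtain ⟨G, c, hc⟩ := K893.RowsA.charts_rep h𝒴 U y T t
    exact ⟨G, c, hc, fun _ _ _ _ _ _ _ _ => trivial⟩
  obtain ⟨T, a, b, φ, hφ, hD, -, hsu, -⟩ := K893.Desc.chart2 y v hy hv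
  obtain ⟨G, π, π', m, hG, sq, sq'⟩ := K893.Desc.exists_common hp hf a b φ hφ e he e' he'
  have h2 : IsUnivClosedMor m := fun _ _ hT t _ _ sqT => huc hT (t ≫ (yon S).map b) _ _ (sqT.paste_horiz sq')
  have h3 : Smooth a.left := hD
  have h4 : Surjective a.left := hsu hvs
  exact K596.Univ.isUnivClosedMor_of_cover ((yon S).map a) ((repWith_yon_map_iff _ _).2 (by
    change UniversallyOpen a.left
    infer_instance)) ((repWith_yon_map_iff _ _).2 h4) sq h2

end K864.PropInertia
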