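import Groth.Agent.IsoNat.K864.Dense
import Mathlib.Algebra.Polynomial.Basic
import Mathlib.RingTheory.Localization.Away.Basic
import Mathlib.RingTheory.Polynomial.Basic
import Mathlib.Algebra.Polynomial.Laurent

/-!
# The cross `Spec {(f, g) ∈ ℤ[x]² : f(0) = g(0)}` and its doubled and tripled versions
-/

set_option autoImplicit false
universe u
open CategoryTheory CategoryTheory.Limits AlgebraicGeometry Polynomial

namespace K864.Cross

noncomputable section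

/-- The integers in `Type u`. -/
abbrev kk : Type u := ULift.{u} ℤ

/-- The polynomial ring. -/
abbrev kX : Type u := Polynomial kk.{u}

/-- Evaluation at `0`. -/
def ev : kX.{u} →+* kk.{u} := evalRingHom 0

/-- The ring of the cross. -/
def crS : Subring (kX.{u} × kX.{u}) :=
  RingHom.eqLocus (ev.comp (RingHom.fst kX kX)) (ev.comp (RingHom.snd kX kX))

/-- The ring of the cross. -/
abbrev crA : Type u := crS.{u}

/-- The two branches. -/
def β₁ : crA.{u} →+* kX.{u} := (RingHom.fst kX kX).comp crS.subtype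

/-- The two branches. -/
def β₂ : crA.{u} →+* kX.{u} := (RingHom.snd kX kX).comp crS.subtype

theorem ev_β (a : crA.{u}) : ev (β₁ a) = ev (β₂ a) := a.2

theorem crA_ext {a b : crA.{u}} (h₁ : β₁ a = β₁ b) (h₂ : β₂ a = β₂ b) : a = b :=
  Subtype.ext (Prod.ext h₁ h₂)

/-- Elements of the ring of the cross. -/
def mk (f g : kX.{u}) (h : ev f = ev g) : crA.{u} := ⟨(f, g), h⟩

@[simp] theorem β₁_mk (f g : kX.{u}) (h : ev f = ev g) : β₁ (mk f g h) = f := rfl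

@[simp] theorem β₂_mk (f g : kX.{u}) (h : ev f = ev g) : β₂ (mk f g h) = g := rfl

theorem ev_C (a : kk.{u}) : ev (C a) = a := by simp [ev]

theorem ev_X : ev (X : kX.{u}) = 0 := by simp [ev]

/-- The retractions onto the branches. -/
def ρ₁ : kX.{u} →+* crA.{u} :=
  RingHom.codRestrict (RingHom.prod (RingHom.id kX) (C.comp ev)) crS (fun f => by
    change ev f = ev (C (ev f)); rw [ev_C])

/-- The retractions onto the branches. -/
def ρ₂ : kX.{u} →+* crA.{u} :=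
  RingHom.codRestrict (RingHom.prod (C.comp ev) (RingHom.id kX)) crS (fun f => by
    change ev (C (ev f)) = ev f; rw [ev_C])

theorem β₁_ρ₁ (f : kX.{u}) : β₁ (ρ₁ f) = f := rfl
theorem β₂_ρ₁ (f : kX.{u}) : β₂ (ρ₁ f) = C (ev f) := rfl
theorem β₂_ρ₂ (f : kX.{u}) : β₂ (ρ₂ f) = f := rfl
theorem β₁_ρ₂ (f : kX.{u}) : β₁ (ρ₂ f) = C (ev f) := rfl

/-- The ring of `G_m`. -/
abbrev gmA : Type u := Localization.Away (X : kX.{u})

/-- The coordinate of the first branch. -/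
def x₁ : crA.{u} := mk X 0 (by rw [ev_X, map_zero])

/-- The coordinate of the second branch. -/
def x₂ : crA.{u} := mk 0 X (by rw [ev_X, map_zero])

theorem β₁_x₁ : β₁ x₁.{u} = X := rfl
theorem β₂_x₁ : β₂ x₁.{u} = 0 := rfl
theorem β₁_x₂ : β₁ x₂.{u} = 0 := rfl
theorem β₂_x₂ : β₂ x₂.{u} = X := rfl

theorem x₁_mul_x₂ : x₁.{u} * x₂ = 0 := by
  apply crA_ext
  · rw [map_mul]; simp [x₁, x₂]
  · rw [map_mul]; simp [x₁, x₂]

theorem X_dvd_mk (f : kX.{u}) : ev (X * f) = ev (0 : kX.{u}) := by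
  rw [map_mul, ev_X, zero_mul, map_zero]

theorem isLocalization₁ :
    letI := ((algebraMap kX.{u} gmA.{u}).comp β₁).toAlgebra
    IsLocalization.Away x₁ gmA.{u} := by
  let _ := ((algebraMap kX.{u} gmA.{u}).comp β₁).toAlgebra
  have halg : ∀ a : crA.{u}, algebraMap crA gmA a = algebraMap kX gmA (β₁ a) := fun _ => rfl
  have hu : IsUnit (algebraMap kX.{u} gmA.{u} X) := IsLocalization.Away.algebraMap_isUnit _
  refine { map_units := ?_, surj := ?_, exists_of_eq := ?_ }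
  · rintro ⟨_, n, rfl⟩
    change IsUnit (algebraMap kX gmA (β₁ (x₁ ^ n)))
    rw [map_pow, map_pow]
    exact hu.pow n
  · intro z
    obtain ⟨n, f, hf⟩ := IsLocalization.Away.surj (X : kX.{u}) z
    refine ⟨⟨mk (X * f) 0 (X_dvd_mk f), ⟨x₁ ^ (n + 1), n + 1, rfl⟩⟩, ?_⟩
    change z * algebraMap kX gmA (β₁ (x₁ ^ (n + 1))) = algebraMap kX gmA (X * f)
    rw [map_pow, β₁_x₁, map_mul, ← hf, pow_succ, map_mul, map_pow]
    ring
  · intro a b hab
    have h1 : algebraMap kX gmA (β₁ a) = algebraMap kX gmA (β₁ b) := hab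
    obtain ⟨⟨_, n, rfl⟩, hc⟩ := (IsLocalization.eq_iff_exists (Submonoid.powers (X : kX.{u})) gmA).1 h1
    refine ⟨⟨x₁ ^ (n + 1), n + 1, rfl⟩, ?_⟩
    have hc' : X ^ n * β₁ a = X ^ n * β₁ b := hc
    apply crA_ext
    · change β₁ (x₁ ^ (n + 1) * a) = β₁ (x₁ ^ (n + 1) * b)
      rw [map_mul, map_mul, map_pow, β₁_x₁, pow_succ', mul_assoc, hc', mul_assoc]
    · change β₂ (x₁ ^ (n + 1) * a) = β₂ (x₁ ^ (n + 1) * b)
      rw [map_mul, map_mul, map_pow]
      simp [x₁]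

theorem isLocalization₂ :
    letI := ((algebraMap kX.{u} gmA.{u}).comp β₂).toAlgebra
    IsLocalization.Away x₂ gmA.{u} := by
  let _ := ((algebraMap kX.{u} gmA.{u}).comp β₂).toAlgebra
  have hu : IsUnit (algebraMap kX.{u} gmA.{u} X) := IsLocalization.Away.algebraMap_isUnit _
  refine { map_units := ?_, surj := ?_, exists_of_eq := ?_ }
  · rintro ⟨_, n, rfl⟩
    change IsUnit (algebraMap kX gmA (β₂ (x₂ ^ n)))
    rw [map_pow, map_pow]
    exact hu.pow n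
  · intro z
    obtain ⟨n, f, hf⟩ := IsLocalization.Away.surj (X : kX.{u}) z
    refine ⟨⟨mk 0 (X * f) (X_dvd_mk f).symm, ⟨x₂ ^ (n + 1), n + 1, rfl⟩⟩, ?_⟩
    change z * algebraMap kX gmA (β₂ (x₂ ^ (n + 1))) = algebraMap kX gmA (X * f)
    rw [map_pow, β₂_x₂, map_mul, ← hf, pow_succ, map_mul, map_pow]
    ring
  · intro a b hab
    have h1 : algebraMap kX gmA (β₂ a) = algebraMap kX gmA (β₂ b) := hab
    obtain ⟨⟨_, n, rfl⟩, hc⟩ := (IsLocalization.eq_iff_exists (Submonoid.powers (X : kX.{u})) gmA).1 h1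
    refine ⟨⟨x₂ ^ (n + 1), n + 1, rfl⟩, ?_⟩
    have hc' : X ^ n * β₂ a = X ^ n * β₂ b := hc
    apply crA_ext
    · change β₁ (x₂ ^ (n + 1) * a) = β₁ (x₂ ^ (n + 1) * b)
      rw [map_mul, map_mul, map_pow]
      simp [x₂]
    · change β₂ (x₂ ^ (n + 1) * a) = β₂ (x₂ ^ (n + 1) * b)
      rw [map_mul, map_mul, map_pow, β₂_x₂, pow_succ', mul_assoc, hc', mul_assoc]

/-! ### The schemes -/

/-- the point `Spec ℤ` -/
def pt : Scheme.{u} := Spec (CommRingCat.of kk.{u})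

/-- `pt` is terminal. -/
def isTerminalPt : IsTerminal pt.{u} := specULiftZIsTerminal

/-- the affine line over `ℤ` -/
def A1 : Scheme.{u} := Spec (CommRingCat.of kX.{u})

/-- the punctured affine line over `ℤ` -/
def Gm : Scheme.{u} := Spec (CommRingCat.of gmA.{u})

/-- the cross -/
def Cr : Scheme.{u} := Spec (CommRingCat.of crA.{u})

/-- the origin of the line -/
def zero : pt.{u} ⟶ A1 := Spec.map (CommRingCat.ofHom ev)

/-- the inclusion of the punctured line -/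
def jGm : Gm.{u} ⟶ A1 := Spec.map (CommRingCat.ofHom (algebraMap kX gmA))

/-- the first branch -/
def b₁ : A1.{u} ⟶ Cr := Spec.map (CommRingCat.ofHom β₁)

/-- the second branch -/
def b₂ : A1.{u} ⟶ Cr := Spec.map (CommRingCat.ofHom β₂)

/-- the first retraction -/
def r₁ : Cr.{u} ⟶ A1 := Spec.map (CommRingCat.ofHom ρ₁)

/-- the second retraction -/
def r₂ : Cr.{u} ⟶ A1 := Spec.map (CommRingCat.ofHom ρ₂)

/-- the origin of the cross -/
def o : pt.{u} ⟶ Cr := zero ≫ b₁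

instance isOpenImmersion_jGm : IsOpenImmersion jGm.{u} :=
  IsOpenImmersion.of_isLocalization (X : kX.{u})

theorem zero_b₁ : zero.{u} ≫ b₁ = o := rfl

theorem zero_b₂ : zero.{u} ≫ b₂ = o := by
  change Spec.map _ ≫ Spec.map _ = Spec.map _ ≫ Spec.map _
  rw [← Spec.map_comp, ← Spec.map_comp]
  congr 1
  exact CommRingCat.hom_ext (RingHom.ext fun a => (ev_β a).symm)

theorem b₁_r₁ : b₁.{u} ≫ r₁ = 𝟙 _ := by
  change Spec.map _ ≫ Spec.map _ = _
  rw [← Spec.map_comp]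
  exact Spec.map_id _

theorem b₂_r₂ : b₂.{u} ≫ r₂ = 𝟙 _ := by
  change Spec.map _ ≫ Spec.map _ = _
  rw [← Spec.map_comp]
  exact Spec.map_id _

/-- the structure morphism of the line -/
def toPt : A1.{u} ⟶ pt := Spec.map (CommRingCat.ofHom C)

theorem zero_toPt : zero.{u} ≫ toPt = 𝟙 _ := isTerminalPt.hom_ext _ _

theorem b₂_r₁ : b₂.{u} ≫ r₁ = toPt ≫ zero := by
  change Spec.map _ ≫ Spec.map _ = Spec.map _ ≫ Spec.map _
  rw [← Spec.map_comp, ← Spec.map_comp]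
  rfl

theorem b₁_r₂ : b₁.{u} ≫ r₂ = toPt ≫ zero := by
  change Spec.map _ ≫ Spec.map _ = Spec.map _ ≫ Spec.map _
  rw [← Spec.map_comp, ← Spec.map_comp]
  rfl

/-- The first punctured branch. -/
def v₁ : Gm.{u} ⟶ Cr := jGm ≫ b₁

/-- The second punctured branch. -/
def v₂ : Gm.{u} ⟶ Cr := jGm ≫ b₂

theorem v₁_eq : v₁.{u} = Spec.map (CommRingCat.ofHom ((algebraMap kX gmA).comp β₁)) := by
  change Spec.map _ ≫ Spec.map _ = _
  rw [← Spec.map_comp]
  rfl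

theorem v₂_eq : v₂.{u} = Spec.map (CommRingCat.ofHom ((algebraMap kX gmA).comp β₂)) := by
  change Spec.map _ ≫ Spec.map _ = _
  rw [← Spec.map_comp]
  rfl

instance isOpenImmersion_v₁ : IsOpenImmersion v₁.{u} := by
  rw [v₁_eq]
  let _ := ((algebraMap kX.{u} gmA.{u}).comp β₁).toAlgebra
  have := isLocalization₁.{u}
  exact IsOpenImmersion.of_isLocalization (R := crA.{u}) x₁.{u}

instance isOpenImmersion_v₂ : IsOpenImmersion v₂.{u} := by
  rw [v₂_eq]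
  let _ := ((algebraMap kX.{u} gmA.{u}).comp β₂).toAlgebra
  have := isLocalization₂.{u}
  exact IsOpenImmersion.of_isLocalization (R := crA.{u}) x₂.{u}

theorem mem_range_v₁ (z : PrimeSpectrum crA.{u}) :
    z ∈ Set.range v₁.{u} ↔ x₁ ∉ z.asIdeal := by
  rw [v₁_eq]
  let _ := ((algebraMap kX.{u} gmA.{u}).comp β₁).toAlgebra
  have := isLocalization₁.{u}
  exact (Set.ext_iff.1 (PrimeSpectrum.localization_away_comap_range gmA.{u} x₁.{u}) z)

theorem mem_range_v₂ (z : PrimeSpectrum crA.{u}) :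
    z ∈ Set.range v₂.{u} ↔ x₂ ∉ z.asIdeal := by
  rw [v₂_eq]
  let _ := ((algebraMap kX.{u} gmA.{u}).comp β₂).toAlgebra
  have := isLocalization₂.{u}
  exact (Set.ext_iff.1 (PrimeSpectrum.localization_away_comap_range gmA.{u} x₂.{u}) z)

theorem mem_range_jGm (z : PrimeSpectrum kX.{u}) :
    z ∈ Set.range jGm.{u} ↔ X ∉ z.asIdeal :=
  Set.ext_iff.1 (PrimeSpectrum.localization_away_comap_range gmA.{u} (X : kX.{u})) z

/-- The two punctured branches are disjoint. -/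
theorem v₁_ne_v₂ (a b : ↥Gm.{u}) : v₁ a ≠ v₂ b := by
  intro h
  have h1 := (mem_range_v₁ (v₁ a)).1 ⟨a, rfl⟩
  have h2 := (mem_range_v₂ (v₁ a)).1 ⟨b, h.symm⟩
  rcases (PrimeSpectrum.isPrime (v₁ a : PrimeSpectrum crA.{u})).mem_or_mem
    (x := x₁) (y := x₂) (by rw [x₁_mul_x₂]; exact Ideal.zero_mem _) with (h | h)
  · exact h1 h
  · exact h2 h

theorem b₁_mem_range_v₁ (a : ↥A1.{u}) : b₁ a ∈ Set.range v₁.{u} ↔ a ∈ Set.range jGm.{u} := by
  exact (mem_range_v₁ (b₁ a)).trans (Iff.trans Iff.rfl (mem_range_jGm a).symm)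

theorem b₂_mem_range_v₂ (a : ↥A1.{u}) : b₂ a ∈ Set.range v₂.{u} ↔ a ∈ Set.range jGm.{u} := by
  exact (mem_range_v₂ (b₂ a)).trans (Iff.trans Iff.rfl (mem_range_jGm a).symm)

theorem v₂_ne_b₁ (a : ↥A1.{u}) (c : ↥Gm.{u}) : v₂ c ≠ b₁ a := by
  intro h
  have h1 := (mem_range_v₂ (b₁ a)).1 ⟨c, h⟩
  have h2 : x₂ ∈ (b₁ a : PrimeSpectrum crA.{u}).asIdeal ↔
    β₁ x₂ ∈ (a : PrimeSpectrum kX.{u}).asIdeal := Iff.rfl
  exact h1 (h2.2 (by rw [β₁_x₂]; exact Ideal.zero_mem _))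

theorem v₁_ne_b₂ (a : ↥A1.{u}) (c : ↥Gm.{u}) : v₁ c ≠ b₂ a := by
  intro h
  have h1 := (mem_range_v₁ (b₂ a)).1 ⟨c, h⟩
  have h2 : x₁ ∈ (b₂ a : PrimeSpectrum crA.{u}).asIdeal ↔
    β₂ x₁ ∈ (a : PrimeSpectrum kX.{u}).asIdeal := Iff.rfl
  exact h1 (h2.2 (by rw [β₂_x₁]; exact Ideal.zero_mem _))

/-- The complement of the origin in the cross: the disjoint union of the two punctured branches. -/
def V : Cr.{u}.Opens := v₁.opensRange ⊔ v₂.opensRange

theorem v₁_le : Set.range v₁.{u} ⊆ Set.range V.{u}.ι := by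
  rw [Scheme.Opens.range_ι]
  rintro _ ⟨a, rfl⟩
  exact Or.inl ⟨a, rfl⟩

theorem v₂_le : Set.range v₂.{u} ⊆ Set.range V.{u}.ι := by
  rw [Scheme.Opens.range_ι]
  rintro _ ⟨a, rfl⟩
  exact Or.inr ⟨a, rfl⟩

/-- The inclusions of the punctured branches into their union. -/
def w₁ : Gm.{u} ⟶ V.toScheme := IsOpenImmersion.lift V.ι v₁ v₁_le

/-- The inclusions of the punctured branches into their union. -/
def w₂ : Gm.{u} ⟶ V.toScheme := IsOpenImmersion.lift V.ι v₂ v₂_le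

@[reassoc (attr := simp)]
theorem w₁_ι : w₁.{u} ≫ V.ι = v₁ := IsOpenImmersion.lift_fac _ _ _

@[reassoc (attr := simp)]
theorem w₂_ι : w₂.{u} ≫ V.ι = v₂ := IsOpenImmersion.lift_fac _ _ _

instance isOpenImmersion_w₁ : IsOpenImmersion w₁.{u} := by
  have : IsOpenImmersion (w₁.{u} ≫ V.ι) := by rw [w₁_ι]; infer_instance
  exact IsOpenImmersion.of_comp _ V.ι

instance isOpenImmersion_w₂ : IsOpenImmersion w₂.{u} := by
  have : IsOpenImmersion (w₂.{u} ≫ V.ι) := by rw [w₂_ι]; infer_instance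
  exact IsOpenImmersion.of_comp _ V.ι

theorem exists_w (z : ↥V.{u}.toScheme) : (∃ a, w₁ a = z) ∨ ∃ a, w₂ a = z := by
  rcases z.2 with (⟨a, ha⟩ | ⟨a, ha⟩)
  · left
    refine ⟨a, V.{u}.ι.isOpenEmbedding.injective ?_⟩
    rw [← Scheme.Hom.comp_apply, w₁_ι]
    exact ha
  · right
    refine ⟨a, V.{u}.ι.isOpenEmbedding.injective ?_⟩
    rw [← Scheme.Hom.comp_apply, w₂_ι]
    exact ha

theorem w₁_ne_w₂ (a b : ↥Gm.{u}) : w₁ a ≠ w₂ b := by
  intro h
  apply v₁_ne_v₂ a b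
  rw [← w₁_ι, ← w₂_ι, Scheme.Hom.comp_apply, Scheme.Hom.comp_apply, h]

/-- The first branch meets `V` in the punctured line. -/
theorem isPullback_b₁ : IsPullback w₁.{u} jGm V.ι b₁ := by
  refine IsOpenImmersion.isPullback _ _ _ _ w₁_ι.symm ?_
  ext a
  constructor
  · intro ha
    have ha' : b₁ a ∈ Set.range V.{u}.ι := ha
    rw [Scheme.Opens.range_ι] at ha'
    rcases ha' with (⟨c, hc⟩ | ⟨c, hc⟩)
    · exact (b₁_mem_range_v₁ a).1 ⟨c, hc⟩
    · exact (v₂_ne_b₁ a c hc).elim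
  · rintro ⟨c, rfl⟩
    change b₁ (jGm c) ∈ Set.range V.{u}.ι
    rw [Scheme.Opens.range_ι]
    exact Or.inl ⟨c, rfl⟩

/-- The second branch meets `V` in the punctured line. -/
theorem isPullback_b₂ : IsPullback w₂.{u} jGm V.ι b₂ := by
  refine IsOpenImmersion.isPullback _ _ _ _ w₂_ι.symm ?_
  ext a
  constructor
  · intro ha
    have ha' : b₂ a ∈ Set.range V.{u}.ι := ha
    rw [Scheme.Opens.range_ι] at ha'
    rcases ha' with (⟨c, hc⟩ | ⟨c, hc⟩)
    · exact (v₁_ne_b₂ a c hc).elim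
    · exact (b₂_mem_range_v₂ a).1 ⟨c, hc⟩
  · rintro ⟨c, rfl⟩
    change b₂ (jGm c) ∈ Set.range V.{u}.ι
    rw [Scheme.Opens.range_ι]
    exact Or.inr ⟨c, rfl⟩

/-- The cross doubled along the complement of the origin. -/
def D2 : Scheme.{u} := pushout V.{u}.ι V.ι

/-- The first copy of the cross. -/
def i₁ : Cr.{u} ⟶ D2 := pushout.inl V.ι V.ι

/-- The second copy of the cross. -/
def i₂ : Cr.{u} ⟶ D2 := pushout.inr V.ι V.ι

instance isOpenImmersion_i₁ : IsOpenImmersion i₁.{u} := Doubled.isOpenImmersion_inl _ _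
instance isOpenImmersion_i₂ : IsOpenImmersion i₂.{u} := Doubled.isOpenImmersion_inr _ _

theorem isPullback_D2 : IsPullback V.{u}.ι V.ι i₁ i₂ := Doubled.isPullback_glue _ _

theorem exists_i (z : ↥D2.{u}) : (∃ a, i₁ a = z) ∨ ∃ a, i₂ a = z := Doubled.exists_inl_or_inr _ _ z

/-- The line doubled along the complement of the origin. -/
def DB : Scheme.{u} := pushout jGm.{u} jGm

/-- The first copy of the line. -/
def e₁ : A1.{u} ⟶ DB := pushout.inl jGm jGm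

/-- The second copy of the line. -/
def e₂ : A1.{u} ⟶ DB := pushout.inr jGm jGm

instance isOpenImmersion_e₁ : IsOpenImmersion e₁.{u} := Doubled.isOpenImmersion_inl _ _
instance isOpenImmersion_e₂ : IsOpenImmersion e₂.{u} := Doubled.isOpenImmersion_inr _ _

theorem isPullback_DB : IsPullback jGm.{u} jGm e₁ e₂ := Doubled.isPullback_glue _ _

theorem exists_e (z : ↥DB.{u}) : (∃ a, e₁ a = z) ∨ ∃ a, e₂ a = z := Doubled.exists_inl_or_inr _ _ z

theorem dB₁_aux : jGm.{u} ≫ b₁ ≫ i₁ = jGm ≫ b₁ ≫ i₂ := by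
  have h : v₁.{u} ≫ i₁ = v₁ ≫ i₂ := by rw [← w₁_ι, Category.assoc, isPullback_D2.w, Category.assoc]
  exact h

theorem dB₂_aux : jGm.{u} ≫ b₂ ≫ i₁ = jGm ≫ b₂ ≫ i₂ := by
  have h : v₂.{u} ≫ i₁ = v₂ ≫ i₂ := by rw [← w₂_ι, Category.assoc, isPullback_D2.w, Category.assoc]
  exact h

/-- The doubled first branch. -/
def dB₁ : DB.{u} ⟶ D2 := pushout.desc (b₁ ≫ i₁) (b₁ ≫ i₂) dB₁_aux

/-- The doubled second branch. -/
def dB₂ : DB.{u} ⟶ D2 := pushout.desc (b₂ ≫ i₁) (b₂ ≫ i₂) dB₂_aux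

@[reassoc (attr := simp)] theorem e₁_dB₁ : e₁.{u} ≫ dB₁ = b₁ ≫ i₁ := pushout.inl_desc _ _ _
@[reassoc (attr := simp)] theorem e₂_dB₁ : e₂.{u} ≫ dB₁ = b₁ ≫ i₂ := pushout.inr_desc _ _ _
@[reassoc (attr := simp)] theorem e₁_dB₂ : e₁.{u} ≫ dB₂ = b₂ ≫ i₁ := pushout.inl_desc _ _ _
@[reassoc (attr := simp)] theorem e₂_dB₂ : e₂.{u} ≫ dB₂ = b₂ ≫ i₂ := pushout.inr_desc _ _ _

/-- Three copies of the cross glued along the complement of the origin. -/
def D3 : Scheme.{u} := pushout (V.{u}.ι ≫ i₁) V.ι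

/-- The inclusion of the first two copies. -/
def d₁₂ : D2.{u} ⟶ D3 := pushout.inl (V.{u}.ι ≫ i₁) V.ι

/-- The third copy. -/
def i₃ : Cr.{u} ⟶ D3 := pushout.inr (V.{u}.ι ≫ i₁) V.ι

instance isOpenImmersion_d₁₂ : IsOpenImmersion d₁₂.{u} := Doubled.isOpenImmersion_inl _ _
instance isOpenImmersion_i₃ : IsOpenImmersion i₃.{u} := Doubled.isOpenImmersion_inr _ _

theorem isPullback_D3 : IsPullback (V.{u}.ι ≫ i₁) V.ι d₁₂ i₃ := Doubled.isPullback_glue _ _

theorem exists_d (z : ↥D3.{u}) : (∃ a, d₁₂ a = z) ∨ ∃ a, i₃ a = z :=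
  Doubled.exists_inl_or_inr _ _ z

theorem cond13 : V.{u}.ι ≫ i₁ ≫ d₁₂ = V.ι ≫ i₃ := by
  have := isPullback_D3.{u}.w
  rwa [Category.assoc] at this

theorem cond23 : V.{u}.ι ≫ i₂ ≫ d₁₂ = V.ι ≫ i₃ := by
  rw [← cond13, ← Category.assoc, ← isPullback_D2.w, Category.assoc]

/-- The inclusion of the first and third copies. -/
def d₁₃ : D2.{u} ⟶ D3 := pushout.desc (i₁ ≫ d₁₂) i₃ cond13

/-- The inclusion of the last two copies. -/
def d₂₃ : D2.{u} ⟶ D3 := pushout.desc (i₂ ≫ d₁₂) i₃ cond23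

@[reassoc (attr := simp)] theorem i₁_d₁₃ : i₁.{u} ≫ d₁₃ = i₁ ≫ d₁₂ := pushout.inl_desc _ _ _
@[reassoc (attr := simp)] theorem i₂_d₁₃ : i₂.{u} ≫ d₁₃ = i₃ := pushout.inr_desc _ _ _
@[reassoc (attr := simp)] theorem i₁_d₂₃ : i₁.{u} ≫ d₂₃ = i₂ ≫ d₁₂ := pushout.inl_desc _ _ _
@[reassoc (attr := simp)] theorem i₂_d₂₃ : i₂.{u} ≫ d₂₃ = i₃ := pushout.inr_desc _ _ _

/-! ### Density -/

/-- An additive retraction of `ℤ[x] → ℤ[x, 1/x]`: exists because monomials form a basis. -/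
theorem exists_retraction : ∃ ρ : gmA.{u} →+ kX.{u}, ∀ f : kX.{u}, ρ (algebraMap kX gmA f) = f := by
  let e : gmA.{u} ≃ₐ[kX.{u}] LaurentPolynomial kk.{u} :=
    IsLocalization.algEquiv (Submonoid.powers (X : kX.{u})) gmA (LaurentPolynomial kk)
  refine ⟨LaurentPolynomial.trunc.comp (e : gmA.{u} →+ LaurentPolynomial kk.{u}), fun f => ?_⟩
  change LaurentPolynomial.trunc (e (algebraMap kX gmA f)) = f
  rw [AlgEquiv.commutes]
  exact LaurentPolynomial.leftInverse_trunc_toLaurent f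

/-- `T × G_m` is scheme theoretically dense in `T × A¹`. -/
theorem std_jGm {S : Scheme.{u}} (T : Over S) :
    IsSchemeTheoreticallyDominant (Prd.mapR T jGm.{u}).left := by
  obtain ⟨ρ, hρ⟩ := exists_retraction.{u}
  exact Dense.std_mapR T (algebraMap kX.{u} gmA.{u}) ρ hρ

end

end K864.Cross
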