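import Mathlib.AlgebraicGeometry.Limits
import Mathlib.AlgebraicGeometry.Pullbacks
import Mathlib.AlgebraicGeometry.Restrict
import Mathlib.CategoryTheory.Limits.Constructions.Over.Connected
import Mathlib.CategoryTheory.Limits.Shapes.Pullback.IsPullback.Basic

/-!
# Gluing two schemes along an open subscheme (in `Scheme` and in `Over S`), doubled schemes

For open immersions `f : V ⟶ X`, `g : V ⟶ Y` (of schemes, or of schemes over `S`):
`inl`, `inr` into the pushout are open immersions, jointly surjective, with intersection `V`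
(the square is a pullback as well as a pushout).
-/

set_option autoImplicit false
universe u
open CategoryTheory CategoryTheory.Limits AlgebraicGeometry

namespace K864.Doubled

noncomputable section

section Sch

variable {V X Y : Scheme.{u}} (f : V ⟶ X) (g : V ⟶ Y) [IsOpenImmersion f] [IsOpenImmersion g]

instance isOpenImmersion_inl : IsOpenImmersion (pushout.inl f g) :=
  inferInstanceAs (IsOpenImmersion (colimit.ι (span f g) WalkingSpan.left))

instance isOpenImmersion_inr : IsOpenImmersion (pushout.inr f g) :=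
  inferInstanceAs (IsOpenImmersion (colimit.ι (span f g) WalkingSpan.right))

theorem exists_inl_or_inr (x : ↥(pushout f g)) :
    (∃ a : X, pushout.inl f g a = x) ∨ (∃ b : Y, pushout.inr f g b = x) := by
  obtain ⟨i, a, ha⟩ := Scheme.IsLocallyDirected.ι_jointly_surjective (span f g) x
  rcases i with (_ | (_ | _))
  · left
    let v : ↥V := a
    have h1 : f ≫ pushout.inl f g = colimit.ι (span f g) WalkingSpan.zero :=
      colimit.w (span f g) WalkingSpan.Hom.fst
    have h2 : (f ≫ pushout.inl f g) v = x :=
      (congrArg (fun h : V ⟶ pushout f g => h v) h1).trans ha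
    exact ⟨f v, (Scheme.Hom.comp_apply _ _ _).symm.trans h2⟩
  · exact Or.inl ⟨a, ha⟩
  · exact Or.inr ⟨a, ha⟩

theorem inl_eq_inr_iff (a : X) (b : Y) :
    pushout.inl f g a = pushout.inr f g b ↔ ∃ v : V, f v = a ∧ g v = b := by
  refine (Scheme.IsLocallyDirected.ι_eq_ι_iff (span f g) (i := WalkingSpan.left)
    (j := WalkingSpan.right) (xi := a) (xj := b)).trans ?_
  constructor
  · rintro ⟨k, fi, fj, v, h1, h2⟩
    rcases k with (_ | (_ | _))
    · obtain rfl : fi = WalkingSpan.Hom.fst := Subsingleton.elim _ _
      obtain rfl : fj = WalkingSpan.Hom.snd := Subsingleton.elim _ _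
      exact ⟨v, h1, h2⟩
    · exact nomatch fj
    · exact nomatch fi
  · rintro ⟨v, h1, h2⟩
    exact ⟨WalkingSpan.zero, WalkingSpan.Hom.fst, WalkingSpan.Hom.snd, v, h1, h2⟩

theorem isPullback_glue : IsPullback f g (pushout.inl f g) (pushout.inr f g) := by
  refine IsOpenImmersion.isPullback f g (pushout.inl f g) (pushout.inr f g)
    pushout.condition.symm ?_
  ext b
  constructor
  · rintro ⟨a, ha⟩
    obtain ⟨v, -, hv⟩ := (inl_eq_inr_iff f g a b).1 ha
    exact ⟨v, hv⟩
  · rintro ⟨v, hv⟩
    exact ⟨f v, (inl_eq_inr_iff f g _ b).2 ⟨v, rfl, hv⟩⟩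

end Sch

section Over

variable {S : Scheme.{u}} {V X Y : Over S} (f : V ⟶ X) (g : V ⟶ Y)
  [IsOpenImmersion f.left] [IsOpenImmersion g.left]

/-- Two schemes over `S` glued along an open subscheme of both. -/
def glue : Over S :=
  Over.mk (pushout.desc X.hom Y.hom (by rw [Over.w, Over.w]) : pushout f.left g.left ⟶ S)

/-- First open immersion into the glued scheme. -/
def inl : X ⟶ glue f g := Over.homMk (pushout.inl f.left g.left) (pushout.inl_desc _ _ _)

/-- Second open immersion into the glued scheme. -/
def inr : Y ⟶ glue f g := Over.homMk (pushout.inr f.left g.left) (pushout.inr_desc _ _ _)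

instance isOpenImmersion_inl_left : IsOpenImmersion (inl f g).left :=
  isOpenImmersion_inl f.left g.left

instance isOpenImmersion_inr_left : IsOpenImmersion (inr f g).left :=
  isOpenImmersion_inr f.left g.left

@[reassoc]
theorem condition : f ≫ inl f g = g ≫ inr f g :=
  Over.OverMorphism.ext (pushout.condition (f := f.left) (g := g.left))

theorem exists_or (x : ↥(glue f g).left) :
    (∃ a : X.left, (inl f g).left a = x) ∨ (∃ b : Y.left, (inr f g).left b = x) :=
  exists_inl_or_inr f.left g.left x

theorem isPullback_left : IsPullback f.left g.left (inl f g).left (inr f g).left :=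
  isPullback_glue f.left g.left

theorem isPullback : IsPullback f g (inl f g) (inr f g) :=
  IsPullback.of_map (Over.forget S) (condition f g) (isPullback_left f g)

variable {f g}

theorem desc_w {Z : Over S} (a : X ⟶ Z) (b : Y ⟶ Z) (h : f ≫ a = g ≫ b) :
    pushout.desc a.left b.left (congrArg (fun k => k.left) h : f.left ≫ a.left = g.left ≫ b.left) ≫
      Z.hom = pushout.desc X.hom Y.hom (by rw [Over.w, Over.w]) := by
  apply pushout.hom_ext
  · rw [pushout.inl_desc_assoc, Over.w, pushout.inl_desc]
  · rw [pushout.inr_desc_assoc, Over.w, pushout.inr_desc]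

/-- Morphisms out of the glued scheme. -/
def desc {Z : Over S} (a : X ⟶ Z) (b : Y ⟶ Z) (h : f ≫ a = g ≫ b) : glue f g ⟶ Z :=
  Over.homMk (pushout.desc a.left b.left (congrArg (fun k => k.left) h)) (desc_w a b h)

@[reassoc (attr := simp)]
theorem inl_desc {Z : Over S} (a : X ⟶ Z) (b : Y ⟶ Z) (h : f ≫ a = g ≫ b) :
    inl f g ≫ desc a b h = a :=
  Over.OverMorphism.ext (pushout.inl_desc _ _ _)

@[reassoc (attr := simp)]
theorem inr_desc {Z : Over S} (a : X ⟶ Z) (b : Y ⟶ Z) (h : f ≫ a = g ≫ b) :
    inr f g ≫ desc a b h = b :=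
  Over.OverMorphism.ext (pushout.inr_desc _ _ _)

theorem hom_ext {Z : Over S} {a b : glue f g ⟶ Z} (h₁ : inl f g ≫ a = inl f g ≫ b)
    (h₂ : inr f g ≫ a = inr f g ≫ b) : a = b :=
  Over.OverMorphism.ext (pushout.hom_ext (congrArg (fun k => k.left) h₁)
    (congrArg (fun k => k.left) h₂))

variable (f g) in
theorem isPushout : IsPushout f g (inl f g) (inr f g) :=
  ⟨⟨condition f g⟩, ⟨PushoutCocone.IsColimit.mk _ (fun s => desc s.inl s.inr s.condition)
    (fun s => inl_desc _ _ _) (fun s => inr_desc _ _ _)
    (fun s m h₁ h₂ => hom_ext (by rw [h₁, inl_desc]) (by rw [h₂, inr_desc]))⟩⟩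

end Over

section DoubledOver

variable {S : Scheme.{u}} (X : Over S) (V : X.left.Opens)

/-- An open subscheme of a scheme over `S`, as a scheme over `S`. -/
abbrev opn : Over S := Over.mk (V.ι ≫ X.hom)

/-- Its inclusion. -/
def opnι : opn X V ⟶ X := Over.homMk V.ι

instance isOpenImmersion_opnι_left : IsOpenImmersion (opnι X V).left :=
  inferInstanceAs (IsOpenImmersion V.ι)

/-- `X` doubled along the open subscheme `V`: two copies of `X` glued along `V`. -/
abbrev dbl : Over S := glue (opnι X V) (opnι X V)

/-- The fold map from the doubled scheme. -/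
abbrev fold : dbl X V ⟶ X := desc (𝟙 X) (𝟙 X) rfl

theorem inl_fold : inl (opnι X V) (opnι X V) ≫ fold X V = 𝟙 X := inl_desc _ _ _

theorem inr_fold : inr (opnι X V) (opnι X V) ≫ fold X V = 𝟙 X := inr_desc _ _ _

end DoubledOver

end

end K864.Doubled
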