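import Groth.Agent.IsoNat.K864.Bald

/-!
# Equivalences from isomorphic groupoids `U ×_𝒳 U ≅ U ×_𝒴 U`
-/

set_option autoImplicit false
set_option linter.unusedSectionVars false
set_option backward.isDefEq.respectTransparency false
set_option backward.isDefEq.respectTransparency.types false

universe u

open CategoryTheory CategoryTheory.Limits AlgebraicGeometry Opposite AlgSp
open K862 K862.Fib K862.Yon K864.SepUniq K864.CleanCorr K864.SpanKit K863.Arr K863.Corr K864.Doubled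
open K613.Basic K613.Cover K613.Chart

namespace K864.GpdMatch

variable {S : Scheme.{u}} {𝒳 𝒴 : AlgSt.Cat S} [FibCat.IsFibGrpd 𝒳.p] [FibCat.IsFibGrpd 𝒴.p] {Z : Over S}
  {x : 𝒳.p.Fiber Z} {y : 𝒴.p.Fiber Z} {F G : Sp S}

/-- Every object is locally a pullback of `x`. -/
def LocSurj (x : 𝒳.obj) : Prop :=
  ∀ t : 𝒳.obj, ∃ (V : Over S) (f : V ⟶ 𝒳.p.obj t) (v : 𝒳.obj) (α : v ⟶ t) (_ : v ⟶ x), FpC f ∧ 𝒳.p.IsHomLift f α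

/-- Pairs of arrows `z ⇉ x` and `ω ⇉ y` over the same base arrows matched by `Φ`. -/
def Mt (RF : SpanRep x x F) (RG : SpanRep y y G) (Φ : F ⟶ G) {T' : Over S} {u g : T' ⟶ Z} {z : 𝒳.p.Fiber T'}
    {a b : z.1 ⟶ x.1} (ha : 𝒳.p.IsHomLift u a) (hb : 𝒳.p.IsHomLift g b) {ω : 𝒴.p.Fiber T'} {α β : ω.1 ⟶ y.1}
    (hα : 𝒴.p.IsHomLift u α) (hβ : 𝒴.p.IsHomLift g β) : Prop :=
  mk RF g u z a b ha hb ≫ Φ = mk RG g u ω α β hα hβ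

variable {RF : SpanRep x x F} {RG : SpanRep y y G} {Φ : F ⟶ G}

theorem Mt.res {T' : Over S} {u g : T' ⟶ Z} {z : 𝒳.p.Fiber T'}
    {a b : z.1 ⟶ x.1} {ha : 𝒳.p.IsHomLift u a} {hb : 𝒳.p.IsHomLift g b} {ω : 𝒴.p.Fiber T'} {α β : ω.1 ⟶ y.1}
    {hα : 𝒴.p.IsHomLift u α} {hβ : 𝒴.p.IsHomLift g β} (h : Mt RF RG Φ ha hb hα hβ) {T'' : Over S} {k : T'' ⟶ T'}
    {z' : 𝒳.p.Fiber T''} {ω' : 𝒴.p.Fiber T''} {c : z'.1 ⟶ z.1} {d : ω'.1 ⟶ ω.1} (hc : 𝒳.p.IsHomLift k c)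
    (hd : 𝒴.p.IsHomLift k d) :
    Mt RF RG Φ (lift_comp hc ha) (lift_comp hc hb) (lift_comp hd hα) (lift_comp hd hβ) := by
  unfold Mt at *
  rw [← map_mk RF k g u z' z c a b hc ha hb (lift_comp hc ha) (lift_comp hc hb),
    ← map_mk RG k g u ω' ω d α β hd hα hβ (lift_comp hd hα) (lift_comp hd hβ), Category.assoc, h]

theorem Mt.of_res {T' : Over S} {u g : T' ⟶ Z} {z : 𝒳.p.Fiber T'}
    {a b : z.1 ⟶ x.1} {ha : 𝒳.p.IsHomLift u a} {hb : 𝒳.p.IsHomLift g b} {ω : 𝒴.p.Fiber T'} {α β : ω.1 ⟶ y.1}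
    {hα : 𝒴.p.IsHomLift u α} {hβ : 𝒴.p.IsHomLift g β} {T'' : Over S} {k : T'' ⟶ T'} (hk : FpC k)
    {z' : 𝒳.p.Fiber T''} {ω' : 𝒴.p.Fiber T''} {c : z'.1 ⟶ z.1} {d : ω'.1 ⟶ ω.1} (hc : 𝒳.p.IsHomLift k c)
    (hd : 𝒴.p.IsHomLift k d)
    (h : Mt RF RG Φ (lift_comp hc ha) (lift_comp hc hb) (lift_comp hd hα) (lift_comp hd hβ)) :
    Mt RF RG Φ ha hb hα hβ := by
  unfold Mt at *
  have := hk.epi
  rw [← cancel_epi ((yon S).map k), ← Category.assoc,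
    map_mk RF k g u z' z c a b hc ha hb (lift_comp hc ha) (lift_comp hc hb),
    map_mk RG k g u ω' ω d α β hd hα hβ (lift_comp hd hα) (lift_comp hd hβ), h]

theorem Mt.congr {T' : Over S} {u g u' g' : T' ⟶ Z} {z : 𝒳.p.Fiber T'}
    {a b a' b' : z.1 ⟶ x.1} {ha : 𝒳.p.IsHomLift u a} {hb : 𝒳.p.IsHomLift g b} {ω : 𝒴.p.Fiber T'}
    {α β α' β' : ω.1 ⟶ y.1} {hα : 𝒴.p.IsHomLift u α} {hβ : 𝒴.p.IsHomLift g β} (h : Mt RF RG Φ ha hb hα hβ)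
    (e1 : a = a') (e2 : b = b') (e3 : α = α') (e4 : β = β') (ha' : 𝒳.p.IsHomLift u' a') (hb' : 𝒳.p.IsHomLift g' b')
    (hα' : 𝒴.p.IsHomLift u' α') (hβ' : 𝒴.p.IsHomLift g' β') : Mt RF RG Φ ha' hb' hα' hβ' := by
  subst e1 e2 e3 e4
  obtain rfl := base_unique ha ha'
  obtain rfl := base_unique hb hb'
  exact h

/-- Existence of the matching arrow. -/
theorem exists_mt (hπ : Φ ≫ RG.π = RF.π) (hl : Φ ≫ lft RG = lft RF) {T' : Over S} {u g : T' ⟶ Z} {z : 𝒳.p.Fiber T'}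
    {a b : z.1 ⟶ x.1} (ha : 𝒳.p.IsHomLift u a) (hb : 𝒳.p.IsHomLift g b) {ω : 𝒴.p.Fiber T'} {α : ω.1 ⟶ y.1}
    (hα : 𝒴.p.IsHomLift u α) : ∃ (β : ω.1 ⟶ y.1) (hβ : 𝒴.p.IsHomLift g β), Mt RF RG Φ ha hb hα hβ := by
  obtain ⟨g', u', ω', α', β', hα', hβ', e⟩ := exists_mk RG (mk RF g u z a b ha hb ≫ Φ)
  have e1 : g' = g := by
    apply (yon S).map_injective
    rw [← mk_π RG g' u' ω' α' β' hα' hβ', ← e, Category.assoc, hπ, mk_π]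
  have e2 : u' = u := by
    apply (yon S).map_injective
    rw [← mk_lft RG g' u' ω' α' β' hα' hβ', ← e, Category.assoc, hl, mk_lft]
  subst e1 e2
  have e3 := cmp_comp (p := 𝒴.p) u' (x := y) (x' := ω) (x'' := ω') α α'
  refine ⟨(cmpHom (p := 𝒴.p) u' (x := y) (x' := ω) (x'' := ω') α α').1 ≫ β',
    IsHomLift.comp_lift_id_left 𝒴.p g' β' _, ?_⟩
  unfold Mt
  rw [e, mk_eq_iff]
  refine ⟨inv (cmpHom (p := 𝒴.p) u' (x := y) (x' := ω) (x'' := ω') α α'), ?_, ?_⟩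
  · rw [inv_val, IsIso.inv_comp_eq, e3]
  · rw [inv_val, IsIso.inv_hom_id_assoc]

theorem mt_unique {T' : Over S} {u g : T' ⟶ Z} {z : 𝒳.p.Fiber T'}
    {a b : z.1 ⟶ x.1} {ha : 𝒳.p.IsHomLift u a} {hb : 𝒳.p.IsHomLift g b} {ω : 𝒴.p.Fiber T'} {α β β' : ω.1 ⟶ y.1}
    {hα : 𝒴.p.IsHomLift u α} {hβ : 𝒴.p.IsHomLift g β} {hβ' : 𝒴.p.IsHomLift g β'}
    (h : Mt RF RG Φ ha hb hα hβ) (h' : Mt RF RG Φ ha hb hα hβ') : β = β' := by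
  unfold Mt at *
  rw [h, mk_eq_iff] at h'
  obtain ⟨θ, h1, h2⟩ := h'
  have : θ = 𝟙 ω := hom_ext' (cancel (p := 𝒴.p) u (𝟙 T') α (by
    rw [h1, id_val, Category.id_comp]))
  rw [this, id_val, Category.id_comp] at h2
  exact h2.symm

/-- The matching in the other direction. -/
theorem Mt.symm {Ψ : G ⟶ F} (hΦ : Φ ≫ Ψ = 𝟙 F) {T' : Over S} {u g : T' ⟶ Z} {z : 𝒳.p.Fiber T'}
    {a b : z.1 ⟶ x.1} {ha : 𝒳.p.IsHomLift u a} {hb : 𝒳.p.IsHomLift g b} {ω : 𝒴.p.Fiber T'} {α β : ω.1 ⟶ y.1}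
    {hα : 𝒴.p.IsHomLift u α} {hβ : 𝒴.p.IsHomLift g β} (h : Mt RF RG Φ ha hb hα hβ) : Mt RG RF Ψ hα hβ ha hb := by
  unfold Mt at *
  rw [← h, Category.assoc, hΦ, Category.comp_id]

/-- Transitivity of the matching. -/
def Trans (RF : SpanRep x x F) (RG : SpanRep y y G) (Φ : F ⟶ G) : Prop :=
  ∀ {T' : Over S} {u₁ u₂ u₃ : T' ⟶ Z} {z : 𝒳.p.Fiber T'}
    {a₁ a₂ a₃ : z.1 ⟶ x.1} (ha₁ : 𝒳.p.IsHomLift u₁ a₁) (ha₂ : 𝒳.p.IsHomLift u₂ a₂) (ha₃ : 𝒳.p.IsHomLift u₃ a₃)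
    {ω : 𝒴.p.Fiber T'} {α₁ α₂ α₃ : ω.1 ⟶ y.1}
    (hα₁ : 𝒴.p.IsHomLift u₁ α₁) (hα₂ : 𝒴.p.IsHomLift u₂ α₂) (hα₃ : 𝒴.p.IsHomLift u₃ α₃),
    Mt RF RG Φ ha₁ ha₂ hα₁ hα₂ → Mt RF RG Φ ha₂ ha₃ hα₂ hα₃ → Mt RF RG Φ ha₁ ha₃ hα₁ hα₃

/-- index of the matching -/
structure Idx (x : 𝒳.p.Fiber Z) (y : 𝒴.p.Fiber Z) where
  /-- base -/
  T : Over S
  /-- arrow to the chart -/
  u : T ⟶ Z
  /-- object -/
  z : 𝒳.p.Fiber T
  /-- arrow -/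
  a : z.1 ⟶ x.1
  ha : 𝒳.p.IsHomLift u a
  /-- object -/
  ω : 𝒴.p.Fiber T
  /-- arrow -/
  α : ω.1 ⟶ y.1
  hα : 𝒴.p.IsHomLift u α

/-- The relation between arrows. -/
def RelI (RF : SpanRep x x F) (RG : SpanRep y y G) (Φ : F ⟶ G) (i j : Idx x y) (f : i.z.1 ⟶ j.z.1)
    (f' : i.ω.1 ⟶ j.ω.1) : Prop :=
  ∃ (g : i.T ⟶ j.T) (hf : 𝒳.p.IsHomLift g f) (hf' : 𝒴.p.IsHomLift g f'),
    Mt RF RG Φ i.ha (lift_comp hf j.ha) i.hα (lift_comp hf' j.hα)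

theorem relI_exists (hπ : Φ ≫ RG.π = RF.π) (hl : Φ ≫ lft RG = lft RF) (i j : Idx x y) (f : i.z.1 ⟶ j.z.1) :
    ∃ f', RelI RF RG Φ i j f f' := by
  obtain ⟨g, hg⟩ : ∃ g : i.T ⟶ j.T, 𝒳.p.IsHomLift g f := by
    have h1 := i.z.2
    have h2 := j.z.2
    exact ⟨eqToHom h1.symm ≫ 𝒳.p.map f ≫ eqToHom h2, IsHomLift.of_fac _ _ _ h1 h2 rfl⟩
  obtain ⟨β, hβ, h⟩ := exists_mt hπ hl i.ha (lift_comp hg j.ha) i.hα
  obtain ⟨f', hf', e⟩ := exists_fac (inferInstance : FibCat.IsFibGrpd 𝒴.p) j.hα hβ rfl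
  exact ⟨f', g, hg, hf', h.congr rfl rfl rfl e.symm _ _ _ _⟩

theorem relI_unique (i j : Idx x y) (f : i.z.1 ⟶ j.z.1) {f' f'' : i.ω.1 ⟶ j.ω.1}
    (h : RelI RF RG Φ i j f f') (h' : RelI RF RG Φ i j f f'') : f' = f'' := by
  obtain ⟨g, hf, hf', h⟩ := h
  obtain ⟨g', hf₂, hf'', h'⟩ := h'
  obtain rfl := base_unique hf hf₂
  have e := mt_unique h h'
  exact fac_unique (inferInstance : FibCat.IsFibGrpd 𝒴.p) j.α hf' hf'' e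

/-- swapped index -/
def Idx.swap (i : Idx x y) : Idx y x := ⟨i.T, i.u, i.ω, i.α, i.hα, i.z, i.a, i.ha⟩

theorem RelI.symm {Ψ : G ⟶ F} (hΦ : Φ ≫ Ψ = 𝟙 F) {i j : Idx x y} {f : i.z.1 ⟶ j.z.1} {f' : i.ω.1 ⟶ j.ω.1}
    (h : RelI RF RG Φ i j f f') : RelI RG RF Ψ i.swap j.swap f' f := by
  obtain ⟨g, hf, hf', h⟩ := h
  exact ⟨g, hf', hf, h.symm hΦ⟩

theorem exists_ρ (Φ : F ≅ G) (hπ : Φ.hom ≫ RG.π = RF.π) (hl : Φ.hom ≫ lft RG = lft RF) (i j : Idx x y) :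
    ∃ ρ : (i.z.1 ⟶ j.z.1) ≃ (i.ω.1 ⟶ j.ω.1), ∀ f, RelI RF RG Φ.hom i j f (ρ f) := by
  have hπ' : Φ.inv ≫ RF.π = RG.π := by rw [Iso.inv_comp_eq, hπ]
  have hl' : Φ.inv ≫ lft RF = lft RG := by rw [Iso.inv_comp_eq, hl]
  choose r hr using relI_exists (RF := RF) (RG := RG) hπ hl i j
  choose s hs using fun f' => relI_exists (RF := RG) (RG := RF) hπ' hl' i.swap j.swap f'
  refine ⟨⟨r, s, fun f => ?_, fun f' => ?_⟩, hr⟩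
  · exact relI_unique (RF := RG) (RG := RF) i.swap j.swap (r f) (hs (r f)) ((hr f).symm Φ.hom_inv_id)
  · exact relI_unique (RF := RF) (RG := RG) i j (s f') (hr (s f')) ((hs f').symm Φ.inv_hom_id)

/-- Equivalence from an isomorphism of groupoids. -/
theorem exists_isEquivOver (h𝒳 : Stk.IsStack (AlgSp.J S) 𝒳) (h𝒴 : Stk.IsStack (AlgSp.J S) 𝒴)
    (Φ : F ≅ G) (hπ : Φ.hom ≫ RG.π = RF.π) (hl : Φ.hom ≫ lft RG = lft RF) (ht : Trans RF RG Φ.hom)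
    (hx : LocSurj x.1) (hy : LocSurj y.1) : ∃ e : 𝒳 ⥤ᵇ 𝒴, FibCat.IsEquivOver e := by
  choose ρ hρ using exists_ρ (RF := RF) (RG := RG) Φ hπ hl
  have hp𝒳 : FibCat.IsFibGrpd 𝒳.p := inferInstance
  have hp𝒴 : FibCat.IsFibGrpd 𝒴.p := inferInstance
  let M : Graph.Match.{u + 1} 𝒳 𝒴 :=
    { I := Idx x y
      X := fun i => i.z.1
      Y := fun i => i.ω.1
      ρ := fun {i j} => ρ i j
      lift_iff := fun {i j} {U V} g f => by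
        obtain ⟨g₀, h1, h2, -⟩ := hρ i j f
        constructor
        · intro h
          obtain rfl : i.T = U := i.z.2.symm.trans (dom h)
          obtain rfl : j.T = V := j.z.2.symm.trans (cod h)
          rwa [base_unique h h1]
        · intro h
          obtain rfl : i.T = U := i.ω.2.symm.trans (dom h)
          obtain rfl : j.T = V := j.ω.2.symm.trans (cod h)
          rwa [base_unique h h2]
      ρ_comp := fun {i j k} f g => by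
        obtain ⟨g₁, hf, hf', h1⟩ := hρ i j f
        obtain ⟨g₂, hg, hg', h2⟩ := hρ j k g
        refine relI_unique (RF := RF) (RG := RG) i k (f ≫ g) (hρ i k (f ≫ g)) ⟨g₁ ≫ g₂, lift_comp hf hg, lift_comp hf' hg', ?_⟩
        have h3 := h2.res hf hf'
        have h4 := ht _ _ _ _ _ _ h1 h3
        exact h4.congr rfl (Category.assoc _ _ _).symm rfl (Category.assoc _ _ _).symm _ _ _ _
      res := fun i {T V} g h => by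
        obtain rfl : i.T = V := i.z.2.symm.trans h
        have l1 : 𝒳.p.IsHomLift g (pullHom (p := 𝒳.p) g i.z) := pullHom_isHomLift _ _
        have l2 : 𝒴.p.IsHomLift g (pullHom (p := 𝒴.p) g i.ω) := pullHom_isHomLift _ _
        exact ⟨⟨T, g ≫ i.u, pull g i.z, pullHom (p := 𝒳.p) g i.z ≫ i.a, lift_comp l1 i.ha,
          pull g i.ω, pullHom (p := 𝒴.p) g i.ω ≫ i.α, lift_comp l2 i.hα⟩, pullHom (p := 𝒳.p) g i.z, l1⟩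
      locX := fun t => by
        obtain ⟨V, f, v, α, β, hf, hα⟩ := hx t
        have hv : 𝒳.p.obj v = V := dom hα
        obtain ⟨u, hu⟩ : ∃ u : V ⟶ Z, 𝒳.p.IsHomLift u β := by
          have h2 := x.2
          exact ⟨eqToHom hv.symm ≫ 𝒳.p.map β ≫ eqToHom h2, IsHomLift.of_fac _ _ _ hv h2 rfl⟩
        have l2 : 𝒴.p.IsHomLift u (pullHom (p := 𝒴.p) u y) := pullHom_isHomLift _ _
        exact ⟨V, f, ⟨V, u, ⟨v, hv⟩, β, hu, pull u y, pullHom (p := 𝒴.p) u y, l2⟩, α, hf, hα⟩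
      locY := fun t => by
        obtain ⟨V, f, v, α, β, hf, hα⟩ := hy t
        have hv : 𝒴.p.obj v = V := dom hα
        obtain ⟨u, hu⟩ : ∃ u : V ⟶ Z, 𝒴.p.IsHomLift u β := by
          have h2 := y.2
          exact ⟨eqToHom hv.symm ≫ 𝒴.p.map β ≫ eqToHom h2, IsHomLift.of_fac _ _ _ hv h2 rfl⟩
        have l2 : 𝒳.p.IsHomLift u (pullHom (p := 𝒳.p) u x) := pullHom_isHomLift _ _
        exact ⟨V, f, ⟨V, u, pull u x, pullHom (p := 𝒳.p) u x, l2, ⟨v, hv⟩, β, hu⟩, α, hf, hα⟩ }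
  exact Graph.exists_isEquivOver M h𝒳 h𝒴

end K864.GpdMatch
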