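import Groth.Agent.IsoNat.K864.ThRestr
import Groth.Agent.IsoNat.K864.GpdMatch

/-!
# Equivalences from corresponding locally generating objects with abelian automorphisms over the final object
-/

set_option autoImplicit false
set_option linter.unusedSectionVars false
set_option backward.isDefEq.respectTransparency false
set_option backward.isDefEq.respectTransparency.types false

universe u

open CategoryTheory CategoryTheory.Limits AlgebraicGeometry Opposite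
open K613.Cover

namespace K864.AbMatch

open K863.Arr K863.Frame K863.Rel K863.KSet K863.Corr K863.Abel K863.AutEquiv K864.Prd K864.Cross
open K864.ThRestr K864.GpdMatch

variable {S : Scheme.{u}} {𝒳 𝒴 : AlgSt.Cat S}

theorem locSurj_right {φ : IsoNat.FIso 𝒳 𝒴} (h𝒴 : FibCat.IsFibGrpd 𝒴.p)
    {T : Over S} {x : 𝒳.p.Fiber T} {y : 𝒴.p.Fiber T} (h : Corr φ x.2 y.2) (hx : LocSurj x.1) : LocSurj y.1 := by
  intro t'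
  obtain ⟨t, ht, hc⟩ := exists_left φ (rfl : 𝒴.p.obj t' = 𝒴.p.obj t')
  obtain ⟨V, f, v, α, β, hf, hα⟩ := hx t
  have hv : 𝒳.p.obj v = V := dom hα
  obtain ⟨V, rfl⟩ : ∃ W, W = V := ⟨_, rfl⟩
  subst hv
  obtain ⟨v', hv', hc'⟩ := exists_right φ (rfl : 𝒳.p.obj v = 𝒳.p.obj v)
  obtain ⟨g, hg, hfg⟩ : ∃ g : 𝒳.p.obj v ⟶ 𝒴.p.obj t', FpC g ∧ 𝒳.p.IsHomLift g α := by
    clear hc hc'
    generalize 𝒴.p.obj t' = W at ht
    subst ht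
    exact ⟨f, hf, hα⟩
  obtain ⟨a, ha⟩ := arrow_right h𝒴 hc hc' α hfg
  obtain ⟨k, hk⟩ : ∃ k : 𝒳.p.obj v ⟶ T, 𝒳.p.IsHomLift k β := by
    have h2 := x.2
    exact ⟨𝒳.p.map β ≫ eqToHom h2, IsHomLift.of_fac _ _ _ rfl h2 (by simp)⟩
  obtain ⟨b, hb⟩ := arrow_right h𝒴 h hc' β hk
  exact ⟨_, g, v', a, b, hg, ha⟩

/-- index of the matching -/
structure Idx {T₀ : Over S} (x : 𝒳.p.Fiber T₀) (y : 𝒴.p.Fiber T₀) where
  /-- base -/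
  T : Over S
  /-- object -/
  z : 𝒳.p.Fiber T
  /-- arrow -/
  a : z.1 ⟶ x.1
  /-- object -/
  ω : 𝒴.p.Fiber T
  /-- arrow -/
  α : ω.1 ⟶ y.1

section

variable {φ : IsoNat.FIso 𝒳 𝒴} (h𝒳 : Stk.IsStack (AlgSp.J S) 𝒳) (h𝒴 : Stk.IsStack (AlgSp.J S) 𝒴)
  (hd𝒳 : AlgSt.RepByAlgSpWith (AlgSp.IsSeparatedMor ⊓ AlgSp.IsQuasiCompactMor)
      (FibCat.diag (FibCat.toSelf 𝒳)))
  (hd𝒴 : AlgSt.RepByAlgSpWith (AlgSp.IsSeparatedMor ⊓ AlgSp.IsQuasiCompactMor)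
      (FibCat.diag (FibCat.toSelf 𝒴)))
  {T₀ : Over S} (hT₀ : IsTerminal T₀) {x : 𝒳.p.Fiber T₀} {y : 𝒴.p.Fiber T₀} (hxy : Corr φ x.2 y.2)

/-- The relation between arrows. -/
def RelI (φ : IsoNat.FIso 𝒳 𝒴) (h𝒳 : FibCat.IsFibGrpd 𝒳.p) (h𝒴 : FibCat.IsFibGrpd 𝒴.p) (i j : Idx x y)
    (f : i.z.1 ⟶ j.z.1) (f' : i.ω.1 ⟶ j.ω.1) : Prop :=
  ∃ (g : i.T ⟶ j.T) (_ : 𝒳.p.IsHomLift g f) (_ : 𝒴.p.IsHomLift g f') (h : i.z ⟶ i.z) (h' : i.ω ⟶ i.ω),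
    h.1 ≫ i.a = f ≫ j.a ∧ h'.1 ≫ i.α = f' ≫ j.α ∧ Th φ h𝒳 h𝒴 h h'

include hT₀ in
theorem lift_term {T : Over S} {z : 𝒳.p.Fiber T} (a : z.1 ⟶ x.1) : 𝒳.p.IsHomLift (hT₀.from T) a := by
  have h1 := z.2
  have h2 := x.2
  exact IsHomLift.of_fac _ _ _ h1 h2 (hT₀.hom_ext _ _)

include h𝒴 hT₀ hxy in
theorem corr_idx (i : Idx x y) : Corr φ i.z.2 i.ω.2 :=
  corr_pull h𝒴.1 hxy (lift_term hT₀ i.a) (lift_term hT₀ i.α)

include h𝒳 h𝒴 hT₀ hxy in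
theorem relI_exists (i j : Idx x y) (f : i.z.1 ⟶ j.z.1) : ∃ f', RelI φ h𝒳.1 h𝒴.1 i j f f' := by
  obtain ⟨g, hg⟩ : ∃ g : i.T ⟶ j.T, 𝒳.p.IsHomLift g f := by
    have h1 := i.z.2
    have h2 := j.z.2
    exact ⟨eqToHom h1.symm ≫ 𝒳.p.map f ≫ eqToHom h2, IsHomLift.of_fac _ _ _ h1 h2 rfl⟩
  obtain ⟨h, hh, e⟩ := exists_vert h𝒳.1 (lift_term hT₀ i.a)
    (lift_comp' hg (lift_term hT₀ j.a) (hT₀.hom_ext _ _))
  obtain ⟨h', hh'⟩ := exists_Th h𝒳 h𝒴 (corr_idx h𝒴 hT₀ hxy i) ⟨h, hh⟩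
  obtain ⟨f', hf', e'⟩ := exists_fac h𝒴.1 (lift_term hT₀ j.α) (lift_id_comp h'.2 (lift_term hT₀ i.α))
    (hT₀.hom_ext (g ≫ hT₀.from _) _)
  exact ⟨f', g, hg, hf', ⟨h, hh⟩, h', e, e'.symm, hh'⟩

include hd𝒴 hT₀ in
theorem relI_unique (hab : ∀ (i : Idx x y) (h k : i.ω ⟶ i.ω), h ≫ k = k ≫ h) (i j : Idx x y) (f : i.z.1 ⟶ j.z.1)
    {f' f'' : i.ω.1 ⟶ j.ω.1} (h : RelI φ h𝒳.1 h𝒴.1 i j f f') (h' : RelI φ h𝒳.1 h𝒴.1 i j f f'') : f' = f'' := by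
  obtain ⟨g, hf, hf', k, k', e1, e2, e3⟩ := h
  obtain ⟨g', hf₂, hf'', l, l', e1', e2', e3'⟩ := h'
  obtain rfl := base_unique hf hf₂
  have q : k = l := Subtype.ext (fac_unique h𝒳.1 i.a k.2 l.2 (by rw [e1, e1']))
  subst q
  have q' := Th.right_unique h𝒳 h𝒴 hd𝒴 (hab i) e3 e3'
  subst q'
  exact fac_unique h𝒴.1 j.α hf' hf'' (by rw [← e2, ← e2'])

theorem th_symm {T : Over S} {η : 𝒳.p.Fiber T} {η' : 𝒴.p.Fiber T} {a : η ⟶ η} {a' : η' ⟶ η'}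
    (h : Th φ h𝒳.1 h𝒴.1 a a') : Th (K863.Corr.symm φ h𝒳.1 h𝒴.1) h𝒴.1 h𝒳.1 a' a := by
  obtain ⟨F, F', hF, hF', hc, r, r'⟩ := h
  exact ⟨F', F, hF', hF, corr_symm hc, r', r⟩

/-- swapped index -/
def Idx.swap (i : Idx x y) : Idx y x := ⟨i.T, i.ω, i.α, i.z, i.a⟩

theorem RelI.symm {i j : Idx x y} {f : i.z.1 ⟶ j.z.1} {f' : i.ω.1 ⟶ j.ω.1}
    (h : RelI φ h𝒳.1 h𝒴.1 i j f f') :
    RelI (K863.Corr.symm φ h𝒳.1 h𝒴.1) h𝒴.1 h𝒳.1 i.swap j.swap f' f := by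
  obtain ⟨g, hf, hf', k, k', e1, e2, e3⟩ := h
  exact ⟨g, hf', hf, k', k, e2, e1, th_symm h𝒳 h𝒴 e3⟩

include h𝒳 h𝒴 hd𝒳 hd𝒴 hT₀ hxy in
theorem exists_ρ (hab : ∀ (i : Idx x y) (h k : i.z ⟶ i.z), h ≫ k = k ≫ h)
    (hab' : ∀ (i : Idx x y) (h k : i.ω ⟶ i.ω), h ≫ k = k ≫ h) (i j : Idx x y) :
    ∃ ρ : (i.z.1 ⟶ j.z.1) ≃ (i.ω.1 ⟶ j.ω.1), ∀ f, RelI φ h𝒳.1 h𝒴.1 i j f (ρ f) := by
  choose r hr using relI_exists h𝒳 h𝒴 hT₀ hxy i j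
  choose s hs using fun f' => relI_exists h𝒴 h𝒳 hT₀ (corr_symm (h𝒳 := h𝒳.1) (h𝒴 := h𝒴.1) hxy) i.swap j.swap f'
  refine ⟨⟨r, s, fun f => ?_, fun f' => ?_⟩, hr⟩
  · exact relI_unique h𝒴 h𝒳 hd𝒳 hT₀ (fun k => hab k.swap) i.swap j.swap (r f) (hs (r f)) (RelI.symm h𝒳 h𝒴 (hr f))
  · have h1 := RelI.symm h𝒴 h𝒳 (hs f')
    exact relI_unique h𝒳 h𝒴 hd𝒴 hT₀ hab' i j (s f') (hr (s f')) (by
      obtain ⟨g, hf, hf', k, k', e1, e2, e3⟩ := hs f'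
      obtain ⟨F, F', hF, hF', hc, r, r'⟩ := e3
      have hc' : Corr φ hF' hF := by
        have h2 : (φ.toEquiv _).symm (IsoNat.cls ⟨F, hF⟩) = IsoNat.cls ⟨F', hF'⟩ := hc
        rw [Equiv.symm_apply_eq] at h2
        exact h2.symm
      exact ⟨g, hf', hf, k', k, e2, e1, ⟨F', F, hF', hF, hc', r', r⟩⟩)

include h𝒳 h𝒴 hd𝒳 hd𝒴 hT₀ hxy in
/-- Equivalence from corresponding objects over the final object which generate locally and have abelian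
automorphism sheaves. -/
theorem exists_isEquivOver (hab : IsoNat.IsAutAbelian x) (hx : LocSurj x.1) :
    ∃ e : 𝒳 ⥤ᵇ 𝒴, FibCat.IsEquivOver e := by
  have hab' : IsoNat.IsAutAbelian y := abelian_right h𝒳 h𝒴 hd𝒴 hxy hab
  have hy : LocSurj y.1 := locSurj_right h𝒴.1 hxy hx
  have c1 : ∀ (i : Idx x y) (h k : i.z ⟶ i.z), h ≫ k = k ≫ h := fun i h k => comm_of_aut h𝒳.1 hab i.a h k
  have c2 : ∀ (i : Idx x y) (h k : i.ω ⟶ i.ω), h ≫ k = k ≫ h := fun i h k => comm_of_aut h𝒴.1 hab' i.α h k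
  choose ρ hρ using exists_ρ h𝒳 h𝒴 hd𝒳 hd𝒴 hT₀ hxy c1 c2
  let M : Graph.Match.{u + 1} 𝒳 𝒴 :=
    { I := Idx x y
      X := fun i => i.z.1
      Y := fun i => i.ω.1
      ρ := fun {i j} => ρ i j
      lift_iff := fun {i j} {U V} g f => by
        obtain ⟨g₀, h1, h2, -⟩ := hρ i j f
        constructor
        · intro h
          obtain rfl : i.T = U := i.z.2.symm.trans (dom h)
          obtain rfl : j.T = V := j.z.2.symm.trans (cod h)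
          rwa [base_unique h h1]
        · intro h
          obtain rfl : i.T = U := i.ω.2.symm.trans (dom h)
          obtain rfl : j.T = V := j.ω.2.symm.trans (cod h)
          rwa [base_unique h h2]
      ρ_comp := fun {i j k} f g => by
        obtain ⟨g₁, hf, hf', h1, h1', e1, e1', t1⟩ := hρ i j f
        obtain ⟨g₂, hg, hg', h2, h2', e2, e2', t2⟩ := hρ j k g
        obtain ⟨r, hr, er⟩ := exists_restr h𝒳.1 hf hf h2.2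
        obtain ⟨r', hr', er'⟩ := exists_restr h𝒴.1 hf' hf' h2'.2
        have t3 : Th φ h𝒳.1 h𝒴.1 (⟨r, hr⟩ : i.z ⟶ i.z) (⟨r', hr'⟩ : i.ω ⟶ i.ω) := Th.restr hf hf' t2 er er'
        refine relI_unique h𝒳 h𝒴 hd𝒴 hT₀ c2 i k (f ≫ g) (hρ i k (f ≫ g)) ⟨g₁ ≫ g₂, lift_comp hf hg,
          lift_comp hf' hg', (⟨r, hr⟩ : i.z ⟶ i.z) ≫ h1, (⟨r', hr'⟩ : i.ω ⟶ i.ω) ≫ h1', ?_, ?_, ?_⟩
        · change (r ≫ h1.1) ≫ i.a = _
          rw [Category.assoc, e1, ← Category.assoc, er, Category.assoc, e2, Category.assoc]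
        · change (r' ≫ h1'.1) ≫ i.α = _
          rw [Category.assoc, e1', ← Category.assoc, er', Category.assoc, e2', Category.assoc]
        · exact Th.mul h𝒳 h𝒴 (comm_E h𝒴.1 (fun T' w b s t => hab' T' w (b ≫ i.α) s t)) t1 t3
      res := fun i {T V} g h => by
        obtain rfl : i.T = V := i.z.2.symm.trans h
        obtain ⟨z, f, hf⟩ := exists_lift h𝒳.1 i.z.2 g
        obtain ⟨w, f', hf'⟩ := exists_lift h𝒴.1 i.ω.2 g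
        exact ⟨⟨T, ⟨z, dom hf⟩, f ≫ i.a, ⟨w, dom hf'⟩, f' ≫ i.α⟩, f, hf⟩
      locX := fun t => by
        obtain ⟨V, f, v, α, β, hf, hα⟩ := hx t
        obtain ⟨w, b, hb⟩ := exists_lift h𝒴.1 y.2 (hT₀.from V)
        exact ⟨V, f, ⟨V, ⟨v, dom hα⟩, β, ⟨w, dom hb⟩, b⟩, α, hf, hα⟩
      locY := fun t => by
        obtain ⟨V, f, v, α, β, hf, hα⟩ := hy t
        obtain ⟨w, b, hb⟩ := exists_lift h𝒳.1 x.2 (hT₀.from V)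
        exact ⟨V, f, ⟨V, ⟨w, dom hb⟩, b, ⟨v, dom hα⟩, β⟩, α, hf, hα⟩ }
  exact Graph.exists_isEquivOver M h𝒳 h𝒴

end

end K864.AbMatch
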