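import Groth.Agent.AlgSt.K744.TorsProp
import Groth.Agent.IsoNat.K864.AbMatch

/-!
# The classifying stack of a commutative group: the trivial torsor generates locally and has abelian automorphisms
-/

set_option autoImplicit false
set_option linter.unusedSectionVars false
set_option backward.isDefEq.respectTransparency false
set_option backward.isDefEq.respectTransparency.types false

universe u

open CategoryTheory CategoryTheory.Limits MonoidalCategory CartesianMonoidalCategory MonObj GrpObj AlgebraicGeometry Opposite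
open Groth.Agent.Books.BorelOrb AlgSt K613.Cover
open K744.Quot

namespace K864.BG

variable {S : Scheme.{u}} {G : Over S} [GrpObj G]

/-- The `T`-point of the final object. -/
noncomputable def aT (T : Over S) : (ofSch (𝟙_ (Over S))).obj := ⟨T, ⟨toUnit T⟩⟩

/-- The trivial torsor over `T`. -/
noncomputable def tv (G : Over S) [GrpObj G] (T : Over S) : QuotObj Scheme.fppfPrecoverage G (trivAction G) :=
  (quotMap Scheme.fppfPrecoverage G (trivAction G)).obj (aT T)

theorem tv_base (T : Over S) : (tv G T).base = T := rfl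

theorem locSurj : GpdMatch.LocSurj (𝒳 := BG Scheme.fppfPrecoverage G) (tv G (𝟙_ (Over S))) := by
  intro t
  obtain ⟨T', c, h1, h2, h3, s, hs⟩ := K744.TorsProp.exists_cover t
  let V : Over S := Over.mk (c ≫ t.base.hom)
  let f : V ⟶ t.base := Over.homMk c
  let p : V ⟶ t.P := Over.homMk s (by
    have := Over.w t.π
    change s ≫ t.P.hom = c ≫ t.base.hom
    rw [← this, ← hs, Category.assoc])
  have hp : p ≫ t.π = f := Over.OverMorphism.ext hs
  let α : tv G V ⟶ t := tau t (aT V) p (toUnit_unique _ _)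
  let q : aT V ⟶ aT (𝟙_ (Over S)) := ⟨toUnit V, ULift.ext _ _ (toUnit_unique _ _)⟩
  let β : tv G V ⟶ tv G (𝟙_ (Over S)) := (quotMap Scheme.fppfPrecoverage G (trivAction G)).map q
  refine ⟨V, f, tv G V, α, β, ⟨h2, h3, h1⟩, ?_⟩
  have e : (BG Scheme.fppfPrecoverage G).p.map α = f := hp
  rw [← e]
  exact IsHomLift.map _ _

theorem base_eq {A : QuotObj Scheme.fppfPrecoverage G (trivAction G)} {T : Over S} {s : A ⟶ A}
    (h : (BG Scheme.fppfPrecoverage G).p.IsHomLift (𝟙 T) s) : s.base = 𝟙 A.base := by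
  have e := K863.Arr.dom h
  change A.base = T at e
  subst e
  exact (K863.Arr.base_unique (IsHomLift.map _ _) h : _ = 𝟙 A.base)

variable [IsCommMonObj G]

theorem comm {A : QuotObj Scheme.fppfPrecoverage G (trivAction G)} {s t : A ⟶ A} (hs : s.base = 𝟙 A.base)
    (ht : t.base = 𝟙 A.base) : s ≫ t = t ≫ s := by
  have w : ∀ {s : A ⟶ A}, s.base = 𝟙 A.base → ∃ g : A.P ⟶ G, sm A.act g (𝟙 _) = s.top := by
    intro s hs
    have h1 : s.top ≫ A.π = 𝟙 _ ≫ A.π := by rw [s.cart.w, hs, Category.id_comp, Category.comp_id]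
    exact (existsUnique_transporter A s.top (𝟙 _) h1).exists
  obtain ⟨g, hg⟩ := w hs
  obtain ⟨h, hh⟩ := w ht
  have c1 : ∀ {s t : A ⟶ A} {g h : A.P ⟶ G}, sm A.act g (𝟙 _) = s.top → sm A.act h (𝟙 _) = t.top →
      s.top ≫ t.top = sm A.act (g * h) (𝟙 _) := by
    intro s t g h hg hh
    rw [← hg, sm_comp_of_eqv t.eqv, Category.id_comp, mul_sm, hh]
  refine QuotObj.hom_ext ?_ ?_
  · change s.base ≫ t.base = t.base ≫ s.base
    rw [hs, ht]
  · change s.top ≫ t.top = t.top ≫ s.top
    rw [c1 hg hh, c1 hh hg, _root_.mul_comm]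

theorem isAutAbelian {T : Over S} (x₀ : (BG Scheme.fppfPrecoverage G).p.Fiber T) : IsoNat.IsAutAbelian x₀ := by
  intro T' x _ s t
  refine Iso.ext (Subtype.ext ?_)
  change t.hom.1 ≫ s.hom.1 = s.hom.1 ≫ t.hom.1
  exact comm (base_eq t.hom.2) (base_eq s.hom.2)

end K864.BG
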