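import Groth.Agent.IsoNat.K863.Glue
import Groth.Agent.IsoNat.K862.Equiv
import Groth.Agent.AlgSp.K613.Cover

/-!
# Equivalences of stacks from matching locally generating families of objects

`Match 𝒳 𝒴`: families of objects `X i` of `𝒳` and `Y i` of `𝒴` over the same schemes with functorial bijections
`(X i ⟶ X j) ≃ (Y i ⟶ Y j)` over the base, stable under pullback and such that every object of `𝒳` (of `𝒴`) is fppf locally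
isomorphic to some `X i` (some `Y i`).  `exists_isEquivOver`: then `𝒳` and `𝒴` are equivalent (both stacks).
-/

set_option autoImplicit false
set_option linter.unusedSectionVars false
set_option backward.isDefEq.respectTransparency false
set_option backward.isDefEq.respectTransparency.types false

universe w v₃ u₃ v₂ u₂ u

open CategoryTheory CategoryTheory.Limits AlgebraicGeometry

namespace K864.Graph

open K863.Arr K863.Glue K613.Cover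

variable {S : Scheme.{u}}

section Glue

variable {𝒳 : BasedCategory.{v₂, u₂} (Over S)}

theorem mem_single {T V : Over S} {f : V ⟶ T} (hf : FpC f) :
    Sieve.ofArrows (fun _ : PUnit.{u + 1} => V) (fun _ => f) ∈ AlgSp.J S T :=
  K613.Basic.mem_J _ _ (fun _ => hf.flat) (fun _ => hf.lfp) (fun t => ⟨PUnit.unit, hf.surj.surj t⟩)

theorem isStackFor_single (hst : Stk.IsStack (AlgSp.J S) 𝒳) {T V : Over S} {f : V ⟶ T} (hf : FpC f) :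
    Stk.IsStackFor (Sieve.ofArrows (fun _ : PUnit.{u + 1} => V) (fun _ => f)) 𝒳 :=
  hst.2 _ (mem_single hf)

theorem isPrestackFor_single (hst : Stk.IsStack (AlgSp.J S) 𝒳) {T V : Over S} {f : V ⟶ T} (hf : FpC f) :
    Stk.IsPrestackFor (Sieve.ofArrows (fun _ : PUnit.{u + 1} => V) (fun _ => f)) 𝒳 := by
  have : (Stk.resSieve (Sieve.ofArrows (fun _ : PUnit.{u + 1} => V) (fun _ => f)) 𝒳).IsEquivalence :=
    isStackFor_single hst hf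
  exact ⟨inferInstance, inferInstance⟩

theorem glue_hom (hst : Stk.IsStack (AlgSp.J S) 𝒳) {T V : Over S} {f : V ⟶ T} (hf : FpC f) {z w : 𝒳.obj}
    (hz : 𝒳.p.obj z = T) {W : Over S} (hw : 𝒳.p.obj w = W) (g : T ⟶ W) {x : 𝒳.obj} (ζ : x ⟶ z)
    (hζ : 𝒳.p.IsHomLift f ζ) (γ : x ⟶ w) (hγ : 𝒳.p.IsHomLift (f ≫ g) γ)
    (H : ∀ {T' : Over S} (a b : T' ⟶ V) (t : 𝒳.obj) (α β : t ⟶ x), 𝒳.p.IsHomLift a α →
      𝒳.p.IsHomLift b β → α ≫ ζ = β ≫ ζ → α ≫ γ = β ≫ γ) :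
    ∃ γ' : z ⟶ w, 𝒳.p.IsHomLift g γ' ∧ ζ ≫ γ' = γ := by
  obtain ⟨γ', h1, h2⟩ := exists_hom_fam hst.1 (I := PUnit.{u + 1}) (V := fun _ => V) (fun _ => f)
    (isPrestackFor_single hst hf) hz hw g (fun _ => x) (fun _ => ζ) (fun _ => hζ) (fun _ => γ) (fun _ => hγ)
    (fun _ _ _ a b t α β ha hb e => H a b t α β ha hb e)
  exact ⟨γ', h1, h2 PUnit.unit⟩

theorem hom_unique (hst : Stk.IsStack (AlgSp.J S) 𝒳) {T V : Over S} {f : V ⟶ T} (hf : FpC f) {z w : 𝒳.obj}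
    {W : Over S} {g : T ⟶ W} {x : 𝒳.obj} (ζ : x ⟶ z)
    (hζ : 𝒳.p.IsHomLift f ζ) {γ γ' : z ⟶ w} (hγ : 𝒳.p.IsHomLift g γ) (hγ' : 𝒳.p.IsHomLift g γ')
    (H : ζ ≫ γ = ζ ≫ γ') : γ = γ' :=
  hom_unique_fam hst.1 (I := PUnit.{u + 1}) (V := fun _ => V) (fun _ => f)
    (isPrestackFor_single hst hf) (cod hζ) (fun _ => x) (fun _ => ζ) (fun _ => hζ) hγ hγ' (fun _ => H)

theorem glue_obj (hst : Stk.IsStack (AlgSp.J S) 𝒳) {T V : Over S} {f : V ⟶ T} (hf : FpC f) {x : 𝒳.obj}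
    (hx : 𝒳.p.obj x = V)
    (m : ∀ {T' : Over S} (a b : T' ⟶ V) (_ : a ≫ f = b ≫ f) (t : 𝒳.obj)
      (α : t ⟶ x) (_ : 𝒳.p.IsHomLift a α), t ⟶ x)
    (m_lift : ∀ {T' : Over S} (a b : T' ⟶ V) (e : a ≫ f = b ≫ f) (t : 𝒳.obj)
      (α : t ⟶ x) (hα : 𝒳.p.IsHomLift a α), 𝒳.p.IsHomLift b (m a b e t α hα))
    (m_nat : ∀ {T' T'' : Over S} (a b : T' ⟶ V) (e : a ≫ f = b ≫ f)
      (κ : T'' ⟶ T') (t t' : 𝒳.obj) (α : t ⟶ x) (hα : 𝒳.p.IsHomLift a α) (k : t' ⟶ t)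
      (hk : 𝒳.p.IsHomLift κ k) (e' : (κ ≫ a) ≫ f = (κ ≫ b) ≫ f),
      m (κ ≫ a) (κ ≫ b) e' t' (k ≫ α) (lift_comp hk hα) = k ≫ m a b e t α hα)
    (m_comp : ∀ {T' : Over S} (a b c : T' ⟶ V)
      (e : a ≫ f = b ≫ f) (e' : b ≫ f = c ≫ f) (t : 𝒳.obj) (α : t ⟶ x)
      (hα : 𝒳.p.IsHomLift a α),
      m b c e' t (m a b e t α hα) (m_lift a b e t α hα) = m a c (e.trans e') t α hα)
    (m_self : ∀ {T' : Over S} (a : T' ⟶ V) (t : 𝒳.obj) (α : t ⟶ x)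
      (hα : 𝒳.p.IsHomLift a α), m a a rfl t α hα = α) :
    ∃ (z : 𝒳.obj) (_ : 𝒳.p.obj z = T) (ζ : x ⟶ z), 𝒳.p.IsHomLift f ζ ∧
      ∀ {T' : Over S} (a b : T' ⟶ V) (e : a ≫ f = b ≫ f) (t : 𝒳.obj)
        (α : t ⟶ x) (hα : 𝒳.p.IsHomLift a α), m a b e t α hα ≫ ζ = α ≫ ζ := by
  obtain ⟨z, hz, ζ, h1, h2⟩ := exists_obj_fam hst.1 (I := PUnit.{u + 1}) (V := fun _ => V) (fun _ => f)
    (isStackFor_single hst hf) (fun _ => x) (fun _ => hx)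
    (fun a b e t α hα => m a b e t α hα) (fun a b e t α hα => m_lift a b e t α hα)
    (fun a b e κ t t' α hα k hk e' => m_nat a b e κ t t' α hα k hk e')
    (fun a b c e e' t α hα => m_comp a b c e e' t α hα)
    (fun a t α hα => m_self a t α hα)
  exact ⟨z, hz, ζ PUnit.unit, h1 PUnit.unit, fun a b e t α hα => h2 (i := PUnit.unit) (j := PUnit.unit) a b e t α hα⟩

end Glue

/-- Matching families of objects in two categories over `(Sch/S)`. -/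
structure Match (𝒳 : BasedCategory.{v₂, u₂} (Over S)) (𝒴 : BasedCategory.{v₃, u₃} (Over S)) where
  /-- index -/
  I : Type w
  /-- objects of the first category -/
  X : I → 𝒳.obj
  /-- objects of the second category -/
  Y : I → 𝒴.obj
  /-- the bijections of arrows -/
  ρ : ∀ {i j : I}, (X i ⟶ X j) ≃ (Y i ⟶ Y j)
  lift_iff : ∀ {i j : I} {U V : Over S} (g : U ⟶ V) (f : X i ⟶ X j),
    𝒳.p.IsHomLift g f ↔ 𝒴.p.IsHomLift g (ρ f)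
  ρ_comp : ∀ {i j k : I} (f : X i ⟶ X j) (g : X j ⟶ X k), ρ (f ≫ g) = ρ f ≫ ρ g
  res : ∀ (i : I) {T V : Over S} (g : T ⟶ V), 𝒳.p.obj (X i) = V →
    ∃ (j : I) (f : X j ⟶ X i), 𝒳.p.IsHomLift g f
  locX : ∀ (x : 𝒳.obj), ∃ (V : Over S) (f : V ⟶ 𝒳.p.obj x) (j : I) (α : X j ⟶ x),
    FpC f ∧ 𝒳.p.IsHomLift f α
  locY : ∀ (y : 𝒴.obj), ∃ (V : Over S) (f : V ⟶ 𝒴.p.obj y) (j : I) (β : Y j ⟶ y),
    FpC f ∧ 𝒴.p.IsHomLift f β

namespace Match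

variable {𝒳 : BasedCategory.{v₂, u₂} (Over S)} {𝒴 : BasedCategory.{v₃, u₃} (Over S)} (M : Match.{w} 𝒳 𝒴)

theorem obj_eq (i : M.I) : 𝒳.p.obj (M.X i) = 𝒴.p.obj (M.Y i) :=
  (dom ((M.lift_iff (𝟙 _) (𝟙 (M.X i))).1 (lift_id rfl))).symm

theorem lift_iff_symm {i j : M.I} {U V : Over S} (g : U ⟶ V) (f : M.Y i ⟶ M.Y j) :
    𝒴.p.IsHomLift g f ↔ 𝒳.p.IsHomLift g (M.ρ.symm f) := by
  rw [M.lift_iff, Equiv.apply_symm_apply]

/-- The symmetric situation. -/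
def symm : Match.{w} 𝒴 𝒳 where
  I := M.I
  X := M.Y
  Y := M.X
  ρ := M.ρ.symm
  lift_iff := M.lift_iff_symm
  ρ_comp f g := by
    rw [Equiv.symm_apply_eq, M.ρ_comp, Equiv.apply_symm_apply, Equiv.apply_symm_apply]
  res i T V g h := by
    obtain ⟨j, f, hf⟩ := M.res i g ((M.obj_eq i).trans h)
    exact ⟨j, M.ρ f, (M.lift_iff _ _).1 hf⟩
  locX := M.locY
  locY := M.locX

theorem symm_ρ {i j : M.I} (f : M.Y i ⟶ M.Y j) : M.symm.ρ f = M.ρ.symm f := rfl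

theorem ρ_inj {i j : M.I} {f g : M.X i ⟶ M.X j} (h : M.ρ f = M.ρ g) : f = g := M.ρ.injective h

theorem exists_ρ {i j : M.I} (f : M.Y i ⟶ M.Y j) {U V : Over S} {g : U ⟶ V} (hf : 𝒴.p.IsHomLift g f) :
    ∃ f' : M.X i ⟶ M.X j, M.ρ f' = f ∧ 𝒳.p.IsHomLift g f' :=
  ⟨M.ρ.symm f, Equiv.apply_symm_apply _ _, (M.lift_iff_symm _ _).1 hf⟩

theorem exists_iso (hY : FibCat.IsFibGrpd 𝒴.p) {j : M.I} {t : 𝒴.obj} {γ : t ⟶ M.Y j} {T V : Over S}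
    {a : T ⟶ V} (hγ : 𝒴.p.IsHomLift a γ) : ∃ (i : M.I) (κ : M.Y i ⟶ t) (r : M.X i ⟶ M.X j),
      𝒴.p.IsHomLift (𝟙 T) κ ∧ 𝒳.p.IsHomLift a r ∧ κ ≫ γ = M.ρ r := by
  obtain ⟨i, r, hr⟩ := M.res j a ((M.obj_eq j).trans (cod hγ))
  obtain ⟨κ, h1, h2⟩ := exists_vert hY hγ ((M.lift_iff _ _).1 hr)
  exact ⟨i, κ, r, h1, hr, h2⟩

/-- A pair of objects with compatible covers. -/
structure Cov (T : Over S) (x : 𝒳.obj) (y : 𝒴.obj) where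
  hx : 𝒳.p.obj x = T
  hy : 𝒴.p.obj y = T
  /-- the covering -/
  V : Over S
  /-- the covering -/
  f : V ⟶ T
  hf : FpC f
  /-- the index -/
  j : M.I
  /-- the arrow -/
  α : M.X j ⟶ x
  hα : 𝒳.p.IsHomLift f α
  /-- the arrow -/
  ζ : M.Y j ⟶ y
  hζ : 𝒴.p.IsHomLift f ζ
  iff : ∀ {i : M.I} {W : Over S} (c c' : W ⟶ V) (r r' : M.X i ⟶ M.X j), 𝒳.p.IsHomLift c r →
    𝒳.p.IsHomLift c' r' → (r ≫ α = r' ≫ α ↔ M.ρ r ≫ ζ = M.ρ r' ≫ ζ)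

/-- The symmetric situation. -/
def Cov.symm {T : Over S} {x : 𝒳.obj} {y : 𝒴.obj} (C : M.Cov T x y) : M.symm.Cov T y x where
  hx := C.hy
  hy := C.hx
  V := C.V
  f := C.f
  hf := C.hf
  j := C.j
  α := C.ζ
  hα := C.hζ
  ζ := C.α
  hζ := C.hα
  iff c c' r r' hr hr' := by
    have h := C.iff c c' (M.ρ.symm r) (M.ρ.symm r') ((M.lift_iff_symm _ _).1 hr) ((M.lift_iff_symm _ _).1 hr')
    rw [Equiv.apply_symm_apply, Equiv.apply_symm_apply] at h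
    exact h.symm

theorem exists_cov (h𝒳 : FibCat.IsFibGrpd 𝒳.p) (h𝒴 : Stk.IsStack (AlgSp.J S) 𝒴) (x : 𝒳.obj) :
    ∃ y : 𝒴.obj, Nonempty (M.Cov (𝒳.p.obj x) x y) := by
  obtain ⟨V, f, j, α, hf, hα⟩ := M.locX x
  have hYj : 𝒴.p.obj (M.Y j) = V := (M.obj_eq j).symm.trans (dom hα)
  have hp := h𝒴.1
  have key : ∀ {T' : Over S} (a b : T' ⟶ V) (_ : a ≫ f = b ≫ f) (t : 𝒴.obj)
      (γ : t ⟶ M.Y j) (_ : 𝒴.p.IsHomLift a γ), ∃ γ' : t ⟶ M.Y j, 𝒴.p.IsHomLift b γ' ∧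
        ∀ {i : M.I} {T'' : Over S} (c : T'' ⟶ T') (κ : M.Y i ⟶ t) (r r' : M.X i ⟶ M.X j),
          𝒴.p.IsHomLift c κ → 𝒳.p.IsHomLift (c ≫ b) r' → r ≫ α = r' ≫ α → κ ≫ γ = M.ρ r →
            κ ≫ γ' = M.ρ r' := by
    intro T' a b e t γ hγ
    obtain ⟨i, κ, r, hκ, hr, hκr⟩ := M.exists_iso hp hγ
    obtain ⟨r', hr', hr''⟩ := exists_fac h𝒳 hα (lift_comp hr hα) e.symm
    have : IsIso κ := isIso_of_id hp hκ
    refine ⟨inv κ ≫ M.ρ r', lift_id_comp (lift_inv hκ) ((M.lift_iff _ _).1 hr'), ?_⟩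
    intro i₁ T'' c κ₁ r₁ r₁' hκ₁ hr₁' e₁ e₂
    obtain ⟨s, hs, hs'⟩ := M.exists_ρ (κ₁ ≫ inv κ) (g := c) (lift_comp_id hκ₁ (lift_inv hκ))
    have e3 : s ≫ r = r₁ := by
      apply M.ρ_inj
      rw [M.ρ_comp, hs, ← hκr, Category.assoc, IsIso.inv_hom_id_assoc, e₂]
    have e4 : s ≫ r' = r₁' := by
      refine fac_unique h𝒳 α (g := c ≫ b) (lift_comp hs' hr') hr₁' ?_
      rw [Category.assoc, hr'', ← Category.assoc, e3, e₁]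
    rw [← Category.assoc, ← hs, ← M.ρ_comp, e4]
  choose m m_lift m_prop using @key
  obtain ⟨y, hy, ζ, hζ, hm⟩ := glue_obj h𝒴 hf hYj m (fun a b e t γ hγ => m_lift a b e t γ hγ)
    (by
      intro T' T'' a b e κ₀ t t' γ hγ k hk e'
      have hkγ : 𝒴.p.IsHomLift (κ₀ ≫ a) (k ≫ γ) := lift_comp hk hγ
      obtain ⟨i, κ, r, hκ, hr, hκr⟩ := M.exists_iso hp hkγ
      obtain ⟨r', hr', hr''⟩ := exists_fac h𝒳 hα (lift_comp hr hα) e'.symm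
      have : IsIso κ := isIso_of_id hp hκ
      rw [← cancel_epi κ, ← Category.assoc,
        m_prop _ _ e' t' (k ≫ γ) hkγ (𝟙 T'') κ r r' hκ (by rw [Category.id_comp]; exact hr') hr''.symm hκr,
        m_prop a b e t γ hγ κ₀ (κ ≫ k) r r' (lift_id_comp hκ hk) hr' hr''.symm
          (by rw [Category.assoc]; exact hκr)])
    (by
      intro T' a b c e e' t γ hγ
      obtain ⟨i, κ, r, hκ, hr, hκr⟩ := M.exists_iso hp hγ
      obtain ⟨r', hr', hr''⟩ := exists_fac h𝒳 hα (lift_comp hr hα) e.symm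
      obtain ⟨r₂, hr₂, hr₂'⟩ := exists_fac h𝒳 hα (lift_comp hr hα) (e.trans e').symm
      have : IsIso κ := isIso_of_id hp hκ
      have h1 := m_prop a b e t γ hγ (𝟙 T') κ r r' hκ (by rw [Category.id_comp]; exact hr') hr''.symm hκr
      rw [← cancel_epi κ,
        m_prop b c e' t _ (m_lift a b e t γ hγ) (𝟙 T') κ r' r₂ hκ (by rw [Category.id_comp]; exact hr₂)
          (hr''.trans hr₂'.symm) h1,
        m_prop a c (e.trans e') t γ hγ (𝟙 T') κ r r₂ hκ (by rw [Category.id_comp]; exact hr₂) hr₂'.symm hκr])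
    (by
      intro T' a t γ hγ
      obtain ⟨i, κ, r, hκ, hr, hκr⟩ := M.exists_iso hp hγ
      have : IsIso κ := isIso_of_id hp hκ
      rw [← cancel_epi κ,
        m_prop a a rfl t γ hγ (𝟙 T') κ r r hκ (by rw [Category.id_comp]; exact hr) rfl hκr, hκr])
  have fwd : ∀ {i : M.I} {W : Over S} (c c' : W ⟶ V) (r r' : M.X i ⟶ M.X j), 𝒳.p.IsHomLift c r →
      𝒳.p.IsHomLift c' r' → r ≫ α = r' ≫ α → M.ρ r ≫ ζ = M.ρ r' ≫ ζ := by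
    intro i W c c' r r' hr hr' e
    have e0 : c ≫ f = c' ≫ f := base_unique (lift_comp hr hα) (e ▸ lift_comp hr' hα)
    have h0 := (M.lift_iff _ _).1 hr
    have h1 := m_prop c c' e0 (M.Y i) (M.ρ r) h0 (𝟙 W) (𝟙 _) r r' (lift_id (dom h0))
      (by rw [Category.id_comp]; exact hr') e (Category.id_comp _)
    rw [Category.id_comp] at h1
    rw [← h1]
    exact (hm c c' e0 (M.Y i) (M.ρ r) h0).symm
  refine ⟨y, ⟨⟨rfl, hy, V, f, hf, j, α, hα, ζ, hζ, ?_⟩⟩⟩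
  intro i W c c' r r' hr hr'
  refine ⟨fwd c c' r r' hr hr', fun h => ?_⟩
  have e0 : c ≫ f = c' ≫ f := base_unique (lift_comp ((M.lift_iff _ _).1 hr) hζ)
    (h ▸ lift_comp ((M.lift_iff _ _).1 hr') hζ)
  obtain ⟨r'', h1, h2⟩ := exists_fac h𝒳 hα (lift_comp hr hα) e0.symm
  have h3 := fwd c c' r r'' hr h1 h2.symm
  have h4 : M.ρ r'' = M.ρ r' := fac_unique hp ζ ((M.lift_iff _ _).1 h1) ((M.lift_iff _ _).1 hr')
    (h3.symm.trans h)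
  rw [← M.ρ_inj h4, h2]

section Theta

variable {M} {T : Over S} {x : 𝒳.obj} {y : 𝒴.obj} (C : M.Cov T x y)

/-- Compatible arrows to the two objects. -/
def Rel {i : M.I} (a : M.X i ⟶ x) (b : M.Y i ⟶ y) : Prop :=
  ∀ {i' : M.I} {U W : Over S} (c : W ⟶ U) (d : W ⟶ C.V) (s : M.X i' ⟶ M.X i) (r : M.X i' ⟶ M.X C.j),
    𝒳.p.IsHomLift c s → 𝒳.p.IsHomLift d r → s ≫ a = r ≫ C.α → M.ρ s ≫ b = M.ρ r ≫ C.ζ

/-- A covering of the source of an arrow to `x`. -/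
theorem exists_refine (h𝒳 : FibCat.IsFibGrpd 𝒳.p) {i : M.I} (a : M.X i ⟶ x) {U : Over S} {g : U ⟶ T}
    (ha : 𝒳.p.IsHomLift g a) : ∃ (i₀ : M.I) (W : Over S) (c : W ⟶ U) (d : W ⟶ C.V) (s : M.X i₀ ⟶ M.X i)
      (r : M.X i₀ ⟶ M.X C.j), IsPullback c d g C.f ∧ FpC c ∧ 𝒳.p.IsHomLift c s ∧ 𝒳.p.IsHomLift d r ∧
        s ≫ a = r ≫ C.α := by
  have sq := IsPullback.of_hasPullback g C.f
  obtain ⟨i₀, s, hs⟩ := M.res i (pullback.fst g C.f) (dom ha)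
  obtain ⟨r, hr, hr'⟩ := exists_fac h𝒳 C.hα (lift_comp hs ha) sq.w.symm
  exact ⟨i₀, _, _, _, s, r, sq, FpC.of_isPullback sq.flip C.hf, hs, hr, hr'.symm⟩

theorem exists_rel (h𝒳 : FibCat.IsFibGrpd 𝒳.p) (h𝒴 : Stk.IsStack (AlgSp.J S) 𝒴) {i : M.I}
    (a : M.X i ⟶ x) {U : Over S} {g : U ⟶ T} (ha : 𝒳.p.IsHomLift g a) :
    ∃ b : M.Y i ⟶ y, 𝒴.p.IsHomLift g b ∧ Rel C a b := by
  obtain ⟨i₀, W₀, c₀, d₀, s₀, r₀, sq, hc₀, hs₀, hr₀, e₀⟩ := exists_refine C h𝒳 a ha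
  have hYi : 𝒴.p.obj (M.Y i) = U := (M.obj_eq i).symm.trans (dom ha)
  have hs₀' := (M.lift_iff _ _).1 hs₀
  have hr₀' := (M.lift_iff _ _).1 hr₀
  obtain ⟨b, hb, hb'⟩ := glue_hom h𝒴 hc₀ (z := M.Y i) (w := y) hYi C.hy g (M.ρ s₀) hs₀'
    (M.ρ r₀ ≫ C.ζ) (lift_comp' hr₀' C.hζ sq.w.symm) (by
      intro T' e e' t δ δ' hδ hδ' h
      obtain ⟨i₁, κ, q, hκ, hq, hκq⟩ := M.exists_iso h𝒴.1 hδ
      have : IsIso κ := isIso_of_id h𝒴.1 hκ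
      obtain ⟨q', hq', hq''⟩ := M.exists_ρ (κ ≫ δ') (g := e') (lift_id_comp hκ hδ')
      have h1 : q ≫ s₀ = q' ≫ s₀ := by
        apply M.ρ_inj
        rw [M.ρ_comp, M.ρ_comp, ← hκq, hq', Category.assoc, Category.assoc, h]
      have h2 : (q ≫ r₀) ≫ C.α = (q' ≫ r₀) ≫ C.α := by
        rw [Category.assoc, Category.assoc, ← e₀, ← Category.assoc, h1, Category.assoc]
      have h3 := (C.iff _ _ _ _ (lift_comp hq hr₀) (lift_comp hq'' hr₀)).1 h2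
      rw [M.ρ_comp, M.ρ_comp, ← hκq, hq'] at h3
      rw [← cancel_epi κ]
      simpa only [Category.assoc] using h3)
  refine ⟨b, hb, ?_⟩
  intro i' U' W c d s r hs hr e
  obtain rfl : 𝒳.p.obj (M.X i) = U' := cod hs
  obtain rfl : 𝒳.p.obj (M.X i) = U := dom ha
  have e1 : c ≫ g = d ≫ C.f := base_unique (lift_comp hs ha) (e ▸ lift_comp hr C.hα)
  obtain ⟨q, hq, hq'⟩ := exists_fac h𝒳 hs₀ hs (sq.lift_fst c d e1)
  have h5 : q ≫ r₀ = r := by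
    refine fac_unique h𝒳 C.α (g := d) (lift_comp' hq hr₀ (sq.lift_snd c d e1)) hr ?_
    rw [Category.assoc, ← e₀, ← Category.assoc, hq', e]
  rw [← hq', M.ρ_comp, Category.assoc, hb', ← h5, M.ρ_comp, Category.assoc]

theorem rel_unique (h𝒳 : FibCat.IsFibGrpd 𝒳.p) (h𝒴 : Stk.IsStack (AlgSp.J S) 𝒴) {i : M.I}
    {a : M.X i ⟶ x} {U : Over S} {g : U ⟶ T} (ha : 𝒳.p.IsHomLift g a) {b b' : M.Y i ⟶ y}
    (hb : 𝒴.p.IsHomLift g b) (hb' : 𝒴.p.IsHomLift g b') (h : Rel C a b) (h' : Rel C a b') : b = b' := by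
  obtain ⟨i₀, W₀, c₀, d₀, s₀, r₀, sq, hc₀, hs₀, hr₀, e₀⟩ := exists_refine C h𝒳 a ha
  refine hom_unique h𝒴 hc₀ (M.ρ s₀) ((M.lift_iff _ _).1 hs₀) hb hb' ?_
  rw [h c₀ d₀ s₀ r₀ hs₀ hr₀ e₀, h' c₀ d₀ s₀ r₀ hs₀ hr₀ e₀]

/-- The relation is symmetric. -/
theorem Rel.symm (h𝒳 : FibCat.IsFibGrpd 𝒳.p) {i : M.I}
    {a : M.X i ⟶ x} {U : Over S} {g : U ⟶ T} (ha : 𝒳.p.IsHomLift g a) {b : M.Y i ⟶ y}
    (hb : 𝒴.p.IsHomLift g b) (h : Rel C a b) : Rel (M := M.symm) C.symm b a := by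
  intro i' U' W c d s r hs hr e
  obtain rfl : 𝒳.p.obj (M.X i) = U := dom ha
  obtain rfl : 𝒳.p.obj (M.X i) = U' := (M.obj_eq i).trans (cod hs)
  obtain ⟨s', rfl, hs'⟩ := M.exists_ρ s hs
  obtain ⟨r', rfl, hr'⟩ := M.exists_ρ r hr
  change M.ρ.symm (M.ρ s') ≫ a = M.ρ.symm (M.ρ r') ≫ C.α
  rw [Equiv.symm_apply_apply, Equiv.symm_apply_apply]
  have e1 : c ≫ g = d ≫ C.f := base_unique (lift_comp hs hb) (e ▸ lift_comp hr C.hζ)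
  obtain ⟨r'', h1, h2⟩ := exists_fac h𝒳 C.hα (lift_comp hs' ha) e1.symm
  have h3 := h c d s' r'' hs' h1 h2.symm
  have h4 := (C.iff d d r'' r' h1 hr').2 (h3.symm.trans e)
  rw [← h2, h4]

variable (h𝒳 : Stk.IsStack (AlgSp.J S) 𝒳) (h𝒴 : Stk.IsStack (AlgSp.J S) 𝒴)

include C in
theorem base_lift {i : M.I} (a : M.X i ⟶ x) : ∃ g : 𝒳.p.obj (M.X i) ⟶ T, 𝒳.p.IsHomLift g a := by
  obtain rfl := C.hx
  exact ⟨𝒳.p.map a, IsHomLift.map _ _⟩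

include h𝒳 h𝒴 in
theorem exists_rel' {i : M.I} (a : M.X i ⟶ x) : ∃ b : M.Y i ⟶ y, Rel C a b ∧
    ∀ {U V : Over S} (g : U ⟶ V), 𝒳.p.IsHomLift g a ↔ 𝒴.p.IsHomLift g b := by
  obtain ⟨g, hg⟩ := base_lift C a
  obtain ⟨b, hb, hab⟩ := exists_rel C h𝒳.1 h𝒴 a hg
  refine ⟨b, hab, fun {U V} g' => ⟨fun h => ?_, fun h => ?_⟩⟩
  · obtain rfl : 𝒳.p.obj (M.X i) = U := dom h
    obtain rfl : T = V := (cod hg).symm.trans (cod h)
    rwa [base_unique h hg]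
  · obtain rfl : 𝒳.p.obj (M.X i) = U := (M.obj_eq i).trans (dom h)
    obtain rfl : T = V := (cod hb).symm.trans (cod h)
    rwa [base_unique h hb]

include C h𝒳 h𝒴 in
/-- The bijection between arrows to the two objects. -/
theorem exists_Θ : ∃ Θ : ∀ i : M.I, (M.X i ⟶ x) ≃ (M.Y i ⟶ y),
    (∀ {i : M.I} {U V : Over S} (g : U ⟶ V) (a : M.X i ⟶ x), 𝒳.p.IsHomLift g a ↔ 𝒴.p.IsHomLift g (Θ i a)) ∧
    (∀ {i i' : M.I} (q : M.X i' ⟶ M.X i) (a : M.X i ⟶ x), Θ i' (q ≫ a) = M.ρ q ≫ Θ i a) := by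
  choose θ hθ hθ' using fun (i : M.I) (a : M.X i ⟶ x) => exists_rel' C h𝒳 h𝒴 a
  choose η hη hη' using fun (i : M.I) (b : M.Y i ⟶ y) => exists_rel' C.symm h𝒴 h𝒳 b
  refine ⟨fun i => ⟨θ i, η i, fun a => ?_, fun b => ?_⟩, fun g a => hθ' _ _ g, fun {i i'} q a => ?_⟩
  · obtain ⟨g, hg⟩ := base_lift C a
    exact rel_unique C.symm h𝒴.1 h𝒳 ((hθ' i a g).1 hg) ((hη' i _ g).1 ((hθ' i a g).1 hg)) hg (hη i _)
      (Rel.symm C h𝒳.1 hg ((hθ' i a g).1 hg) (hθ i a))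
  · obtain ⟨g, hg⟩ := base_lift C.symm b
    exact rel_unique C h𝒳.1 h𝒴 ((hη' i b g).1 hg) ((hθ' i _ g).1 ((hη' i b g).1 hg)) hg (hθ i _)
      (Rel.symm C.symm h𝒴.1 hg ((hη' i b g).1 hg) (hη i b))
  · obtain ⟨g, hg⟩ := base_lift C a
    obtain ⟨g', hg'⟩ := base_lift C (q ≫ a)
    have hq : 𝒳.p.IsHomLift (𝒳.p.map q) q := IsHomLift.map _ _
    obtain rfl := base_unique hg' (lift_comp hq hg)
    refine rel_unique C h𝒳.1 h𝒴 hg' ((hθ' i' _ _).1 hg') ?_ (hθ i' _) ?_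
    · exact lift_comp ((M.lift_iff _ _).1 hq) ((hθ' i a g).1 hg)
    · intro j U W c d s r hs hr e
      obtain rfl : 𝒳.p.obj (M.X i') = U := cod hs
      rw [← Category.assoc, ← M.ρ_comp]
      exact hθ i a (c ≫ 𝒳.p.map q) d (s ≫ q) r (lift_comp hs hq) hr (by rw [Category.assoc]; exact e)

end Theta

/-- An object of the graph. -/
structure Gr where
  /-- first object -/
  x : 𝒳.obj
  /-- second object -/
  y : 𝒴.obj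
  hxy : 𝒴.p.obj y = 𝒳.p.obj x
  /-- the bijections -/
  Θ : ∀ i : M.I, (M.X i ⟶ x) ≃ (M.Y i ⟶ y)
  lift : ∀ {i : M.I} {U V : Over S} (g : U ⟶ V) (a : M.X i ⟶ x), 𝒳.p.IsHomLift g a ↔ 𝒴.p.IsHomLift g (Θ i a)
  nat : ∀ {i i' : M.I} (q : M.X i' ⟶ M.X i) (a : M.X i ⟶ x), Θ i' (q ≫ a) = M.ρ q ≫ Θ i a

variable {M} in
theorem Gr.lift_symm (G : M.Gr) {i : M.I} {U V : Over S} (g : U ⟶ V) (b : M.Y i ⟶ G.y) :
    𝒴.p.IsHomLift g b ↔ 𝒳.p.IsHomLift g ((G.Θ i).symm b) := by rw [G.lift, Equiv.apply_symm_apply]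

variable {M} in
theorem Gr.nat_symm (G : M.Gr) {i i' : M.I} (q : M.Y i' ⟶ M.Y i) (b : M.Y i ⟶ G.y) :
    (G.Θ i').symm (q ≫ b) = M.ρ.symm q ≫ (G.Θ i).symm b := by
  rw [Equiv.symm_apply_eq, G.nat, Equiv.apply_symm_apply, Equiv.apply_symm_apply]

variable {M} in
/-- The symmetric object. -/
def Gr.symm (G : M.Gr) : M.symm.Gr where
  x := G.y
  y := G.x
  hxy := G.hxy.symm
  Θ i := (G.Θ i).symm
  lift g a := G.lift_symm g a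
  nat q a := G.nat_symm q a

theorem exists_gr (h𝒳 : Stk.IsStack (AlgSp.J S) 𝒳) (h𝒴 : Stk.IsStack (AlgSp.J S) 𝒴) (x : 𝒳.obj) :
    ∃ G : M.Gr, G.x = x := by
  obtain ⟨y, ⟨C⟩⟩ := M.exists_cov h𝒳.1 h𝒴 x
  obtain ⟨Θ, h1, h2⟩ := exists_Θ C h𝒳 h𝒴
  exact ⟨⟨x, y, C.hy, Θ, h1, h2⟩, rfl⟩

variable {M}

/-- Arrows of the second category compatible with an arrow of the first one. -/
def Gr.Comp (G G' : M.Gr) (a : G.x ⟶ G'.x) (b : G.y ⟶ G'.y) : Prop :=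
  𝒴.p.IsHomLift (𝒳.p.map a) b ∧ ∀ (i : M.I) (α : M.X i ⟶ G.x), G'.Θ i (α ≫ a) = G.Θ i α ≫ b

theorem Gr.existsUnique_comp (h𝒳 : Stk.IsStack (AlgSp.J S) 𝒳) (h𝒴 : Stk.IsStack (AlgSp.J S) 𝒴) (G G' : M.Gr)
    (a : G.x ⟶ G'.x) : ∃! b : G.y ⟶ G'.y, G.Comp G' a b := by
  have hp := h𝒴.1
  obtain ⟨V, f, j, β, hf, hβ⟩ := M.locY G.y
  have ha : 𝒳.p.IsHomLift (𝒳.p.map a) a := IsHomLift.map _ _
  obtain ⟨T, hT⟩ : ∃ T, 𝒳.p.obj G.x = T := ⟨_, rfl⟩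
  obtain ⟨T', hT'⟩ : ∃ T, 𝒳.p.obj G'.x = T := ⟨_, rfl⟩
  obtain ⟨g, hg⟩ : ∃ g : T ⟶ T', 𝒳.p.IsHomLift g a := by
    subst hT; subst hT'; exact ⟨𝒳.p.map a, ha⟩
  obtain ⟨f, hf, hβ⟩ : ∃ f : V ⟶ T, FpC f ∧ 𝒴.p.IsHomLift f β := by
    have := G.hxy.trans hT
    subst this; exact ⟨f, hf, hβ⟩
  clear ha
  have hα := (G.lift_symm f β).1 hβ
  have hl : 𝒴.p.IsHomLift (f ≫ g) (G'.Θ j ((G.Θ j).symm β ≫ a)) := (G'.lift _ _).1 (lift_comp hα hg)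
  obtain ⟨b, hb, hb'⟩ := glue_hom h𝒴 hf (G.hxy.trans hT) (G'.hxy.trans hT') g β hβ _ hl (by
    intro T₁ c c' t γ δ hγ hδ e
    obtain ⟨i, κ, r, hκ, hr, hκr⟩ := M.exists_iso hp hγ
    have : IsIso κ := isIso_of_id hp hκ
    obtain ⟨r', hr', hr''⟩ := M.exists_ρ (κ ≫ δ) (g := c') (lift_id_comp hκ hδ)
    rw [← cancel_epi κ, ← Category.assoc, ← Category.assoc, hκr, ← hr', ← G'.nat, ← G'.nat]
    congr 1
    rw [← Category.assoc, ← Category.assoc]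
    congr 1
    apply (G.Θ i).injective
    rw [G.nat, G.nat, Equiv.apply_symm_apply, hr', ← hκr, Category.assoc, Category.assoc, e])
  have key : ∀ b' : G.y ⟶ G'.y, 𝒴.p.IsHomLift g b' → β ≫ b' = G'.Θ j ((G.Θ j).symm β ≫ a) →
      G.Comp G' a b' := by
    intro b' hb₁ hb₂
    refine ⟨?_, fun i α => ?_⟩
    · subst hT; subst hT'
      have hma : 𝒳.p.IsHomLift (𝒳.p.map a) a := IsHomLift.map _ _
      rw [base_unique hma hg]; exact hb₁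
    · -- cover the source
      obtain ⟨k, hk⟩ : ∃ k : 𝒳.p.obj (M.X i) ⟶ T, 𝒳.p.IsHomLift k α := by
        subst hT; exact ⟨𝒳.p.map α, IsHomLift.map _ _⟩
      have sq := IsPullback.of_hasPullback k f
      obtain ⟨i₀, s, hs⟩ := M.res i (pullback.fst k f) (dom hk)
      have hα' := hα
      obtain ⟨r, hr, hr'⟩ := exists_fac h𝒳.1 hα' (lift_comp hs hk) sq.w.symm
      have hc : FpC (pullback.fst k f) := FpC.of_isPullback sq.flip hf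
      refine hom_unique h𝒴 hc (M.ρ s) ((M.lift_iff _ _).1 hs) (g := k ≫ g)
        ((G'.lift _ _).1 (lift_comp hk hg)) (lift_comp ((G.lift _ _).1 hk) hb₁) ?_
      rw [← G'.nat, ← Category.assoc, ← hr', Category.assoc, G'.nat, ← hb₂, ← Category.assoc,
        ← Category.assoc]
      congr 1
      rw [← G.nat, ← hr', G.nat, Equiv.apply_symm_apply]
  refine ⟨b, key b hb hb', fun b' h' => ?_⟩
  have hb₁ : 𝒴.p.IsHomLift g b' := by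
    subst hT; subst hT'
    have hma : 𝒳.p.IsHomLift (𝒳.p.map a) a := IsHomLift.map _ _
    rw [← base_unique hma hg]; exact h'.1
  refine hom_unique h𝒴 hf β hβ hb₁ hb ?_
  rw [hb', h'.2, Equiv.apply_symm_apply]

theorem Gr.comp_symm {G G' : M.Gr} {a : G.x ⟶ G'.x} {b : G.y ⟶ G'.y} (h : G.Comp G' a b) :
    G.symm.Comp G'.symm b a := by
  refine ⟨?_, fun i β => ?_⟩
  · have h3 := h.1
    exact IsHomLift.of_fac 𝒳.p (𝒴.p.map b) a G.hxy.symm G'.hxy.symm (IsHomLift.fac' 𝒴.p (𝒳.p.map a) b)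
  · change (G'.Θ i).symm (β ≫ b) = (G.Θ i).symm β ≫ a
    rw [Equiv.symm_apply_eq, h.2, Equiv.apply_symm_apply]

theorem Gr.comp_id (G : M.Gr) : G.Comp G (𝟙 _) (𝟙 _) :=
  ⟨by rw [CategoryTheory.Functor.map_id]; exact lift_id G.hxy, fun i α => by
    rw [Category.comp_id, Category.comp_id]⟩

theorem Gr.comp_comp {G G' G'' : M.Gr} {a : G.x ⟶ G'.x} {b : G.y ⟶ G'.y} {a' : G'.x ⟶ G''.x} {b' : G'.y ⟶ G''.y}
    (h : G.Comp G' a b) (h' : G'.Comp G'' a' b') : G.Comp G'' (a ≫ a') (b ≫ b') :=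
  ⟨by rw [Functor.map_comp]; exact lift_comp h.1 h'.1, fun i α => by
    rw [← Category.assoc, h'.2, h.2, Category.assoc]⟩

end Match

open Match in
/-- Stacks with matching locally generating families are equivalent. -/
theorem exists_isEquivOver {𝒳 : BasedCategory.{v₂, u₂} (Over S)} {𝒴 : BasedCategory.{v₃, u₃} (Over S)}
    (M : Match.{w} 𝒳 𝒴) (h𝒳 : Stk.IsStack (AlgSp.J S) 𝒳) (h𝒴 : Stk.IsStack (AlgSp.J S) 𝒴) :
    ∃ e : 𝒳 ⥤ᵇ 𝒴, FibCat.IsEquivOver e := by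
  have h : ∀ x : 𝒳.obj, ∃ (y : 𝒴.obj) (_ : 𝒴.p.obj y = 𝒳.p.obj x) (Θ : ∀ i : M.I, (M.X i ⟶ x) ≃ (M.Y i ⟶ y)),
      (∀ {i : M.I} {U V : Over S} (g : U ⟶ V) (a : M.X i ⟶ x), 𝒳.p.IsHomLift g a ↔ 𝒴.p.IsHomLift g (Θ i a)) ∧
      (∀ {i i' : M.I} (q : M.X i' ⟶ M.X i) (a : M.X i ⟶ x), Θ i' (q ≫ a) = M.ρ q ≫ Θ i a) := by
    intro x
    obtain ⟨G, rfl⟩ := M.exists_gr h𝒳 h𝒴 x
    exact ⟨G.y, G.hxy, G.Θ, G.lift, G.nat⟩
  choose y hxy Θ hlift hnat using h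
  let G : 𝒳.obj → M.Gr := fun x => ⟨x, y x, hxy x, Θ x, hlift x, hnat x⟩
  have hmap : ∀ {x x' : 𝒳.obj} (a : x ⟶ x'), ∃! b : y x ⟶ y x', (G x).Comp (G x') a b := fun {x x'} a =>
    Gr.existsUnique_comp h𝒳 h𝒴 (G x) (G x') a
  choose F hF hF' using @hmap
  let e : 𝒳 ⥤ᵇ 𝒴 := mkBased
    { obj := fun x => y x
      map := fun a => F a
      map_id := fun x => (hF' (𝟙 x) (𝟙 _) (G x).comp_id).symm
      map_comp := fun {x x' x''} a a' => (hF' (a ≫ a') (F a ≫ F a') (Gr.comp_comp (hF a) (hF a'))).symm }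
    (fun {x x'} a => (hF a).1)
  have hfull : e.toFunctor.Full := ⟨fun {x x'} b => by
    obtain ⟨a, ha, -⟩ := Gr.existsUnique_comp h𝒴 h𝒳 (G x).symm (G x').symm b
    exact ⟨a, (hF' a b (Gr.comp_symm ha)).symm⟩⟩
  have hfaith : e.toFunctor.Faithful := ⟨fun {x x'} a a' h => by
    obtain ⟨c, -, hc⟩ := Gr.existsUnique_comp h𝒴 h𝒳 (G x).symm (G x').symm (F a)
    have h1 : a = c := hc a (Gr.comp_symm (hF a))
    have h2 : a' = c := hc a' (by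
      have h3 : F a = F a' := h
      rw [h3]
      exact Gr.comp_symm (hF a'))
    rw [h1, h2]⟩
  refine ⟨e, K862.Equiv.isEquivOver_of e fun η => ?_⟩
  obtain ⟨H, rfl⟩ := M.symm.exists_gr h𝒴 h𝒳 η
  have hH : 𝒴.p.obj H.x = 𝒳.p.obj H.y := H.hxy.symm
  let H' : M.Gr := ⟨H.y, H.x, hH, fun i => (H.Θ i).symm, fun g a => (H.lift_symm g a),
    fun q a => H.nat_symm q a⟩
  obtain ⟨b, hb, -⟩ := Gr.existsUnique_comp h𝒳 h𝒴 (G H.y) H' (𝟙 H.y)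
  have hb1 : 𝒴.p.IsHomLift (𝒳.p.map (𝟙 H.y)) b := hb.1
  rw [CategoryTheory.Functor.map_id] at hb1
  have : IsIso b := isIso_of_id h𝒴.1 hb1
  refine ⟨H.y, @asIso _ _ _ _ b this, ?_⟩
  change 𝒴.p.IsHomLift (𝟙 (𝒴.p.obj H.x)) b
  rw [hH]
  exact hb1

end K864.Graph
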