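import Groth.Agent.IsoNat.K864.SpanKit
import Groth.Agent.IsoNat.K864.Graph

/-!
# Bald stacks: matching of the groupoids of corresponding smooth charts
-/

set_option autoImplicit false
set_option linter.unusedSectionVars false
set_option backward.isDefEq.respectTransparency false
set_option backward.isDefEq.respectTransparency.types false

universe u

open CategoryTheory CategoryTheory.Limits AlgebraicGeometry Opposite AlgSp
open K862 K862.Fib K862.Yon K864.SepUniq K864.CleanCorr K864.SpanKit K863.Arr K863.Corr K864.Doubled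
open K613.Basic K613.Cover K613.Chart

namespace K864.Bald

variable {S : Scheme.{u}} {𝒳 𝒴 : AlgSt.Cat S}

/-- The locus where a smooth chart is clean is schematically dense. -/
def BaldP (𝒳 : AlgSt.Cat S) : Prop :=
  ∀ (U : Over S) (x : FibCat.overCat U ⥤ᵇ 𝒳), AlgSt.RepByAlgSpWith (AlgSp.LocP @Smooth) x →
      ∃ V : U.left.Opens,
        (∀ (T : Over S) (g : T ⟶ U), (∃ g' : T.left ⟶ ↑V, g' ≫ V.ι = g.left) ↔ IsoNat.IsClean (x.obj (Over.mk g))) ∧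
        CInt.IsSchematicallyDense V

theorem denseClean_of_chart (hb : BaldP 𝒳) {U : Over S} {X : FibCat.overCat U ⥤ᵇ 𝒳}
    (hX : AlgSt.RepByAlgSpWith (AlgSp.LocP @Smooth) X) : DenseClean (objOf X).1 U := by
  obtain ⟨V, hV, hd⟩ := hb U X hX
  exact ⟨V, X.obj (Over.mk (opnι U V)), arrAt X (opnι U V), arrAt_isHomLift X _,
    (hV _ (opnι U V)).1 ⟨𝟙 _, Category.id_comp _⟩, Groth.Agent.Ega4dB.SchDense.isSchemeTheoreticallyDominant_ι V hd⟩

theorem _root_.K864.CleanCorr.DenseClean.of_iso {x y : 𝒳.obj} {T : Over S} (h : DenseClean x T) {e : x ⟶ y}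
    (he : 𝒳.p.IsHomLift (𝟙 T) e) : DenseClean y T := by
  obtain ⟨V, x', a, ha, hc, hd⟩ := h
  exact ⟨V, x', a ≫ e, lift_comp_id ha he, hc, hd⟩

section

variable [FibCat.IsFibGrpd 𝒳.p]

theorem smooth_comp {U Z : Over S} {X : FibCat.overCat U ⥤ᵇ 𝒳} (hX : AlgSt.RepByAlgSpWith (AlgSp.LocP @Smooth) X)
    (h : Z ⟶ U) [hh : Smooth h.left] :
    AlgSt.RepByAlgSpWith (AlgSp.LocP @Smooth) (BasedFunctor.comp (AlgSt.overMap h) X) := by
  refine repByAlgSpWith_of_spanRep fun {T} t => ?_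
  obtain ⟨F, R, hR⟩ := exists_spanRep hX t
  have sq := IsPullback.of_hasPullback (lft R) ((yon S).map h)
  let w : (objOf (BasedFunctor.comp (AlgSt.overMap h) X)).1 ⟶ (objOf X).1 :=
    X.map (can ((Over.map h).obj (Over.mk (𝟙 Z))))
  have hw : 𝒳.p.IsHomLift h w := by
    have h1 := lift_map X (can ((Over.map h).obj (Over.mk (𝟙 Z))))
    have h2 : (can ((Over.map h).obj (Over.mk (𝟙 Z)))).left = h := by
      rw [can_left]
      exact Category.id_comp _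
    rw [h2] at h1
    exact h1
  have hF' : IsAlgSpace (pullback (lft R) ((yon S).map h)) :=
    isAlgSpace_pullback F.property (IsAlgSpace.yon_obj Z) (IsAlgSpace.yon_obj U) _ _
  refine ⟨⟨_, hF'⟩, bcRep R hw sq, ?_⟩
  change LocP @Smooth (pullback.fst (lft R) ((yon S).map h) ≫ R.π)
  have h1 : RepWith @Smooth (pullback.fst (lft R) ((yon S).map h)) :=
    MorphismProperty.of_isPullback sq.flip ((repWith_yon_map_iff _ _).2 hh)
  have h2 : LocP @Smooth (pullback.fst (lft R) ((yon S).map h)) :=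
    K597.locP_of_repWith (fun A B C e f he hf => by
      have h3 : Etale e := he
      have h4 : Smooth f := hf
      have h5 : Smooth e := inferInstance
      exact (inferInstance : Smooth (e ≫ f))) h1
  exact K597.locP_comp K597.etLoc_smooth hF'.hasAtlas F.property.hasAtlas (IsAlgSpace.yon_obj T).hasAtlas h2 hR

theorem denseClean_of_smooth (hb : BaldP 𝒳) {U Z : Over S} {X : FibCat.overCat U ⥤ᵇ 𝒳}
    (hX : AlgSt.RepByAlgSpWith (AlgSp.LocP @Smooth) X) (h : Z ⟶ U) [hh : Smooth h.left] {ζ : 𝒳.obj}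
    {w : ζ ⟶ (objOf X).1} (hw : 𝒳.p.IsHomLift h w) : DenseClean ζ Z := by
  have h1 := denseClean_of_chart hb (smooth_comp hX h)
  let w' : (objOf (BasedFunctor.comp (AlgSt.overMap h) X)).1 ⟶ (objOf X).1 :=
    X.map (can ((Over.map h).obj (Over.mk (𝟙 Z))))
  have hw' : 𝒳.p.IsHomLift h w' := by
    have h1 := lift_map X (can ((Over.map h).obj (Over.mk (𝟙 Z))))
    have h2 : (can ((Over.map h).obj (Over.mk (𝟙 Z)))).left = h := by
      rw [can_left]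
      exact Category.id_comp _
    rw [h2] at h1
    exact h1
  obtain ⟨e, he, -⟩ := exists_vert (p := 𝒳.p) inferInstance hw hw'
  exact h1.of_iso he

end

section TL

variable [FibCat.IsFibGrpd 𝒳.p] [FibCat.IsFibGrpd 𝒴.p] {A B : Over S} {x : 𝒳.p.Fiber A} {x' : 𝒳.p.Fiber B}
  {y : 𝒴.p.Fiber A} {y' : 𝒴.p.Fiber B} {F G : Sp S}

/-- Rigidity of the étale charts of the span space. -/
def FRig (φ : IsoNat.FIso 𝒳 𝒴) (RF : SpanRep x x' F) : Prop :=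
  ∀ {Z₁ : Over S} (g : Z₁ ⟶ B) (u : Z₁ ⟶ A) (z : 𝒳.p.Fiber Z₁) (a : z.1 ⟶ x.1) (b : z.1 ⟶ x'.1)
    (ha : 𝒳.p.IsHomLift u a) (hb : 𝒳.p.IsHomLift g b), RepWith @Etale (mk RF g u z a b ha hb) →
    Rigid z.1 ∧ ∀ (ω : 𝒴.obj) (hω : 𝒴.p.obj ω = Z₁), Corr φ z.2 hω → Rigid ω

theorem exists_transfer {φ : IsoNat.FIso 𝒳 𝒴} (RF : SpanRep x x' F) (RG : SpanRep y' y G) (hF : IsAlgSpace F)
    (h : Corr φ x.2 y.2) (h' : Corr φ x'.2 y'.2) (hrig : FRig φ RF) :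
    ∃ Φ : F ⟶ G, Φ ≫ lft RG = RF.π ∧ Φ ≫ RG.π = lft RF := by
  obtain ⟨Z, p, hp⟩ := exists_ch hF
  obtain ⟨g, u, z, a, b, ha, hb, rfl⟩ := exists_mk RF p
  obtain ⟨ω, hω, hzω⟩ := exists_right φ z.2
  obtain ⟨β₁, hβ₁⟩ := arrow_right (inferInstance : FibCat.IsFibGrpd 𝒴.p) h hzω a ha
  obtain ⟨β₂, hβ₂⟩ := arrow_right (inferInstance : FibCat.IsFibGrpd 𝒴.p) h' hzω b hb
  -- the map on the chart
  let q : (yon S).obj Z ⟶ G := mk RG u g ⟨ω, hω⟩ β₂ β₁ hβ₂ hβ₁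
  have hq1 : q ≫ RG.π = (yon S).map u := mk_π _ _ _ _ _ _ _ _
  have hq2 : q ≫ lft RG = (yon S).map g := mk_lft _ _ _ _ _ _ _ _
  obtain ⟨Z₂, r₂, k₀, sqR⟩ := hp.et.1 (mk RF g u z a b ha hb)
  obtain ⟨r₁, rfl⟩ := (yon S).map_surjective k₀
  have hr₂ : Etale r₂.left := hp.et.2 _ _ r₂ sqR
  have hr₁ : Etale r₁.left := hp.et.2 _ _ r₁ sqR.flip
  have e1 : r₁ ≫ u = r₂ ≫ u := by
    apply (yon S).map_injective
    have := congrArg (fun s => s ≫ lft RF) sqR.w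
    simpa only [Category.assoc, mk_lft, ← Functor.map_comp] using this
  have e2 : r₁ ≫ g = r₂ ≫ g := by
    apply (yon S).map_injective
    have := congrArg (fun s => s ≫ RF.π) sqR.w
    simpa only [Category.assoc, mk_π, ← Functor.map_comp] using this
  have key : (yon S).map r₁ ≫ q = (yon S).map r₂ ≫ q := by
    have hc : 𝒳.p.IsHomLift r₁ (pullHom (p := 𝒳.p) r₁ z) := pullHom_isHomLift _ _
    have hd : 𝒴.p.IsHomLift r₁ (pullHom (p := 𝒴.p) r₁ ⟨ω, hω⟩) := pullHom_isHomLift _ _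
    have l1 : 𝒳.p.IsHomLift (r₁ ≫ u) (pullHom (p := 𝒳.p) r₁ z ≫ a) := lift_comp hc ha
    have l2 : 𝒳.p.IsHomLift (r₁ ≫ g) (pullHom (p := 𝒳.p) r₁ z ≫ b) := lift_comp hc hb
    have l3 : 𝒴.p.IsHomLift (r₁ ≫ g) (pullHom (p := 𝒴.p) r₁ ⟨ω, hω⟩ ≫ β₂) := lift_comp hd hβ₂
    have l4 : 𝒴.p.IsHomLift (r₁ ≫ u) (pullHom (p := 𝒴.p) r₁ ⟨ω, hω⟩ ≫ β₁) := lift_comp hd hβ₁
    have h1 : RepWith @Etale (mk RF (r₁ ≫ g) (r₁ ≫ u) (pull r₁ z) (pullHom (p := 𝒳.p) r₁ z ≫ a)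
        (pullHom (p := 𝒳.p) r₁ z ≫ b) l1 l2) := by
      rw [← map_mk RF r₁ g u (pull r₁ z) z (pullHom (p := 𝒳.p) r₁ z) a b hc ha hb l1 l2]
      exact MorphismProperty.comp_mem _ _ _ ((repWith_yon_map_iff _ _).2 hr₁) hp.et
    have h2 : Corr φ (pull (p := 𝒳.p) r₁ z).2 (pull (p := 𝒴.p) r₁ ⟨ω, hω⟩).2 :=
      corr_res inferInstance inferInstance hzω hc hd
    have h3 := (hrig _ _ _ _ _ _ _ h1).2 _ _ h2
    have h4 := map_mk RG r₁ u g (pull r₁ ⟨ω, hω⟩) ⟨ω, hω⟩ (pullHom (p := 𝒴.p) r₁ ⟨ω, hω⟩) β₂ β₁ hd hβ₂ hβ₁ l3 l4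
    refine h4.trans (mk_unique_of_rigid RG l3 l4 h3 _ ?_ ?_)
    · rw [Category.assoc, hq1, ← Functor.map_comp, e1]
    · rw [Category.assoc, hq2, ← Functor.map_comp, e2]
  obtain ⟨Φ, hΦ, -⟩ := hp.fSurj.desc q (fun R v v' hv => by
    obtain ⟨v, rfl⟩ := (yon S).map_surjective v
    obtain ⟨v', rfl⟩ := (yon S).map_surjective v'
    obtain ⟨l, hl⟩ := (yon S).map_surjective (sqR.lift _ _ hv)
    have h1 : (yon S).map v = (yon S).map l ≫ (yon S).map r₁ := by rw [hl, sqR.lift_fst]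
    have h2 : (yon S).map v' = (yon S).map l ≫ (yon S).map r₂ := by rw [hl, sqR.lift_snd]
    rw [h1, h2, Category.assoc, Category.assoc, key])
  have hepi := hp.fSurj.epi
  refine ⟨Φ, ?_, ?_⟩
  · rw [← cancel_epi (mk RF g u z a b ha hb), ← Category.assoc, hΦ, hq2, mk_π]
  · rw [← cancel_epi (mk RF g u z a b ha hb), ← Category.assoc, hΦ, hq1, mk_lft]

theorem id_of_rig {φ : IsoNat.FIso 𝒳 𝒴} (RF : SpanRep x x' F) (hF : IsAlgSpace F) (hrig : FRig φ RF)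
    {Φ : F ⟶ F} (h1 : Φ ≫ RF.π = RF.π) (h2 : Φ ≫ lft RF = lft RF) : Φ = 𝟙 F := by
  obtain ⟨Z, p, hp⟩ := exists_ch hF
  obtain ⟨g, u, z, a, b, ha, hb, rfl⟩ := exists_mk RF p
  have hepi := hp.fSurj.epi
  rw [← cancel_epi (mk RF g u z a b ha hb), Category.comp_id]
  refine (mk_unique_of_rigid RF ha hb (hrig _ _ _ _ _ _ _ hp.et).1 _ ?_ ?_).symm
  · rw [Category.assoc, h1, mk_π]
  · rw [Category.assoc, h2, mk_lft]

/-- The span spaces are isomorphic. -/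
theorem exists_iso {φ : IsoNat.FIso 𝒳 𝒴} {ψ : IsoNat.FIso 𝒴 𝒳} (RF : SpanRep x x' F) (RG : SpanRep y' y G)
    (hF : IsAlgSpace F) (hG : IsAlgSpace G)
    (h : Corr φ x.2 y.2) (h' : Corr φ x'.2 y'.2) (k : Corr ψ y.2 x.2) (k' : Corr ψ y'.2 x'.2)
    (hrF : FRig φ RF) (hrG : FRig ψ RG) :
    ∃ Φ : F ≅ G, Φ.hom ≫ lft RG = RF.π ∧ Φ.hom ≫ RG.π = lft RF := by
  obtain ⟨Φ, h1, h2⟩ := exists_transfer RF RG hF h h' hrF
  obtain ⟨Ψ, k1, k2⟩ := exists_transfer RG RF hG k' k hrG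
  refine ⟨⟨Φ, Ψ, id_of_rig RF hF hrF ?_ ?_, id_of_rig RG hG hrG ?_ ?_⟩, h1, h2⟩
  · rw [Category.assoc, k2, h1]
  · rw [Category.assoc, k1, h2]
  · rw [Category.assoc, h2, k1]
  · rw [Category.assoc, h1, k2]

end TL

end K864.Bald
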