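import Groth.Agent.IsoNat.K864.GpdMatch
import Groth.Agent.AlgSp.K603.Points
import Groth.Agent.AlgSt.K735.Top

/-!
# Bald separated stacks with isomorphic presheaves of isomorphism classes are equivalent
-/

set_option autoImplicit false
set_option linter.unusedSectionVars false
set_option backward.isDefEq.respectTransparency false
set_option backward.isDefEq.respectTransparency.types false

universe u

open CategoryTheory CategoryTheory.Limits AlgebraicGeometry Opposite AlgSp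
open K862 K862.Fib K862.Yon K864.SepUniq K864.CleanCorr K864.SpanKit K863.Arr K863.Corr K864.Doubled
open K613.Basic K613.Cover K613.Chart K864.Bald K864.GpdMatch

namespace K864.BaldMain

variable {S : Scheme.{u}} {𝒳 𝒴 : AlgSt.Cat S}

theorem surjective_of_isSurjectiveMor {V T : Over S} {k : V ⟶ T} (h : IsSurjectiveMor ((yon S).map k)) :
    Surjective k.left := by
  refine ⟨fun t => ?_⟩
  obtain ⟨ξ, hξ⟩ := h (Points.schemeHomeo T t)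
  obtain ⟨v, rfl⟩ := (Points.schemeHomeo V).surjective ξ
  rw [Points.map_yon_map_apply] at hξ
  exact ⟨v, (Points.schemeHomeo T).injective hξ⟩

variable [FibCat.IsFibGrpd 𝒳.p] [FibCat.IsFibGrpd 𝒴.p]

theorem smooth_of_mk {A B : Over S} {x : 𝒳.p.Fiber A} {x' : 𝒳.p.Fiber B} {F : Sp S} {RF : SpanRep x x' F}
    (hRF : LocP @Smooth RF.π) {Z₁ : Over S} {g : Z₁ ⟶ B} {u : Z₁ ⟶ A} {z : 𝒳.p.Fiber Z₁} {a : z.1 ⟶ x.1}
    {b : z.1 ⟶ x'.1} {ha : 𝒳.p.IsHomLift u a} {hb : 𝒳.p.IsHomLift g b}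
    (h : RepWith @Etale (mk RF g u z a b ha hb)) : Smooth g.left :=
  hRF (mk RF g u z a b ha hb) (𝟙 _) g h (repWith_id _ _) (by rw [mk_π, Category.comp_id])

/-- Rigidity of the étale charts. -/
theorem frig {P : MorphismProperty (AlgSp.Sp S)} (hP : P ≤ @AlgSp.IsSeparatedMor S)
    (hd𝒳 : AlgSt.RepByAlgSpWith P (FibCat.diag (FibCat.toSelf 𝒳)))
    (hd𝒴 : AlgSt.RepByAlgSpWith P (FibCat.diag (FibCat.toSelf 𝒴)))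
    (h𝒳 : Stk.IsStack (AlgSp.J S) 𝒳) (h𝒴 : Stk.IsStack (AlgSp.J S) 𝒴)
    {φ : IsoNat.FIso 𝒳 𝒴} {ψ : IsoNat.FIso 𝒴 𝒳} (hφψ : ∀ {T : Over S} {x : 𝒳.obj} {y : 𝒴.obj}
      {hx : 𝒳.p.obj x = T} {hy : 𝒴.p.obj y = T}, Corr φ hx hy → Corr ψ hy hx) (hb : BaldP 𝒴)
    {A B : Over S} {x : 𝒳.p.Fiber A} {x' : 𝒳.p.Fiber B} {Y' : FibCat.overCat B ⥤ᵇ 𝒴}
    (hY' : AlgSt.RepByAlgSpWith (LocP @Smooth) Y') (h' : Corr φ x'.2 (objOf Y').2) {F : Sp S}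
    (RF : SpanRep x x' F) (hRF : LocP @Smooth RF.π) : FRig φ RF := by
  intro Z₁ g u z a b ha hb' het
  have hg : Smooth g.left := smooth_of_mk hRF het
  have key : ∀ (ω : 𝒴.obj) (hω : 𝒴.p.obj ω = Z₁), Corr φ z.2 hω → DenseClean ω Z₁ := by
    intro ω hω hzω
    obtain ⟨δ, hδ⟩ := arrow_right (inferInstance : FibCat.IsFibGrpd 𝒴.p) h' hzω b hb'
    exact denseClean_of_smooth hb hY' g hδ
  obtain ⟨ω, hω, hzω⟩ := exists_right φ z.2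
  refine ⟨(DenseClean.corr hP hd𝒳 h𝒴 h𝒳 (hφψ hzω) (key ω hω hzω)).rigid hP hd𝒳 inferInstance, fun ω' hω' h =>
    (key ω' hω' h).rigid hP hd𝒴 inferInstance⟩

/-- An object with a smooth surjective chart is a local generator. -/
theorem locSurj_of_chart {U : Over S} {X : FibCat.overCat U ⥤ᵇ 𝒳}
    (hX : AlgSt.RepByAlgSpWith (LocP @Smooth) X) (hX' : AlgSt.RepByAlgSpWith IsSurjectiveMor X) :
    LocSurj (objOf X).1 := by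
  intro t
  have : (IsSurjectiveMor (S := S)).RespectsIso := K735.Top.isSurjectiveMor_respectsIso
  obtain ⟨F, R, hR, hR'⟩ := exists_spanRep (K735.Top.repByAlgSpWith_inf hX hX') (⟨t, rfl⟩ : 𝒳.p.Fiber (𝒳.p.obj t))
  obtain ⟨V, p, hp⟩ := exists_ch F.property
  obtain ⟨g, u, z, a, b, ha, hb, rfl⟩ := exists_mk R p
  have hg : Smooth g.left := smooth_of_mk hR hp.et
  have hs : Surjective g.left := by
    apply surjective_of_isSurjectiveMor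
    rw [← mk_π R g u z a b ha hb]
    intro ξ
    obtain ⟨ξ', rfl⟩ := hR' ξ
    obtain ⟨ξ'', rfl⟩ := K603.Points.surjective_map_of_repWith _ hp.surj ξ'
    exact ⟨ξ'', by rw [Points.map_comp]⟩
  exact ⟨V, g, z.1, b, a, ⟨inferInstance, inferInstance, hs⟩, hb⟩

theorem _root_.K864.GpdMatch.LocSurj.comp {x z : 𝒳.obj} {U Z : Over S} {u : Z ⟶ U} (h : LocSurj x) {a : z ⟶ x}
    (ha : 𝒳.p.IsHomLift u a) (hu : FpC u) : LocSurj z := by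
  have hp : FibCat.IsFibGrpd 𝒳.p := inferInstance
  intro t
  obtain ⟨V, f, v, α, β, hf, hα⟩ := h t
  have hv : 𝒳.p.obj v = V := dom hα
  obtain ⟨w, hw⟩ : ∃ w : V ⟶ U, 𝒳.p.IsHomLift w β := by
    have h2 : 𝒳.p.obj x = U := cod ha
    exact ⟨eqToHom hv.symm ≫ 𝒳.p.map β ≫ eqToHom h2, IsHomLift.of_fac _ _ _ hv h2 rfl⟩
  have sq := IsPullback.of_hasPullback w u
  obtain ⟨v', γ, hγ⟩ := exists_lift hp hv (pullback.fst w u)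
  obtain ⟨δ, hδ, -⟩ := exists_fac hp ha (lift_comp hγ hw) sq.w.symm
  exact ⟨_, pullback.fst w u ≫ f, v', γ ≫ α, δ, FpC.comp hf (FpC.of_isPullback sq.flip hu), lift_comp hγ hα⟩

/-- Transitivity of the matching for smooth charts of bald stacks. -/
theorem trans_of_bald {P : MorphismProperty (AlgSp.Sp S)} (hP : P ≤ @AlgSp.IsSeparatedMor S)
    (hd𝒴 : AlgSt.RepByAlgSpWith P (FibCat.diag (FibCat.toSelf 𝒴)))
    (h𝒳 : Stk.IsStack (AlgSp.J S) 𝒳) (h𝒴 : Stk.IsStack (AlgSp.J S) 𝒴)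
    {φ : IsoNat.FIso 𝒳 𝒴} (hb : BaldP 𝒳) {Z : Over S} {X : FibCat.overCat Z ⥤ᵇ 𝒳}
    (hX : AlgSt.RepByAlgSpWith (LocP @Smooth) X) {y : 𝒴.p.Fiber Z} (hxy : Corr φ (objOf X).2 y.2)
    {F G : Sp S} {RF : SpanRep (objOf X) (objOf X) F} {RG : SpanRep y y G} (hF : IsAlgSpace F)
    (hRF : LocP @Smooth RF.π)
    {Φ : F ⟶ G} (hπ : Φ ≫ RG.π = RF.π) (hl : Φ ≫ lft RG = lft RF) : Trans RF RG Φ := by
  have hp𝒳 : FibCat.IsFibGrpd 𝒳.p := inferInstance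
  have hp𝒴 : FibCat.IsFibGrpd 𝒴.p := inferInstance
  -- the versal pair
  have sqF := IsPullback.of_hasPullback RF.π (lft RF)
  have hF₂ : IsAlgSpace (pullback RF.π (lft RF)) :=
    isAlgSpace_pullback hF hF (IsAlgSpace.yon_obj Z) _ _
  have hsnd : LocP @Smooth (pullback.snd RF.π (lft RF)) :=
    K597.locP_bc K597.etLoc_smooth sqF hF.hasAtlas (IsAlgSpace.yon_obj Z).hasAtlas hF.hasAtlas hRF
  have hsnd' : LocP @Smooth (pullback.snd RF.π (lft RF) ≫ RF.π) :=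
    K597.locP_comp K597.etLoc_smooth hF₂.hasAtlas hF.hasAtlas (IsAlgSpace.yon_obj Z).hasAtlas hsnd hRF
  obtain ⟨Z₂, p₂, hp₂⟩ := exists_ch hF₂
  obtain ⟨v₂, v₁, ζ, c₁, c₂, hc₁, hc₂, e₁⟩ := exists_mk RF (p₂ ≫ pullback.fst RF.π (lft RF))
  obtain ⟨v₃, v₂', ζ', c₂', c₃', hc₂', hc₃', e₂⟩ := exists_mk RF (p₂ ≫ pullback.snd RF.π (lft RF))
  have hv : v₂' = v₂ := by
    apply (yon S).map_injective
    rw [← mk_lft RF v₃ v₂' ζ' c₂' c₃' hc₂' hc₃', ← e₂, ← mk_π RF v₂ v₁ ζ c₁ c₂ hc₁ hc₂, ← e₁, Category.assoc,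
      Category.assoc, sqF.w]
  subst hv
  have e3 := cmp_comp (p := 𝒳.p) v₂' (x := objOf X) (x' := ζ) (x'' := ζ') c₂ c₂'
  obtain ⟨c₃, hc₃, e₄⟩ : ∃ (c₃ : ζ.1 ⟶ (objOf X).1) (hc₃ : 𝒳.p.IsHomLift v₃ c₃),
      p₂ ≫ pullback.snd RF.π (lft RF) = mk RF v₃ v₂' ζ c₂ c₃ hc₂ hc₃ := by
    refine ⟨(cmpHom (p := 𝒳.p) v₂' (x := objOf X) (x' := ζ) (x'' := ζ') c₂ c₂').1 ≫ c₃',
      IsHomLift.comp_lift_id_left 𝒳.p v₃ c₃' _, ?_⟩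
    rw [e₂, mk_eq_iff]
    refine ⟨inv (cmpHom (p := 𝒳.p) v₂' (x := objOf X) (x' := ζ) (x'' := ζ') c₂ c₂'), ?_, ?_⟩
    · rw [inv_val, IsIso.inv_comp_eq, e3]
    · rw [inv_val, IsIso.inv_hom_id_assoc]
  clear e₂ e3 hc₃' hc₂' c₃' c₂' ζ'
  -- it is rigid
  have hv₃ : Smooth v₃.left := hsnd' p₂ (𝟙 _) v₃ hp₂.et (repWith_id _ _) (by
    rw [← Category.assoc, e₄, mk_π, Category.comp_id])
  have hζ : DenseClean ζ.1 Z₂ := denseClean_of_smooth hb hX v₃ hc₃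
  obtain ⟨ω₀, hω₀, hζω⟩ := exists_right φ ζ.2
  have hω : Rigid ω₀ := (DenseClean.corr hP hd𝒴 h𝒳 h𝒴 hζω hζ).rigid hP hd𝒴 hp𝒴
  obtain ⟨γ₁, hγ₁⟩ := arrow_right hp𝒴 hxy hζω c₁ hc₁
  obtain ⟨γ₂, hγ₂⟩ := arrow_right hp𝒴 hxy hζω c₂ hc₂
  obtain ⟨γ₃, hγ₃⟩ := arrow_right hp𝒴 hxy hζω c₃ hc₃
  have vers : ∀ {v v' : Z₂ ⟶ Z} {c c' : ζ.1 ⟶ (objOf X).1} (hc : 𝒳.p.IsHomLift v c) (hc' : 𝒳.p.IsHomLift v' c')
      {γ γ' : ω₀ ⟶ y.1} (hγ : 𝒴.p.IsHomLift v γ) (hγ' : 𝒴.p.IsHomLift v' γ'),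
      Mt RF RG Φ hc hc' (ω := ⟨ω₀, hω₀⟩) hγ hγ' := by
    intro v v' c c' hc hc' γ γ' hγ hγ'
    refine (mk_unique_of_rigid RG (z := ⟨ω₀, hω₀⟩) hγ hγ' hω _ ?_ ?_).symm
    · rw [Category.assoc, hπ, mk_π]
    · rw [Category.assoc, hl, mk_lft]
  -- the general case
  intro T' u₁ u₂ u₃ z a₁ a₂ a₃ ha₁ ha₂ ha₃ ω α₁ α₂ α₃ hα₁ hα₂ hα₃ h12 h23
  have hm : mk RF u₂ u₁ z a₁ a₂ ha₁ ha₂ ≫ RF.π = mk RF u₃ u₂ z a₂ a₃ ha₂ ha₃ ≫ lft RF := by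
    rw [mk_π, mk_lft]
  obtain ⟨T'', h, l₀, hh, hl₀⟩ := hp₂.eSurj T' (sqF.lift _ _ hm)
  obtain ⟨l, rfl⟩ := (yon S).map_surjective l₀
  have f₁ : (yon S).map l ≫ mk RF v₂' v₁ ζ c₁ c₂ hc₁ hc₂ = (yon S).map h ≫ mk RF u₂ u₁ z a₁ a₂ ha₁ ha₂ := by
    rw [← e₁, ← Category.assoc, hl₀, Category.assoc, sqF.lift_fst]
  have f₂ : (yon S).map l ≫ mk RF v₃ v₂' ζ c₂ c₃ hc₂ hc₃ = (yon S).map h ≫ mk RF u₃ u₂ z a₂ a₃ ha₂ ha₃ := by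
    rw [← e₄, ← Category.assoc, hl₀, Category.assoc, sqF.lift_snd]
  -- restrictions
  let z'' := pull (p := 𝒳.p) h z
  let c : z''.1 ⟶ z.1 := pullHom (p := 𝒳.p) h z
  have hc : 𝒳.p.IsHomLift h c := pullHom_isHomLift _ _
  let ζ'' := pull (p := 𝒳.p) l ζ
  let e : ζ''.1 ⟶ ζ.1 := pullHom (p := 𝒳.p) l ζ
  have he : 𝒳.p.IsHomLift l e := pullHom_isHomLift _ _
  rw [map_mk RF l v₂' v₁ ζ'' ζ e c₁ c₂ he hc₁ hc₂ (lift_comp he hc₁) (lift_comp he hc₂),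
    map_mk RF h u₂ u₁ z'' z c a₁ a₂ hc ha₁ ha₂ (lift_comp hc ha₁) (lift_comp hc ha₂)] at f₁
  rw [map_mk RF l v₃ v₂' ζ'' ζ e c₂ c₃ he hc₂ hc₃ (lift_comp he hc₂) (lift_comp he hc₃),
    map_mk RF h u₃ u₂ z'' z c a₂ a₃ hc ha₂ ha₃ (lift_comp hc ha₂) (lift_comp hc ha₃)] at f₂
  obtain ⟨θ, t₁, t₂⟩ := (mk_eq_iff RF _ _ _ _ _ _ _ _ _ _ _ _ _ _).1 f₁.symm
  obtain ⟨θ', t₂', t₃⟩ := (mk_eq_iff RF _ _ _ _ _ _ _ _ _ _ _ _ _ _).1 f₂.symm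
  have hθ : θ = θ' := hom_ext' (fac_unique hp𝒳 (e ≫ c₂) θ.2 θ'.2 (t₂.trans t₂'.symm))
  subst hθ
  have hk : 𝒳.p.IsHomLift l (θ.1 ≫ e) := lift_id_comp θ.2 he
  -- the corresponding arrows of `𝒴`
  let ω'' := pull (p := 𝒴.p) h ω
  let d : ω''.1 ⟶ ω.1 := pullHom (p := 𝒴.p) h ω
  have hd : 𝒴.p.IsHomLift h d := pullHom_isHomLift _ _
  let ϖ := pull (p := 𝒴.p) l ⟨ω₀, hω₀⟩
  let e' : ϖ.1 ⟶ ω₀ := pullHom (p := 𝒴.p) l ⟨ω₀, hω₀⟩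
  have he' : 𝒴.p.IsHomLift l e' := pullHom_isHomLift _ _
  have k12 := (vers hc₁ hc₂ hγ₁ hγ₂).res hk he'
  have k23 := (vers hc₂ hc₃ hγ₂ hγ₃).res hk he'
  have m12 := h12.res hc hd
  have m23 := h23.res hc hd
  have b₁ : l ≫ v₁ = h ≫ u₁ := base_unique (lift_comp hk hc₁) (by rw [Category.assoc, t₁]; exact lift_comp hc ha₁)
  have b₂ : l ≫ v₂' = h ≫ u₂ := base_unique (lift_comp hk hc₂) (by rw [Category.assoc, t₂]; exact lift_comp hc ha₂)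
  have b₃ : l ≫ v₃ = h ≫ u₃ := base_unique (lift_comp hk hc₃) (by rw [Category.assoc, t₃]; exact lift_comp hc ha₃)
  have n₁ : 𝒴.p.IsHomLift (h ≫ u₁) (e' ≫ γ₁) := by rw [← b₁]; exact lift_comp he' hγ₁
  have n₂ : 𝒴.p.IsHomLift (h ≫ u₂) (e' ≫ γ₂) := by rw [← b₂]; exact lift_comp he' hγ₂
  have n₃ : 𝒴.p.IsHomLift (h ≫ u₃) (e' ≫ γ₃) := by rw [← b₃]; exact lift_comp he' hγ₃
  have k12' := k12.congr ((Category.assoc _ _ _).trans t₁) ((Category.assoc _ _ _).trans t₂) rfl rfl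
    (lift_comp hc ha₁) (lift_comp hc ha₂) n₁ n₂
  have k23' := k23.congr ((Category.assoc _ _ _).trans t₂) ((Category.assoc _ _ _).trans t₃) rfl rfl
    (lift_comp hc ha₂) (lift_comp hc ha₃) n₂ n₃
  unfold Mt at k12' k23' m12 m23
  rw [m12] at k12'
  rw [m23] at k23'
  obtain ⟨κ, s₁, s₂⟩ := (mk_eq_iff RG _ _ _ _ _ _ _ _ _ _ _ _ _ _).1 k12'
  obtain ⟨κ', s₂', s₃⟩ := (mk_eq_iff RG _ _ _ _ _ _ _ _ _ _ _ _ _ _).1 k23'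
  have hκ : κ = κ' := hom_ext' (fac_unique hp𝒴 (e' ≫ γ₂) κ.2 κ'.2 (s₂.trans s₂'.symm))
  subst hκ
  have hk' : 𝒴.p.IsHomLift l (κ.1 ≫ e') := lift_id_comp κ.2 he'
  have k13 := (vers hc₁ hc₃ hγ₁ hγ₃).res hk hk'
  refine Mt.of_res hh.fpC hc hd ?_
  exact k13.congr ((Category.assoc _ _ _).trans t₁) ((Category.assoc _ _ _).trans t₃)
    ((Category.assoc _ _ _).trans s₁) ((Category.assoc _ _ _).trans s₃) _ _ _ _

theorem lft_swap {A B : Over S} {x : 𝒳.p.Fiber A} {x' : 𝒳.p.Fiber B} {F : Sp S} (R : SpanRep x x' F) :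
    lft (swap R) = R.π := by
  refine K613.Basic.hom_ext fun T s => ?_
  obtain ⟨g, u, z, a, b, ha, hb, rfl⟩ := exists_mk R s
  rw [mk_π]
  exact mk_lft (swap R) u g z b a hb ha

omit [FibCat.IsFibGrpd 𝒳.p] in
theorem exists_chartArr {A Z : Over S} (X : FibCat.overCat A ⥤ᵇ 𝒳) (u : Z ⟶ A) :
    ∃ w : (objOf (BasedFunctor.comp (AlgSt.overMap u) X)).1 ⟶ (objOf X).1, 𝒳.p.IsHomLift u w := by
  refine ⟨X.map (can ((Over.map u).obj (Over.mk (𝟙 Z)))), ?_⟩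
  have h1 := lift_map X (can ((Over.map u).obj (Over.mk (𝟙 Z))))
  have h2 : (can ((Over.map u).obj (Over.mk (𝟙 Z)))).left = u := by
    rw [can_left]
    exact Category.id_comp _
  rw [h2] at h1
  exact h1

theorem main {P : MorphismProperty (AlgSp.Sp S)} (hP : P ≤ @AlgSp.IsSeparatedMor S)
    (hd𝒳 : AlgSt.RepByAlgSpWith P (FibCat.diag (FibCat.toSelf 𝒳)))
    (hd𝒴 : AlgSt.RepByAlgSpWith P (FibCat.diag (FibCat.toSelf 𝒴)))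
    (h𝒳 : Stk.IsStack (AlgSp.J S) 𝒳) (h𝒴 : Stk.IsStack (AlgSp.J S) 𝒴)
    (ha𝒳 : AlgSt.HasAtlas (LocP @Smooth) 𝒳) (ha𝒴 : AlgSt.HasAtlas (LocP @Smooth) 𝒴)
    (hb𝒳 : BaldP 𝒳) (hb𝒴 : BaldP 𝒴) (φ : IsoNat.FIso 𝒳 𝒴) : ∃ e : 𝒳 ⥤ᵇ 𝒴, FibCat.IsEquivOver e := by
  have hp𝒳 : FibCat.IsFibGrpd 𝒳.p := inferInstance
  have hp𝒴 : FibCat.IsFibGrpd 𝒴.p := inferInstance
  let ψ : IsoNat.FIso 𝒴 𝒳 := K863.Corr.symm φ hp𝒳 hp𝒴
  have hφψ : ∀ {T : Over S} {x : 𝒳.obj} {y : 𝒴.obj} {hx : 𝒳.p.obj x = T} {hy : 𝒴.p.obj y = T},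
      Corr φ hx hy → Corr ψ hy hx := fun h => corr_symm h
  have hψφ : ∀ {T : Over S} {y : 𝒴.obj} {x : 𝒳.obj} {hy : 𝒴.p.obj y = T} {hx : 𝒳.p.obj x = T},
      Corr ψ hy hx → Corr φ hx hy := by
    intro T y x hy hx h
    have h' : (φ.toEquiv T).symm (IsoNat.cls ⟨y, hy⟩) = IsoNat.cls ⟨x, hx⟩ := h
    rw [Equiv.symm_apply_eq] at h'
    exact h'.symm
  have : (IsSurjectiveMor (S := S)).RespectsIso := K735.Top.isSurjectiveMor_respectsIso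
  obtain ⟨A, X, hX, hXs⟩ := ha𝒳
  obtain ⟨B, Y', hY', hYs⟩ := ha𝒴
  obtain ⟨y, hy, hxy⟩ := exists_right φ (objOf X).2
  obtain ⟨x', hx', hxy'⟩ := exists_left φ (objOf Y').2
  obtain ⟨F, RF, hRF, hRFs⟩ := exists_spanRep (K735.Top.repByAlgSpWith_inf hX hXs) (⟨x', hx'⟩ : 𝒳.p.Fiber B)
  obtain ⟨G, RG, hRG, hRGs⟩ := exists_spanRep (K735.Top.repByAlgSpWith_inf hY' hYs) (⟨y, hy⟩ : 𝒴.p.Fiber A)
  have rF : FRig φ RF := frig hP hd𝒳 hd𝒴 h𝒳 h𝒴 hφψ hb𝒴 hY' hxy' RF hRF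
  have rG : FRig ψ RG := frig hP hd𝒴 hd𝒳 h𝒴 h𝒳 hψφ hb𝒳 hX (hφψ hxy) RG hRG
  obtain ⟨Φ, hΦ1, hΦ2⟩ := exists_iso RF RG F.property G.property (y := ⟨y, hy⟩) hxy hxy'
    (hφψ hxy) (hφψ hxy') rF rG
  -- a common chart
  obtain ⟨Z, p, hp⟩ := exists_ch F.property
  obtain ⟨g, u, z, a, b, ha, hb, rfl⟩ := exists_mk RF p
  have hg : Smooth g.left := smooth_of_mk hRF hp.et
  have hpΦ : RepWith @Etale (mk RF g u z a b ha hb ≫ Φ.hom) :=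
    MorphismProperty.RespectsIso.postcomp _ _ _ hp.et
  have hpu : (mk RF g u z a b ha hb ≫ Φ.hom) ≫ RG.π = (yon S).map u := by
    rw [Category.assoc, hΦ2, mk_lft]
  have hu : Smooth u.left := hRG _ (𝟙 _) u hpΦ (repWith_id _ _) (by rw [hpu, Category.comp_id])
  have hps : IsSurjectiveMor (mk RF g u z a b ha hb) := K603.Points.surjective_map_of_repWith _ hp.surj
  have hgs : Surjective g.left := by
    apply surjective_of_isSurjectiveMor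
    rw [← mk_π RF g u z a b ha hb]
    intro ξ
    obtain ⟨ξ', rfl⟩ := hRFs ξ
    obtain ⟨ξ'', rfl⟩ := hps ξ'
    exact ⟨ξ'', by rw [Points.map_comp]⟩
  have hus : Surjective u.left := by
    apply surjective_of_isSurjectiveMor
    rw [← hpu]
    intro ξ
    obtain ⟨ξ', rfl⟩ := hRGs ξ
    obtain ⟨ξ'', hξ''⟩ := hps (Points.map Φ.inv ξ')
    refine ⟨ξ'', ?_⟩
    rw [Points.map_comp, Points.map_comp, hξ'', ← Points.map_comp Φ.inv Φ.hom, Φ.inv_hom_id, Points.map_id]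
  have hgc : FpC g := ⟨inferInstance, inferInstance, hgs⟩
  have huc : FpC u := ⟨inferInstance, inferInstance, hus⟩
  have hX₁ := smooth_comp hX u
  have hY₁ := smooth_comp hY' g
  obtain ⟨w, hw⟩ := exists_chartArr X u
  obtain ⟨w', hw'⟩ := exists_chartArr Y' g
  generalize BasedFunctor.comp (AlgSt.overMap u) X = X₁ at hX₁ w hw
  generalize BasedFunctor.comp (AlgSt.overMap g) Y' = Y₁ at hY₁ w' hw'
  have lX : LocSurj (objOf X₁).1 := (locSurj_of_chart hX hXs).comp hw huc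
  have lY : LocSurj (objOf Y₁).1 := (locSurj_of_chart hY' hYs).comp hw' hgc
  have hcorr : Corr φ (objOf X₁).2 (objOf Y₁).2 := by
    obtain ⟨ω, hω, hzω⟩ := exists_right φ z.2
    obtain ⟨β, hβ⟩ := arrow_right hp𝒴 hxy' hzω b hb
    obtain ⟨e, he, -⟩ := exists_vert hp𝒳 ha hw
    obtain ⟨e', he', -⟩ := exists_vert hp𝒴 hβ hw'
    exact corr_res hp𝒳 hp𝒴 hzω he he'
  obtain ⟨F₁, RF₁, hRF₁⟩ := exists_spanRep hX₁ (objOf X₁)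
  obtain ⟨G₁, RG₁, hRG₁⟩ := exists_spanRep hY₁ (objOf Y₁)
  have rF₁ : FRig φ RF₁ := frig hP hd𝒳 hd𝒴 h𝒳 h𝒴 hφψ hb𝒴 hY₁ hcorr RF₁ hRF₁
  have rG₁ : FRig ψ RG₁ := frig hP hd𝒴 hd𝒳 h𝒴 h𝒳 hψφ hb𝒳 hX₁ (hφψ hcorr) RG₁ hRG₁
  obtain ⟨Φ₁, k1, k2⟩ := exists_iso RF₁ RG₁ F₁.property G₁.property hcorr hcorr
    (hφψ hcorr) (hφψ hcorr) rF₁ rG₁
  have k2' : Φ₁.hom ≫ lft (swap RG₁) = lft RF₁ := by rw [lft_swap, k2]
  exact GpdMatch.exists_isEquivOver (RF := RF₁) (RG := swap RG₁) h𝒳 h𝒴 Φ₁ k1 k2'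
    (trans_of_bald hP hd𝒴 h𝒳 h𝒴 hb𝒳 hX₁ hcorr F₁.property hRF₁ k1 k2') lX lY

end K864.BaldMain
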