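import Groth.Agent.IsoNat.K864.SepClean
import Groth.Agent.IsoNat.K863.Corr
import Groth.Agent.IsoNat.K862.Cls

/-!
# Cleanness is detected by the presheaf of isomorphism classes; rigid objects
-/

set_option autoImplicit false
set_option linter.unusedSectionVars false
set_option backward.isDefEq.respectTransparency false
set_option backward.isDefEq.respectTransparency.types false

universe u

open CategoryTheory CategoryTheory.Limits AlgebraicGeometry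

namespace K864.CleanCorr

open K863.Arr K863.Glue K863.Pair K863.Corr K864.Disj K864.Prd K864.Cross K864.Twist K864.Doubled

variable {S : Scheme.{u}} {𝒳 𝒴 : AlgSt.Cat S}

theorem clean_of_hom {x y : 𝒳.obj} (f : y ⟶ x) (h : IsoNat.IsClean x) : IsoNat.IsClean y :=
  fun z a s hs => h z (a ≫ f) s hs

/-- Two arrows over the same base arrow from a clean object are equal. -/
theorem arrow_unique (hp : FibCat.IsFibGrpd 𝒳.p) {x y : 𝒳.obj} (hx : IsoNat.IsClean x) {U V : Over S} {g : U ⟶ V}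
    {f f' : x ⟶ y} (hf : 𝒳.p.IsHomLift g f) (hf' : 𝒳.p.IsHomLift g f') : f = f' := by
  obtain ⟨χ, hχ, hχ'⟩ := exists_vert hp hf' hf
  obtain rfl : 𝒳.p.obj x = U := dom hf
  have h1 : χ = 𝟙 x := hx x (𝟙 x) χ (IsHomLift.eq_of_isHomLift 𝒳.p (𝟙 (𝒳.p.obj x)) χ).symm
  rw [← hχ', h1, Category.id_comp]

variable {φ : IsoNat.FIso 𝒳 𝒴}

/-- Restrictions of corresponding objects correspond. -/
theorem corr_res (h𝒳 : FibCat.IsFibGrpd 𝒳.p) (h𝒴 : FibCat.IsFibGrpd 𝒴.p) {T' T : Over S} {g : T' ⟶ T}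
    {x x' : 𝒳.obj} {y y' : 𝒴.obj} {hx : 𝒳.p.obj x = T} {hy : 𝒴.p.obj y = T} (h : Corr φ hx hy)
    {a : x' ⟶ x} {b : y' ⟶ y} (ha : 𝒳.p.IsHomLift g a) (hb : 𝒴.p.IsHomLift g b) :
    Corr φ (dom ha) (dom hb) := by
  unfold Corr at *
  have e1 : K862.Cls.pullCls g (IsoNat.cls (𝒳 := 𝒳) (⟨x, hx⟩ : 𝒳.p.Fiber T)) =
      IsoNat.cls (⟨x', dom ha⟩ : 𝒳.p.Fiber T') :=
    @K862.Cls.pullCls_eq _ _ _ _ _ g ⟨x, hx⟩ ⟨x', dom ha⟩ a ha
  have e2 : K862.Cls.pullCls g (IsoNat.cls (𝒳 := 𝒴) (⟨y, hy⟩ : 𝒴.p.Fiber T)) =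
      IsoNat.cls (⟨y', dom hb⟩ : 𝒴.p.Fiber T') :=
    @K862.Cls.pullCls_eq _ _ _ _ _ g ⟨y, hy⟩ ⟨y', dom hb⟩ b hb
  rw [← e1, K862.Cls.toEquiv_pullCls φ g, h, e2]

theorem corr_congr {T : Over S} {x : 𝒳.obj} {y : 𝒴.obj} {hx hx' : 𝒳.p.obj x = T} {hy hy' : 𝒴.p.obj y = T}
    (h : Corr φ hx hy) : Corr φ hx' hy' := h

theorem clean_of_corr {P : MorphismProperty (AlgSp.Sp S)} (hP : P ≤ @AlgSp.IsSeparatedMor S)
    (hd : AlgSt.RepByAlgSpWith P (FibCat.diag (FibCat.toSelf 𝒴)))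
    (h𝒳 : Stk.IsStack (AlgSp.J S) 𝒳) (h𝒴 : Stk.IsStack (AlgSp.J S) 𝒴) {T : Over S} {x : 𝒳.obj} {y : 𝒴.obj}
    {hx : 𝒳.p.obj x = T} {hy : 𝒴.p.obj y = T} (h : Corr φ hx hy) (hc : IsoNat.IsClean x) : IsoNat.IsClean y := by
  subst hy
  intro y' β s hs
  have hpx := h𝒳.1
  have hpy := h𝒴.1
  have hβ : 𝒴.p.IsHomLift (𝒴.p.map β) β := IsHomLift.map _ _
  have hs' : 𝒴.p.IsHomLift (𝟙 (𝒴.p.obj y')) s := hs ▸ IsHomLift.map _ _
  obtain ⟨x', α, hα⟩ := exists_lift hpx hx (𝒴.p.map β)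
  have hxy' : Corr φ (dom hα) (dom hβ) := corr_res hpx hpy h hα hβ
  have hc' : IsoNat.IsClean x' := clean_of_hom α hc
  generalize 𝒴.p.map β = g at hα hβ
  obtain ⟨T', hT'⟩ : ∃ T', 𝒴.p.obj y' = T' := ⟨_, rfl⟩
  have hx' : 𝒳.p.obj x' = T' := (dom hα).trans hT'
  rw [hT'] at hs'
  have hC : Corr φ hx' hT' := by subst hT'; exact hxy'
  clear hα hβ hxy' g
  obtain ⟨D⟩ := exists_data h𝒴 hT' hs'
  -- the corresponding object
  obtain ⟨w, hw, hwz⟩ := exists_left φ (cod D.hζ₁)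
  obtain ⟨xP, aP, haP⟩ := exists_lift hpx hx' (p₁ T' Cr.{u})
  have hP1 : Corr φ (dom haP) (dom D.haP) := corr_res hpx hpy hC haP D.haP
  have arr : ∀ {i : Cr.{u} ⟶ D2.{u}} {ζ : D.xP ⟶ D.z} (_ : 𝒴.p.IsHomLift (mapR T' i) ζ),
      ∃ ω : xP ⟶ w, 𝒳.p.IsHomLift (mapR T' i) ω := by
    intro i ζ hζ
    exact arrow_left hpx hpy hwz hP1 ζ hζ
  obtain ⟨ω₁, hω₁⟩ := arr D.hζ₁
  obtain ⟨ω₂, hω₂⟩ := arr D.hζ₂
  obtain ⟨xV, aV, haV⟩ := exists_lift hpx (dom haP) (mapR T' V.{u}.ι)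
  have hVc : IsoNat.IsClean xV := clean_of_hom (aV ≫ aP) hc'
  have hcomm : aV ≫ ω₁ = aV ≫ ω₂ := by
    refine arrow_unique hpx hVc (lift_comp haV hω₁) ?_
    have e : mapR T' V.{u}.ι ≫ mapR T' i₁ = mapR T' V.{u}.ι ≫ mapR T' i₂ := (isOpenPair_D2 T').pb.w
    rw [e]
    exact lift_comp haV hω₂
  obtain ⟨γ, hγ, -, -⟩ := exists_hom h𝒳 (isOpenPair_D2 T') haV haV hω₁ hω₂ hcomm (g := p₁ T' D2.{u})
    (γ₁ := aP) (γ₂ := aP) (by rw [mapR_p₁]; exact haP) (by rw [mapR_p₁]; exact haP) rfl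
  obtain ⟨δ, hδ⟩ := arrow_right hpy hC hwz γ hγ
  have := hpy
  exact SepClean.eq_id_of_data hP hd hpy hs' D hδ

/-- Arrows from `x` are determined by their base arrows. -/
def Rigid (x : 𝒳.obj) : Prop :=
  ∀ ⦃x' : 𝒳.obj⦄ ⦃U V : Over S⦄ (g : U ⟶ V) (f f' : x ⟶ x'), 𝒳.p.IsHomLift g f → 𝒳.p.IsHomLift g f' → f = f'

/-- `x` is clean over a schematically dense open of its base. -/
def DenseClean (x : 𝒳.obj) (T : Over S) : Prop :=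
  ∃ (V : T.left.Opens) (x' : 𝒳.obj) (a : x' ⟶ x), 𝒳.p.IsHomLift (opnι T V) a ∧ IsoNat.IsClean x' ∧
    IsSchemeTheoreticallyDominant V.ι

theorem DenseClean.rigid {P : MorphismProperty (AlgSp.Sp S)} (hP : P ≤ @AlgSp.IsSeparatedMor S)
    (hd : AlgSt.RepByAlgSpWith P (FibCat.diag (FibCat.toSelf 𝒳))) (hp : FibCat.IsFibGrpd 𝒳.p) {x : 𝒳.obj}
    {T : Over S} (h : DenseClean x T) : Rigid x := by
  obtain ⟨V, x', a, ha, hc, hd'⟩ := h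
  intro y U W g f f' hf hf'
  obtain rfl : T = U := (cod ha).symm.trans (dom hf)
  have hd'' : IsSchemeTheoreticallyDominant (opnι T V).left := hd'
  exact SepUniq.arrow_ext hP hd (opnι T V) ha hf hf'
    (arrow_unique hp hc (lift_comp ha hf) (lift_comp ha hf'))

theorem DenseClean.corr {P : MorphismProperty (AlgSp.Sp S)} (hP : P ≤ @AlgSp.IsSeparatedMor S)
    (hd : AlgSt.RepByAlgSpWith P (FibCat.diag (FibCat.toSelf 𝒴)))
    (h𝒳 : Stk.IsStack (AlgSp.J S) 𝒳) (h𝒴 : Stk.IsStack (AlgSp.J S) 𝒴) {T : Over S} {x : 𝒳.obj} {y : 𝒴.obj}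
    {hx : 𝒳.p.obj x = T} {hy : 𝒴.p.obj y = T} (h : Corr φ hx hy) (hc : DenseClean x T) : DenseClean y T := by
  obtain ⟨V, x', a, ha, hc, hd'⟩ := hc
  obtain ⟨y', b, hb⟩ := exists_lift h𝒴.1 hy (opnι T V)
  exact ⟨V, y', b, hb, clean_of_corr hP hd h𝒳 h𝒴 (corr_res h𝒳.1 h𝒴.1 h ha hb) hc, hd'⟩

end K864.CleanCorr
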