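import Groth.Agent.AlgSp.K613.Diag
import Groth.Agent.IsoNat.K862.Isom
import Groth.Prelude.Def_AlgSt3
import Mathlib.AlgebraicGeometry.Morphisms.SchemeTheoreticallyDominant

/-!
# Separated morphisms and scheme-theoretically dominant morphisms

* `eq_of_std`: two maps from a scheme to a separated algebraic space which agree after composition with a
  scheme-theoretically dominant morphism are equal.
* `arrow_ext`: in a category fibred in groupoids over `(Sch/S)` with separated diagonal, two arrows over the same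
  base arrow which agree after restriction along a scheme-theoretically dominant morphism are equal.
-/

set_option autoImplicit false
set_option linter.unusedSectionVars false
set_option backward.isDefEq.respectTransparency false
set_option backward.isDefEq.respectTransparency.types false

universe u

open CategoryTheory CategoryTheory.Limits AlgebraicGeometry Opposite K862 K862.Fib AlgSp

namespace K864.SepUniq

variable {S : Scheme.{u}}

/-- maps `h_T ⟶ G` are sections of `G` over `T` -/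
noncomputable def secEquiv (G : Sp S) (T : Over S) : ((yon S).obj T ⟶ G) ≃ G.obj.obj (op T) :=
  (J S).uliftYonedaEquiv

theorem secEquiv_map {G : Sp S} {T T' : Over S} (g : T' ⟶ T) (t : (yon S).obj T ⟶ G) :
    secEquiv G T' ((yon S).map g ≫ t) = G.obj.map g.op (secEquiv G T t) :=
  ((J S).uliftYonedaEquiv_naturality t g).symm

theorem secEquiv_symm_map {G : Sp S} {T T' : Over S} (g : T' ⟶ T) (x : G.obj.obj (op T)) :
    (secEquiv G T').symm (G.obj.map g.op x) = (yon S).map g ≫ (secEquiv G T).symm x := by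
  rw [Equiv.symm_apply_eq, secEquiv_map, Equiv.apply_symm_apply]

theorem secEquiv_comp {G H : Sp S} {T : Over S} (t : (yon S).obj T ⟶ G) (f : G ⟶ H) :
    secEquiv H T (t ≫ f) = f.hom.app (op T) (secEquiv G T t) := rfl

/-- A closed immersion through which a scheme-theoretically dominant morphism factors is an isomorphism. -/
theorem isIso_of_factor {W E B : Scheme.{u}} (k : W ⟶ E) (e : E ⟶ B) [IsClosedImmersion e]
    [h : IsSchemeTheoreticallyDominant (k ≫ e)] : IsIso e := by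
  have h1 : e.ker = ⊥ := le_bot_iff.1 ((Scheme.Hom.le_ker_comp k e).trans h.ker_eq_bot.le)
  exact IsClosedImmersion.isIso_of_ker_eq e (𝟙 B) e (Category.comp_id e) (by
    rw [h1, Scheme.Hom.ker_eq_bot_of_isIso])

theorem eq_of_std {F G : Sp S} {f : F ⟶ G} (h : IsSeparatedMor f) {B W : Over S} (j : W ⟶ B)
    [hj : IsSchemeTheoreticallyDominant j.left] {l l' : (yon S).obj B ⟶ F} (h1 : l ≫ f = l' ≫ f)
    (h2 : (yon S).map j ≫ l = (yon S).map j ≫ l') : l = l' := by
  obtain ⟨E, e, he⟩ := (K613.Diag.representable_diagonal_iff f).1 h.1 _ l l' h1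
  have he1 : IsClosedImmersion e.left := K613.Diag.prop_of_isEq h h1 he
  obtain ⟨k, hk, -⟩ := he.lift _ _ h2
  have hk' : k.left ≫ e.left = j.left := by rw [← Over.comp_left, hk]
  have hd : IsSchemeTheoreticallyDominant (k.left ≫ e.left) := hk'.symm ▸ hj
  have hi : IsIso e.left := isIso_of_factor k.left e.left
  have hi2 : IsIso ((Over.forget S).map e) := hi
  have hi3 : IsIso e := isIso_of_reflects_iso e (Over.forget S)
  have : IsIso ((yon S).map e) := inferInstance
  rw [← cancel_epi ((yon S).map e)]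
  exact he.w

/-- Sections of a separated space agreeing after restriction along a scheme-theoretically dominant morphism. -/
theorem sec_eq_of_std {F G : Sp S} {f : F ⟶ G} (h : IsSeparatedMor f) {B W : Over S} (j : W ⟶ B)
    [IsSchemeTheoreticallyDominant j.left] {l l' : F.obj.obj (op B)}
    (h1 : f.hom.app (op B) l = f.hom.app (op B) l')
    (h2 : F.obj.map j.op l = F.obj.map j.op l') : l = l' := by
  have := eq_of_std h j (l := (secEquiv F B).symm l) (l' := (secEquiv F B).symm l')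
    ((secEquiv G B).injective (by
      rw [secEquiv_comp, secEquiv_comp, Equiv.apply_symm_apply, Equiv.apply_symm_apply, h1]))
    (by rw [← secEquiv_symm_map, ← secEquiv_symm_map, h2])
  exact (secEquiv F B).symm.injective this

section Stack

variable {𝒳 : AlgSt.Cat S} [FibCat.IsFibGrpd 𝒳.p]

/-- The diagonal of `𝒳` is separated. -/
theorem hom_ext_of_std {P : MorphismProperty (Sp S)} (hP : P ≤ @IsSeparatedMor S)
    (hd : AlgSt.RepByAlgSpWith P (FibCat.diag (FibCat.toSelf 𝒳))) {B W : Over S} (j : W ⟶ B)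
    [IsSchemeTheoreticallyDominant j.left] {y x : 𝒳.p.Fiber B} {y' : 𝒳.obj} (a : y' ⟶ y.1)
    (ha : 𝒳.p.IsHomLift j a) {f g : y ⟶ x} (h : a ≫ f.1 = a ≫ g.1) : f = g := by
  obtain ⟨F, R, hR⟩ := exists_isomRep y x hd
  have hsep : IsSeparatedMor R.π := hP _ hR
  have hy' : 𝒳.p.obj y' = W := IsHomLift.domain_eq 𝒳.p j a
  have iy : 𝒳.p.IsHomLift (𝟙 B) (𝟙 y.1) := IsHomLift.id y.2
  have ix : 𝒳.p.IsHomLift (𝟙 B) (𝟙 x.1) := IsHomLift.id x.2
  have e : R.sec (𝟙 B) y (𝟙 y.1) f.1 iy f.2 = R.sec (𝟙 B) y (𝟙 y.1) g.1 iy g.2 := by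
    refine sec_eq_of_std hsep j ?_ ?_
    · rw [R.sec_π, R.sec_π]
    · let y'' : 𝒳.p.Fiber W := ⟨y', hy'⟩
      have l1 : 𝒳.p.IsHomLift (j ≫ 𝟙 B) (a ≫ 𝟙 y.1) := IsHomLift.comp 𝒳.p j (𝟙 B) a (𝟙 y.1)
      have l2 : 𝒳.p.IsHomLift (j ≫ 𝟙 B) (a ≫ f.1) := IsHomLift.comp 𝒳.p j (𝟙 B) a f.1
      have l3 : 𝒳.p.IsHomLift (j ≫ 𝟙 B) (a ≫ g.1) := IsHomLift.comp 𝒳.p j (𝟙 B) a g.1
      rw [R.sec_map j (𝟙 B) y'' y a (𝟙 y.1) f.1 ha iy f.2 l1 l2,
        R.sec_map j (𝟙 B) y'' y a (𝟙 y.1) g.1 ha iy g.2 l1 l3]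
      exact R.sec_congr (z := y'') _ _ _ _ rfl h
  obtain ⟨θ, h1, h2⟩ := (R.sec_eq_iff _ _ _ _ _ _ _ _ _ _ _ _).1 e
  have h3 : θ = 𝟙 y := hom_ext' ((Category.comp_id _).symm.trans h1)
  rw [h3, id_val, Category.id_comp] at h2
  exact (hom_ext' h2).symm

/-- Two arrows over the same base arrow which agree after restriction along a scheme-theoretically dominant
morphism are equal. -/
theorem arrow_ext {P : MorphismProperty (Sp S)} (hP : P ≤ @IsSeparatedMor S)
    (hd : AlgSt.RepByAlgSpWith P (FibCat.diag (FibCat.toSelf 𝒳))) {B W T : Over S} (j : W ⟶ B)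
    [IsSchemeTheoreticallyDominant j.left] {y y' x : 𝒳.obj} {a : y' ⟶ y}
    (ha : 𝒳.p.IsHomLift j a) {t : B ⟶ T} {f g : y ⟶ x} (hf : 𝒳.p.IsHomLift t f)
    (hg : 𝒳.p.IsHomLift t g) (h : a ≫ f = a ≫ g) : f = g := by
  have hy : 𝒳.p.obj y = B := IsHomLift.domain_eq 𝒳.p t f
  have hx : 𝒳.p.obj x = T := IsHomLift.codomain_eq 𝒳.p t f
  let yy : 𝒳.p.Fiber B := ⟨y, hy⟩
  let xx : 𝒳.p.Fiber T := ⟨x, hx⟩
  let p := pullHom t xx
  let f₀ : yy ⟶ pull t xx := cmpHom t (x := xx) (x' := yy) f p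
  let g₀ : yy ⟶ pull t xx := cmpHom t (x := xx) (x' := yy) g p
  have hf₀ : f₀.1 ≫ p = f := cmp_comp t (x := xx) (x' := yy) f p
  have hg₀ : g₀.1 ≫ p = g := cmp_comp t (x := xx) (x' := yy) g p
  have key : f₀ = g₀ := by
    refine hom_ext_of_std hP hd j a ha ?_
    have m1 : 𝒳.p.IsHomLift j (a ≫ f₀.1) := IsHomLift.comp_lift_id_right 𝒳.p j a f₀.1
    have m2 : 𝒳.p.IsHomLift j (a ≫ g₀.1) := IsHomLift.comp_lift_id_right 𝒳.p j a g₀.1
    refine cancel (p := 𝒳.p) t j p ?_
    rw [Category.assoc, Category.assoc, hf₀, hg₀, h]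
  rw [← hf₀, ← hg₀, key]

end Stack

end K864.SepUniq
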