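import Groth.Agent.IsoNat.K864.TrivCons
import Groth.Agent.IsoNat.K864.SepUniq
import Groth.Agent.CurvSt.K899.OpenCrit
import Groth.Agent.AlgSt.K735.Top
import Groth.Agent.FibDim.K582.Retro
import Groth.Agent.AlgSp.K596.QC
import Groth.Prelude.Def_W4c2isonaturalstkIso

/-!
# The clean locus of a stack with proper inertia is open
-/

set_option autoImplicit false
set_option linter.unusedSectionVars false
set_option backward.isDefEq.respectTransparency false
set_option backward.isDefEq.respectTransparency.types false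

universe u

open CategoryTheory CategoryTheory.Limits AlgebraicGeometry Opposite AlgSp K613.Basic K613.Cover K613.Chart K613.Diag
open K862 K862.Fib K864.SepUniq K864.TrivLocus K864.TrivCons

namespace K864.CleanLocus

variable {S : Scheme.{u}}

theorem triv_of_cover {G : Sp S} {T : Over S} {π : G ⟶ (yon S).obj T} {e : (yon S).obj T ⟶ G} {A : Over S}
    {a : A ⟶ T} {ι : Type u} (A' : ι → Over S) (c : ∀ i, A' i ⟶ A) (hf : ∀ i, Flat (c i).left)
    (hp : ∀ i, LocallyOfFinitePresentation (c i).left)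
    (hs : ∀ t : A.left, ∃ (i : ι) (t' : (A' i).left), (c i).left t' = t)
    (h : ∀ i, Triv π e (c i ≫ a)) : Triv π e a := by
  intro B b g hg
  have sq := fun i => IsPullback.of_hasPullback b (c i)
  obtain ⟨y, -, hy⟩ := glueFam (F := G) (T := B) (fun i => pullback b (c i)) (fun i => pullback.fst b (c i))
    (fun i => MorphismProperty.of_isPullback (P := @Flat) ((sq i).flip.map (Over.forget S)) (hf i))
    (fun i => MorphismProperty.of_isPullback (P := @LocallyOfFinitePresentation)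
      ((sq i).flip.map (Over.forget S)) (hp i))
    (fun t => by
      obtain ⟨i, t', ht'⟩ := hs (b.left t)
      obtain ⟨z, hz, -⟩ := Scheme.exists_preimage_of_isPullback ((sq i).map (Over.forget S)) t t' ht'.symm
      exact ⟨i, z, hz⟩)
    (fun i => (yon S).map (pullback.fst b (c i)) ≫ g)
    (fun i j R r r' hr => by
      rw [← Category.assoc, ← Category.assoc, ← Functor.map_comp, ← Functor.map_comp, hr])
  refine (hy g fun i => rfl).trans (hy _ fun i => ?_).symm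
  have h1 := h i (pullback b (c i)) (pullback.snd b (c i)) ((yon S).map (pullback.fst b (c i)) ≫ g) (by
    rw [Category.assoc, hg, ← Functor.map_comp, ← Category.assoc, pullback.condition, Category.assoc])
  rw [h1, ← Category.assoc, ← Functor.map_comp]
  refine congrArg (fun t => (yon S).map t ≫ e) ?_
  rw [← Category.assoc, pullback.condition, Category.assoc]

section Aut

variable {𝒳 : AlgSt.Cat S} [FibCat.IsFibGrpd 𝒳.p] {T : Over S} {t : 𝒳.p.Fiber T} {F : Sp S}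

theorem map_val {z : 𝒳.p.Fiber T} (σ : z ⟶ z) : 𝒳.p.map σ.1 = 𝟙 (𝒳.p.obj z.1) := by
  obtain ⟨z, rfl⟩ := z
  have := σ.2
  exact (IsHomLift.eq_of_isHomLift 𝒳.p (𝟙 (𝒳.p.obj z)) σ.1).symm

/-- The identity section of the automorphism space. -/
noncomputable def unit (R : AutRep t F) : (yon S).obj T ⟶ F :=
  (secEquiv F T).symm (R.sec (𝟙 T) t (𝟙 t.1) (𝟙 t) (IsHomLift.id t.2))

theorem secEquiv_yon_map {T T' : Over S} (g : T' ⟶ T) :
    secEquiv ((yon S).obj T) T' ((yon S).map g) = ⟨g⟩ := by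
  have h := secEquiv_map (G := (yon S).obj T) g (𝟙 _)
  rw [Category.comp_id] at h
  rw [h]
  change ULift.up (g ≫ 𝟙 T) = _
  rw [Category.comp_id]

theorem secEquiv_map_unit (R : AutRep t F) {T' : Over S} (g : T' ⟶ T) (z : 𝒳.p.Fiber T') (b : z.1 ⟶ t.1)
    (hb : 𝒳.p.IsHomLift g b) : secEquiv F T' ((yon S).map g ≫ unit R) = R.sec g z b (𝟙 z) hb := by
  have l0 : 𝒳.p.IsHomLift (𝟙 T) (𝟙 t.1) := IsHomLift.id t.2
  have l1 : 𝒳.p.IsHomLift (g ≫ 𝟙 T) (b ≫ 𝟙 t.1) := IsHomLift.comp 𝒳.p g (𝟙 T) b (𝟙 t.1)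
  rw [secEquiv_map, unit, Equiv.apply_symm_apply,
    R.sec_map g (𝟙 T) z t b (𝟙 t.1) (𝟙 t) (𝟙 z) hb l0 l1 (by
      rw [id_val, id_val, Category.comp_id, Category.id_comp])]
  rw [R.sec_eq_iff]
  exact ⟨𝟙 z, rfl, by rw [id_val, Category.id_comp, Category.comp_id]⟩

theorem unit_π (R : AutRep t F) : unit R ≫ R.π = 𝟙 _ := by
  apply (secEquiv _ _).injective
  rw [secEquiv_comp, unit, Equiv.apply_symm_apply, R.sec_π]
  have := secEquiv_yon_map (𝟙 T)
  rw [CategoryTheory.Functor.map_id] at this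
  exact this.symm

theorem triv_iff (R : AutRep t F) {T' : Over S} (g : T' ⟶ T) (z : 𝒳.p.Fiber T') (b : z.1 ⟶ t.1)
    (hb : 𝒳.p.IsHomLift g b) : Triv R.π (unit R) g ↔ IsoNat.IsClean z.1 := by
  constructor
  · intro h y φ s hs
    obtain ⟨z, rfl⟩ := z
    let β := 𝒳.p.map φ
    have hφ : 𝒳.p.IsHomLift β φ := IsHomLift.map _ _
    let y' : 𝒳.p.Fiber (𝒳.p.obj y) := ⟨y, rfl⟩
    let σ : y' ⟶ y' := ⟨s, hs ▸ IsHomLift.map _ _⟩
    have l1 : 𝒳.p.IsHomLift (β ≫ g) (φ ≫ b) := IsHomLift.comp 𝒳.p β g φ b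
    have h1 := h _ β ((secEquiv F _).symm (R.sec (β ≫ g) y' (φ ≫ b) σ l1)) (by
      apply (secEquiv _ _).injective
      rw [secEquiv_comp, Equiv.apply_symm_apply, R.sec_π]
      exact (secEquiv_yon_map _).symm)
    rw [Equiv.symm_apply_eq, secEquiv_map_unit R (β ≫ g) y' (φ ≫ b) l1] at h1
    exact congrArg (fun θ => θ.1) (R.sec_inj _ _ _ h1)
  · intro h B β f hf
    apply (secEquiv _ _).injective
    have hb' : 𝒳.p.IsHomLift β (pullHom (p := 𝒳.p) β z) := pullHom_isHomLift _ _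
    have l1 : 𝒳.p.IsHomLift (β ≫ g) (pullHom (p := 𝒳.p) β z ≫ b) := IsHomLift.comp 𝒳.p β g _ b
    rw [secEquiv_map_unit R (β ≫ g) (pull β z) _ l1]
    have h1 : R.π.hom.app (op B) (secEquiv F B f) = ⟨β ≫ g⟩ := by
      rw [← secEquiv_comp, hf, secEquiv_yon_map]
    obtain ⟨σ, hσ⟩ := R.sec_surj' (β ≫ g) (pullHom (p := 𝒳.p) β z ≫ b) l1 _ h1
    rw [← hσ]
    have h2 : σ = 𝟙 (pull β z) := by
      apply hom_ext'
      refine h _ (pullHom (p := 𝒳.p) β z) σ.1 ?_
      exact map_val σ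
    rw [h2]

/-- The locus where the pullbacks of `t` are clean. -/
theorem isClean_iff (R : AutRep t F) (hF : IsAlgSpace F) (hlft : LocP @LocallyOfFiniteType R.π)
    (huc : IsUnivClosedMor R.π) {T' : Over S} (g : T' ⟶ T) (z : 𝒳.p.Fiber T') (b : z.1 ⟶ t.1)
    (hb : 𝒳.p.IsHomLift g b) : IsoNat.IsClean z.1 ↔ Set.range g.left ⊆ trivSet R.π (unit R) := by
  rw [← triv_iff R g z b hb]
  constructor
  · rintro h _ ⟨s, rfl⟩
    exact ⟨T', g, s, rfl, h⟩
  · intro h
    have key : ∀ s : T'.left, ∃ (A : Over S) (a : A ⟶ T) (a' : A.left), Etale a.left ∧ a.left a' = g.left s ∧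
        Triv R.π (unit R) a := fun s => by
      obtain ⟨Z, τ, z, hz, hτ⟩ := h ⟨s, rfl⟩
      obtain ⟨A, a, a', h1, h2, h3⟩ := exists_etale_triv hF (unit_π R) hlft huc τ z hτ
      exact ⟨A, a, a', h1, h2.trans hz, h3⟩
    choose A a a' h1 h2 h3 using key
    have sq := fun s => IsPullback.of_hasPullback g (a s)
    have het : ∀ s, Etale (pullback.fst g (a s)).left := fun s =>
      MorphismProperty.of_isPullback (P := @Etale) ((sq s).flip.map (Over.forget S)) (h1 s)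
    refine triv_of_cover (fun s => pullback g (a s)) (fun s => pullback.fst g (a s))
      (fun s => by have := het s; infer_instance) (fun s => by have := het s; infer_instance) (fun s => ?_)
      (fun s => ?_)
    · obtain ⟨z, hz, -⟩ := Scheme.exists_preimage_of_isPullback ((sq s).map (Over.forget S)) s (a' s) (h2 s).symm
      exact ⟨s, z, hz⟩
    · rw [pullback.condition]
      exact (h3 s).comp _

theorem locus_unique (R : AutRep t F) {U : Over S} {x : 𝒳.p.Fiber U} (g : T ⟶ U) (b : t.1 ⟶ x.1)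
    (hb : 𝒳.p.IsHomLift g b) (W : Set U.left)
    (hW : ∀ (T' : Over S) (g' : T' ⟶ U) (z : 𝒳.p.Fiber T') (b' : z.1 ⟶ x.1), 𝒳.p.IsHomLift g' b' →
      (IsoNat.IsClean z.1 ↔ Set.range g'.left ⊆ W)) (hWo : IsOpen W) :
    trivSet R.π (unit R) = g.left ⁻¹' W := by
  ext s
  constructor
  · rintro ⟨Z, τ, z, rfl, h⟩
    have l1 : 𝒳.p.IsHomLift τ (pullHom (p := 𝒳.p) τ t) := pullHom_isHomLift _ _
    have h1 := (triv_iff R τ (pull τ t) _ l1).1 h
    have h2 := (hW Z (τ ≫ g) (pull τ t) (pullHom (p := 𝒳.p) τ t ≫ b) (IsHomLift.comp 𝒳.p τ g _ b)).1 h1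
    exact h2 ⟨z, rfl⟩
  · intro hs
    let O : T.left.Opens := g.left ⁻¹ᵁ ⟨W, hWo⟩
    let τ : Doubled.opn T O ⟶ T := Doubled.opnι T O
    have l1 : 𝒳.p.IsHomLift τ (pullHom (p := 𝒳.p) τ t) := pullHom_isHomLift _ _
    refine ⟨_, τ, ⟨s, hs⟩, rfl, ?_⟩
    rw [triv_iff R τ (pull τ t) _ l1]
    rw [hW _ (τ ≫ g) (pull τ t) (pullHom (p := 𝒳.p) τ t ≫ b) (IsHomLift.comp 𝒳.p τ g _ b)]
    rintro _ ⟨y, rfl⟩
    exact y.2

end Aut

section Main

variable {𝒳 : AlgSt.Cat S} [FibCat.IsFibGrpd 𝒳.p]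

theorem exists_aut {P : MorphismProperty (Sp S)} (hpr : AlgSt.RepByAlgSpWith P
    (FibCat.inertiaToBase (FibCat.toSelf 𝒳))) {T : Over S} (t : 𝒳.p.Fiber T) :
    ∃ (F : AlgSp.Space S) (R : AutRep t F.obj), P R.π := exists_autRep t hpr

theorem hasOpenLocus (hpr : AlgSt.RepByAlgSpWith AlgSp.IsProperMor (FibCat.inertiaToBase (FibCat.toSelf 𝒳))) :
    K899.OpenCrit.HasOpenLocus (fun η : 𝒳.obj => IsoNat.IsClean η) := by
  intro x
  obtain ⟨F, R, hR⟩ := exists_autRep (⟨x, rfl⟩ : 𝒳.p.Fiber (𝒳.p.obj x)) hpr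
  refine ⟨⟨_, isOpen_trivSet F.property (unit_π R) hR.2.1.1 hR.2.2⟩, fun y φ => ?_⟩
  exact isClean_iff R F.property hR.2.1.1 hR.2.2 (𝒳.p.map φ) ⟨y, rfl⟩ φ (IsHomLift.map _ _)

/-- The open locus of clean pullbacks is retrocompact. -/
theorem quasiCompact_ι (hpr : AlgSt.RepByAlgSpWith AlgSp.IsProperMor (FibCat.inertiaToBase (FibCat.toSelf 𝒳)))
    (hlfp : AlgSt.RepByAlgSpWith (AlgSp.LocP @LocallyOfFinitePresentation)
      (FibCat.inertiaToBase (FibCat.toSelf 𝒳))) {U : Over S} (x : 𝒳.p.Fiber U) (W : U.left.Opens)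
    (hW : ∀ (T' : Over S) (g' : T' ⟶ U) (z : 𝒳.p.Fiber T') (b' : z.1 ⟶ x.1), 𝒳.p.IsHomLift g' b' →
      (IsoNat.IsClean z.1 ↔ Set.range g'.left ⊆ W)) : QuasiCompact W.ι := by
  have : (AlgSp.LocP (S := S) @LocallyOfFinitePresentation).RespectsIso := K735.Top.locP_respectsIso _
  have hb := K735.Top.repByAlgSpWith_inf hpr hlfp
  rw [quasiCompact_iff_forall_isAffineOpen]
  intro V hV
  let v : Doubled.opn U V ⟶ U := Doubled.opnι U V
  have : IsAffine (Doubled.opn U V).left := hV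
  obtain ⟨F, R, hR, hRlfp⟩ := exists_autRep (pull (p := 𝒳.p) v x) hb
  have h1 := locus_unique R v (pullHom (p := 𝒳.p) v x) (pullHom_isHomLift _ _) W hW W.2
  have hqc : IsQuasiCompactSp F.obj := by
    have : CompactSpace (Doubled.opn U V).left := inferInstance
    exact hR.2.1.2 (IsAlgSpace.yon_obj _) (K596.QC.isQuasiCompactSp_yon _) (𝟙 _) (𝟙 _) R.π
      (IsPullback.of_horiz_isIso ⟨by rw [Category.id_comp, Category.comp_id]⟩)
  have h2 : Topology.IsLocallyConstructible (trivSet R.π (unit R)) :=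
    isLocallyConstructible_trivSet (unit_π R) hR.1 hRlfp hqc
  have h3 : IsCompact (trivSet R.π (unit R)) := by
    have : CompactSpace (Doubled.opn U V).left := inferInstance
    exact K582.Retro.isCompact_of_isConstructible h2.isConstructible
  have h4 := h3.image v.left.continuous
  have h5 : v.left '' (trivSet R.π (unit R)) = W.ι '' (W.ι ⁻¹ᵁ V : Set _) := by
    rw [h1]
    ext y
    constructor
    · rintro ⟨s, hs, rfl⟩
      exact ⟨⟨v.left s, hs⟩, s.2, rfl⟩
    · rintro ⟨s, hs, rfl⟩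
      exact ⟨⟨W.ι s, hs⟩, s.2, rfl⟩
  rw [h5] at h4
  exact W.ι.isOpenEmbedding.isInducing.isCompact_iff.2 h4

end Main

section Incl

open K899 K899.OpenCrit

variable {𝒳 : BasedCategory.{u, u + 1} (Over S)} {Q : 𝒳.obj → Prop}

theorem repByAlgSpWith_subIncl (hQ : HasOpenLocus Q) (P : MorphismProperty (AlgSp.Sp S))
    (hP : ∀ (U : Over S) (y : FibCat.overCat U ⥤ᵇ 𝒳) (W : U.left.Opens),
      (∀ a : Over U, Q (y.obj a) ↔ Set.range a.hom.left ⊆ W) → P ((AlgSp.yon S).map (opIncl U W))) :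
    AlgSt.RepByAlgSpWith P (AlgSt.subIncl 𝒳 Q) := by
  intro U y
  obtain ⟨W, hW⟩ := exists_locus hQ y
  have hy' : ∀ a, Q ((BasedFunctor.comp (AlgSt.overMap (opIncl U W)) y).obj a) := fun a => by
    refine (hW _).2 ?_
    change Set.range (a.hom ≫ opIncl U W).left ⊆ W
    rintro _ ⟨z, rfl⟩
    rw [Over.comp_left, Scheme.Hom.comp_apply]
    exact (a.hom.left z).2
  let K : FibCat.overCat (opOver U W) ⥤ᵇ FibCat.fp y (AlgSt.subIncl 𝒳 Q) :=
    FibCat.fpLift (AlgSt.overMap (opIncl U W))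
      (liftSub Q (BasedFunctor.comp (AlgSt.overMap (opIncl U W)) y) hy') (Iso.refl _)
  have hKfst : BasedFunctor.comp K (FibCat.fpFst _ _) = AlgSt.overMap (opIncl U W) := rfl
  have hKfaith : K.toFunctor.Faithful := ⟨fun {a b} f g h =>
    (overMap_faithful (opIncl U W)).map_injective (congrArg (fun t => t.hom.fst) h)⟩
  have hKfull : K.toFunctor.Full := ⟨fun {a b} f => by
    have := overMap_opIncl_full U W
    obtain ⟨g, hg⟩ := (AlgSt.overMap (opIncl U W)).toFunctor.map_surjective (X := a) (Y := b) f.hom.fst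
    refine ⟨g, ?_⟩
    apply ObjectProperty.hom_ext; apply CategoricalPullback.hom_ext
    · exact hg
    · apply ObjectProperty.hom_ext
      have h1 : y.map f.hom.fst ≫ 𝟙 _ = 𝟙 _ ≫ f.hom.snd.hom := f.hom.w
      rw [Category.comp_id, Category.id_comp] at h1
      change y.map ((AlgSt.overMap (opIncl U W)).map g) = f.hom.snd.hom
      rw [← h1]
      exact congrArg y.map hg⟩
  have hK : FibCat.IsEquivOver K := by
    refine EquivOver.isEquivOver_of_fullyFaithful K hKfull hKfaith (fun p => ?_)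
    have h1 : Q (y.obj p.obj.fst) := hQ.of_hom p.obj.iso.hom p.obj.snd.property
    obtain ⟨g', e, he⟩ := exists_factor p.obj.fst ((hW _).1 h1)
    let E : (K.obj g').obj ≅ p.obj :=
      CategoricalPullback.mkIso e (ObjectProperty.isoMk _ (y.mapIso e ≪≫ p.obj.iso)) (by
        change y.map e.hom ≫ p.obj.iso.hom = 𝟙 _ ≫ (y.map e.hom ≫ p.obj.iso.hom)
        exact (Category.id_comp _).symm)
    exact ⟨g', ObjectProperty.isoMk _ E, (BasedFunctor.isHomLift_iff (FibCat.fpFst _ _) _ _).1 he⟩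
  refine ⟨(AlgSp.ofScheme S).obj (opOver U W), BasedFunctor.comp (AlgSt.toOverCat (opOver U W)) K,
    EquivOver.isEquivOver_comp (toOverCat_isEquivOver _) hK, ?_⟩
  have h2 : AlgSt.spMapOfOver (BasedFunctor.comp (BasedFunctor.comp (AlgSt.toOverCat (opOver U W)) K)
      (FibCat.fpFst y (AlgSt.subIncl 𝒳 Q))) = (AlgSp.yon S).map (opIncl U W) := by
    apply ObjectProperty.hom_ext
    ext T x
    obtain ⟨x⟩ := x
    change (⟨eqToHom _ ≫ (x ≫ opIncl U W)⟩ : ULift _) = ⟨x ≫ opIncl U W⟩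
    rw [eqToHom_refl, Category.id_comp]
  rw [h2]
  exact hP U y W hW

end Incl

theorem result_qc {𝒳 : AlgSt.Cat S} [FibCat.IsFibGrpd 𝒳.p]
    (hpr : AlgSt.RepByAlgSpWith AlgSp.IsProperMor (FibCat.inertiaToBase (FibCat.toSelf 𝒳)))
    (hlfp : AlgSt.RepByAlgSpWith (AlgSp.LocP @LocallyOfFinitePresentation)
      (FibCat.inertiaToBase (FibCat.toSelf 𝒳))) :
    AlgSt.RepByAlgSpWith AlgSp.IsQuasiCompactMor (AlgSt.subIncl 𝒳 (fun η => IsoNat.IsClean η)) := by
  have hQ := hasOpenLocus hpr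
  refine repByAlgSpWith_subIncl hQ _ fun U y W hW => ?_
  apply K596.QC.isQuasiCompactMor_of_repWith
  rw [AlgSp.repWith_yon_map_iff]
  refine quasiCompact_ι hpr hlfp (Yon.objOf y) W fun T' g' z b' hb' => ?_
  refine Iff.trans ?_ (hW (Over.mk g'))
  have e1 := cmpHom (p := 𝒳.p) g' (x := Yon.objOf y) (x' := z) (x'' := Yon.objAt y g') b' (Yon.arrAt y g')
  have e2 := cmpHom (p := 𝒳.p) g' (x := Yon.objOf y) (x' := Yon.objAt y g') (x'' := z) (Yon.arrAt y g') b'
  exact ⟨fun h => hQ.of_hom e2.1 h, fun h => hQ.of_hom e1.1 h⟩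

end K864.CleanLocus
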