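import Groth.Agent.IsoNat.K864.Prod

/-!
# Scheme-theoretic dominance of `T × Spec B ⟶ T × Spec A` for additively split `A → B`
-/

set_option autoImplicit false
universe u
open CategoryTheory CategoryTheory.Limits AlgebraicGeometry TensorProduct

namespace K864.Dense

noncomputable section

variable {S : Scheme.{u}}

theorem std_of_forall {X Y : Scheme.{u}} (f : X ⟶ Y) [QuasiCompact f]
    (h : ∀ y : Y, ∃ (U V : Scheme.{u}) (f' : U ⟶ V) (iU : U ⟶ X) (iV : V ⟶ Y),
      IsOpenImmersion iV ∧ IsPullback f' iU iV f ∧ y ∈ Set.range iV ∧ IsAffine V ∧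
        IsSchemeTheoreticallyDominant f') :
    IsSchemeTheoreticallyDominant f := by
  choose U V f' iU iV h1 h2 h3 h4 h5 using h
  rw [isSchemeTheoreticallyDominant_iff]
  refine Scheme.IdealSheafData.ext_of_iSup_eq_top
    (fun y : Y => ⟨(iV y) ''ᵁ ⊤, (isAffineOpen_top (V y)).image_of_isOpenImmersion (iV y)⟩) ?_ ?_
  · rw [eq_top_iff]
    intro y _
    obtain ⟨v, hv⟩ := h3 y
    exact TopologicalSpace.Opens.mem_iSup.2 ⟨y, v, trivial, hv⟩
  · intro y
    have h6 := Scheme.ker_ideal_of_isPullback_of_isOpenImmersion f (f' y) (iU y) (iV y) (h2 y)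
      ⟨⊤, isAffineOpen_top (V y)⟩
    rw [(f' y).ker_eq_bot] at h6
    refine le_antisymm (fun x hx => ?_) ?_
    · have h7 : ((iV y).appIso ⊤).inv.hom (((iV y).appIso ⊤).hom.hom x) = x := by
        rw [← CommRingCat.comp_apply]
        simp
      have h8 : ((iV y).appIso ⊤).hom.hom x ∈
          (⊥ : (V y).IdealSheafData).ideal ⟨⊤, isAffineOpen_top (V y)⟩ := by
        rw [h6, Ideal.mem_comap]
        exact (congrArg (fun t => t ∈ f.ker.ideal ⟨(iV y) ''ᵁ ⊤,
          (isAffineOpen_top (V y)).image_of_isOpenImmersion (iV y)⟩) h7).mpr hx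
      rw [Scheme.IdealSheafData.ideal_bot, Pi.bot_apply, Ideal.mem_bot] at h8
      rw [← h7, h8, map_zero]
      exact Ideal.zero_mem _
    · rw [Scheme.IdealSheafData.ideal_bot]
      exact bot_le

theorem std_specMap {A B : CommRingCat.{u}} (φ : A ⟶ B) (h : Function.Injective φ.hom) :
    IsSchemeTheoreticallyDominant (Spec.map φ) := by
  rw [isSchemeTheoreticallyDominant_iff]
  refine Scheme.IdealSheafData.ext_of_iSup_eq_top (fun _ : Unit => ⟨⊤, isAffineOpen_top _⟩) (by simp) ?_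
  intro _
  rw [Scheme.Hom.ker_apply, Scheme.IdealSheafData.ideal_bot, Pi.bot_apply, eq_bot_iff]
  intro x hx
  rw [RingHom.mem_ker] at hx
  rw [Ideal.mem_bot]
  have hx' : (Spec.map φ).appTop.hom x = 0 := hx
  have h2 : φ.hom ((Scheme.ΓSpecIso A).hom.hom x) = 0 := by
    have h1 : (Scheme.ΓSpecIso B).hom.hom ((Spec.map φ).appTop.hom x) =
        φ.hom ((Scheme.ΓSpecIso A).hom.hom x) :=
      congrArg (fun k => k.hom x) (Scheme.ΓSpecIso_naturality φ)
    rw [← h1, hx', map_zero]
  have h3 : (Scheme.ΓSpecIso A).hom.hom x = 0 := h (h2.trans (map_zero _).symm)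
  have h4 : (Scheme.ΓSpecIso A).inv.hom ((Scheme.ΓSpecIso A).hom.hom x) = x := by
    rw [← CommRingCat.comp_apply]; simp
  rw [← h4, h3, map_zero]

open Prd

attribute [local instance] ULift.algebra'

theorem isPullback_spec {R A : Type u} [CommRing R] [CommRing A] :
    IsPullback
      (Spec.map (CommRingCat.ofHom (S := R ⊗[ULift.{u} ℤ] A) Algebra.TensorProduct.includeLeftRingHom))
      (Spec.map (CommRingCat.ofHom (S := R ⊗[ULift.{u} ℤ] A) Algebra.TensorProduct.includeRight.toRingHom))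
      (terminal.from (Spec (CommRingCat.of R))) (terminal.from (Spec (CommRingCat.of A))) := by
  have h1 := isPullback_SpecMap_of_isPushout _ _ _ _ (CommRingCat.isPushout_tensorProduct (ULift.{u} ℤ) R A)
  have h2 : IsIso (terminal.from (Spec (CommRingCat.of (ULift.{u} ℤ)))) :=
    isIso_of_isTerminal specULiftZIsTerminal terminalIsTerminal _
  exact h1.of_iso (Iso.refl _) (Iso.refl _) (Iso.refl _)
    (asIso (terminal.from (Spec (CommRingCat.of (ULift.{u} ℤ))))) (by simp) (by simp)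
    (Subsingleton.elim _ _) (Subsingleton.elim _ _)

theorem tensor_injective {R A B : Type u} [CommRing R] [CommRing A] [CommRing B]
    (φ : A →ₐ[ULift.{u} ℤ] B) (ρ : B →+ A) (hρ : ∀ a, ρ (φ a) = a) :
    Function.Injective (Algebra.TensorProduct.map (AlgHom.id (ULift.{u} ℤ) R) φ) := by
  let ρ' : B →ₗ[ULift.{u} ℤ] A :=
    { toFun := ρ
      map_add' := ρ.map_add
      map_smul' := fun n b => by
        have h1 : ∀ (C : Type u) [CommRing C] (c : C), n • c = n.down • c := fun C _ c => rfl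
        rw [h1, map_zsmul, RingHom.id_apply, h1] }
  have h : Function.LeftInverse (LinearMap.lTensor R ρ')
      (Algebra.TensorProduct.map (AlgHom.id (ULift.{u} ℤ) R) φ) := by
    intro x
    induction x using TensorProduct.induction_on with
    | zero => simp
    | tmul a b =>
      rw [Algebra.TensorProduct.map_tmul, LinearMap.lTensor_tmul]
      exact congrArg (fun t => a ⊗ₜ[ULift.{u} ℤ] t) (hρ b)
    | add x y hx hy => rw [map_add, map_add, hx, hy]
  exact h.injective

/-- A ring homomorphism is an algebra homomorphism over `ℤ` (lifted). -/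
def zHom {A B : Type u} [CommRing A] [CommRing B] (φ : A →+* B) : A →ₐ[ULift.{u} ℤ] B :=
  { φ with
    commutes' := fun n => by
      change φ ((algebraMap ℤ A) n.down) = (algebraMap ℤ B) n.down
      simp }

theorem std_affine {R A B : Type u} [CommRing R] [CommRing A] [CommRing B]
    (φ : A →+* B) (ρ : B →+ A) (hρ : ∀ a, ρ (φ a) = a)
    {P Q : Scheme.{u}} {a₁ : P ⟶ Spec (CommRingCat.of R)} {a₂ : P ⟶ Spec (CommRingCat.of A)}
    {c₁ : Q ⟶ Spec (CommRingCat.of R)} {c₂ : Q ⟶ Spec (CommRingCat.of B)}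
    (hP : IsPullback a₁ a₂ (terminal.from _) (terminal.from _))
    (hQ : IsPullback c₁ c₂ (terminal.from _) (terminal.from _)) (f : Q ⟶ P)
    (h₁ : f ≫ a₁ = c₁) (h₂ : f ≫ a₂ = c₂ ≫ Spec.map (CommRingCat.ofHom φ)) :
    IsSchemeTheoreticallyDominant f := by
  let sA := isPullback_spec (R := R) (A := A)
  let sB := isPullback_spec (R := R) (A := B)
  let e := hP.isoIsPullback _ _ sA
  let e' := hQ.isoIsPullback _ _ sB
  let ψ : R ⊗[ULift.{u} ℤ] A →+* R ⊗[ULift.{u} ℤ] B :=
    (Algebra.TensorProduct.map (AlgHom.id (ULift.{u} ℤ) R) (zHom φ)).toRingHom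
  have hψ : Function.Injective ψ := tensor_injective (zHom φ) ρ hρ
  have e1 : e.inv ≫ a₁ = _ := hP.isoIsPullback_inv_fst _ _ sA
  have e2 : e.inv ≫ a₂ = _ := hP.isoIsPullback_inv_snd _ _ sA
  have e1' : e'.inv ≫ c₁ = _ := hQ.isoIsPullback_inv_fst _ _ sB
  have e2' : e'.inv ≫ c₂ = _ := hQ.isoIsPullback_inv_snd _ _ sB
  have key : e'.inv ≫ f = Spec.map (CommRingCat.ofHom ψ) ≫ e.inv := by
    apply hP.hom_ext
    · rw [Category.assoc, h₁, e1', Category.assoc, e1, ← Spec.map_comp]
      congr 1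
      ext r
      change r ⊗ₜ[ULift.{u} ℤ] (1 : B) = _
      change _ = (Algebra.TensorProduct.map (AlgHom.id (ULift.{u} ℤ) R) (zHom φ)) (r ⊗ₜ 1)
      rw [Algebra.TensorProduct.map_tmul, map_one]
      rfl
    · rw [Category.assoc, h₂, reassoc_of% e2', Category.assoc, e2, ← Spec.map_comp, ← Spec.map_comp]
      congr 1
  have : IsSchemeTheoreticallyDominant (Spec.map (CommRingCat.ofHom ψ)) := std_specMap _ hψ
  have h3 : f = e'.hom ≫ Spec.map (CommRingCat.ofHom ψ) ≫ e.inv := by
    rw [← key, Iso.hom_inv_id_assoc]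
  rw [h3]
  infer_instance

theorem isPullback_mapL_mapR {T T' : Over S} (h : T' ⟶ T) {Z Z' : Scheme.{u}} (j : Z ⟶ Z') :
    IsPullback (mapR T' j).left (mapL h Z).left (mapL h Z').left (mapR T j).left := by
  refine (IsPullback.of_bot (h₃₁ := h.left) (v₂₁ := (p₁ T' Z').left) (v₂₂ := (p₁ T Z').left)
    ?_ ?_ (isPullback_mapL h Z')).flip
  · rw [← Over.comp_left, ← Over.comp_left, mapR_p₁, mapR_p₁]
    exact isPullback_mapL h Z
  · rw [← Over.comp_left, ← Over.comp_left, mapL_mapR]

theorem std_mapR (T : Over S) {A B : Type u} [CommRing A] [CommRing B] (φ : A →+* B) (ρ : B →+ A)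
    (hρ : ∀ a, ρ (φ a) = a) :
    IsSchemeTheoreticallyDominant (mapR T (Spec.map (CommRingCat.ofHom φ))).left := by
  have : QuasiCompact (mapR T (Spec.map (CommRingCat.ofHom φ))).left :=
    mapR_prop @QuasiCompact T inferInstance
  refine std_of_forall _ (fun y => ?_)
  let 𝒰 := T.left.affineOpenCover
  let t := (p₁ T (Spec (CommRingCat.of A))).left y
  obtain ⟨w, hw⟩ := 𝒰.covers t
  let T' : Over S := Over.mk (𝒰.f (𝒰.idx t) ≫ T.hom)
  let h : T' ⟶ T := Over.homMk (𝒰.f (𝒰.idx t))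
  have hh : IsOpenImmersion h.left := inferInstanceAs (IsOpenImmersion (𝒰.f (𝒰.idx t)))
  have haff : IsAffine T'.left := inferInstanceAs (IsAffine (Spec _))
  refine ⟨_, _, (mapR T' (Spec.map (CommRingCat.ofHom φ))).left, (mapL h _).left, (mapL h _).left,
    mapL_prop @IsOpenImmersion hh _, isPullback_mapL_mapR h _, ?_, ?_, ?_⟩
  · obtain ⟨z, -, hz⟩ := Scheme.exists_preimage_of_isPullback
      (isPullback_mapL h (Spec (CommRingCat.of A))).flip w y hw
    exact ⟨z, hz⟩
  · exact inferInstanceAs (IsAffine (pullback (terminal.from T'.left)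
      (terminal.from (Spec (CommRingCat.of A)))))
  · exact std_affine (R := 𝒰.X (𝒰.idx t)) φ ρ hρ (isPullback T' _) (isPullback T' _) _
      (congrArg (fun k => k.left) (mapR_p₁ T' (Spec.map (CommRingCat.ofHom φ)))) (mapR_p₂ _ _)

end

end K864.Dense
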