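import Groth.Agent.IsoNat.K863.Pair
import Groth.Agent.IsoNat.K864.Doubled
import Mathlib.AlgebraicGeometry.Morphisms.Basic

/-!
# Gluing over disjoint opens, and disjoint unions of two schemes over `S`
-/

set_option autoImplicit false
set_option linter.unusedSectionVars false
set_option backward.isDefEq.respectTransparency false
set_option backward.isDefEq.respectTransparency.types false

universe v₂ u₂ u

open CategoryTheory CategoryTheory.Limits AlgebraicGeometry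

namespace K864.Disj

open K863.Arr K863.Glue K863.Pair

variable {S : Scheme.{u}}

section Stack

variable {𝒳 : BasedCategory.{v₂, u₂} (Over S)}

/-- Arrows out of an object over the empty scheme are determined by their base arrow. -/
theorem hom_unique_of_isEmpty (hst : Stk.IsStack (AlgSp.J S) 𝒳) {U W : Over S} [hU : IsEmpty U.left]
    {z w : 𝒳.obj} {g : U ⟶ W} {γ γ' : z ⟶ w} (hγ : 𝒳.p.IsHomLift g γ)
    (hγ' : 𝒳.p.IsHomLift g γ') : γ = γ' :=
  hom_unique_fam (V := fun _ : PEmpty.{1} => U) hst.1 (fun _ => 𝟙 U)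
    (prestackFor hst _ (ofArrows_mem _ (fun i => i.elim) (fun x => hU.elim x)))
    (dom hγ) (fun i => i.elim) (fun i => i.elim) (fun i => i.elim) hγ hγ' (fun i => i.elim)

/-- Arrows glue over two disjoint opens. -/
theorem exists_hom_disj (hst : Stk.IsStack (AlgSp.J S) 𝒳) {U U₁ U₂ : Over S} {j₁ : U₁ ⟶ U}
    {j₂ : U₂ ⟶ U} (h₁ : IsOpenImmersion j₁.left) (h₂ : IsOpenImmersion j₂.left)
    (hc : ∀ x : U.left, x ∈ Set.range j₁.left ∨ x ∈ Set.range j₂.left)
    (hd : ∀ (a : U₁.left) (b : U₂.left), j₁.left a ≠ j₂.left b)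
    {x₁ x₂ z w : 𝒳.obj} {ζ₁ : x₁ ⟶ z} {ζ₂ : x₂ ⟶ z} (hζ₁ : 𝒳.p.IsHomLift j₁ ζ₁)
    (hζ₂ : 𝒳.p.IsHomLift j₂ ζ₂) {W : Over S} {g : U ⟶ W}
    {γ₁ : x₁ ⟶ w} {γ₂ : x₂ ⟶ w} (hγ₁ : 𝒳.p.IsHomLift (j₁ ≫ g) γ₁)
    (hγ₂ : 𝒳.p.IsHomLift (j₂ ≫ g) γ₂) :
    ∃ γ : z ⟶ w, 𝒳.p.IsHomLift g γ ∧ ζ₁ ≫ γ = γ₁ ∧ ζ₂ ≫ γ = γ₂ := by
  have hp := hst.1
  have pb := IsPullback.of_hasPullback j₁ j₂
  have hE : IsEmpty (pullback j₁ j₂).left := ⟨fun x => by
    apply hd ((pullback.fst j₁ j₂).left x) ((pullback.snd j₁ j₂).left x)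
    rw [← Scheme.Hom.comp_apply, ← Scheme.Hom.comp_apply]
    exact congrArg (fun k : pullback j₁ j₂ ⟶ U => k.left x) pb.w⟩
  obtain ⟨x₁₂, α₁, hα₁⟩ := exists_lift hp (dom hζ₁) (pullback.fst j₁ j₂)
  obtain ⟨α₂, hα₂, hα₂'⟩ := exists_fac hp hζ₂ (lift_comp hα₁ hζ₁) pb.w.symm
  have hop : IsOpenPair j₁ j₂ (pullback.fst j₁ j₂) (pullback.snd j₁ j₂) := ⟨h₁, h₂, hc, pb⟩
  refine exists_hom hst hop hα₁ hα₂ hζ₁ hζ₂ hα₂'.symm hγ₁ hγ₂ ?_
  refine hom_unique_of_isEmpty hst (lift_comp hα₁ hγ₁) (lift_comp' hα₂ hγ₂ ?_)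
  rw [← Category.assoc, ← Category.assoc, pb.w]

end Stack

section Cover

open Doubled

variable {V X Y Z : Over S} (f : V ⟶ X) (g : V ⟶ Y)
  [IsOpenImmersion f.left] [IsOpenImmersion g.left]

/-- The open cover of a glued scheme by its two pieces. -/
noncomputable def cov : (glue f g).left.OpenCover :=
  Scheme.Cover.mkOfCovers (ULift.{u} Bool) (fun b => (bif b.down then X else Y : Over S).left)
    (fun b => match b with | ⟨true⟩ => (inl f g).left | ⟨false⟩ => (inr f g).left)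
    (fun x => by
      rcases exists_or f g x with (⟨a, ha⟩ | ⟨b, hb⟩)
      · exact ⟨⟨true⟩, a, ha⟩
      · exact ⟨⟨false⟩, b, hb⟩)
    (fun b => match b with
      | ⟨true⟩ => isOpenImmersion_inl_left f g
      | ⟨false⟩ => isOpenImmersion_inr_left f g)

variable {f g}

/-- A property local on the source holds for a morphism from a glued scheme if it holds on the two pieces. -/
theorem prop_of_pieces (P : MorphismProperty Scheme.{u}) [IsZariskiLocalAtSource P]
    {k : glue f g ⟶ Z} (h₁ : P (inl f g ≫ k).left) (h₂ : P (inr f g ≫ k).left) : P k.left := by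
  rw [IsZariskiLocalAtSource.iff_of_openCover (P := P) (cov f g)]
  rintro ⟨b⟩
  cases b
  · exact h₂
  · exact h₁

theorem surjective_of_pieces {k : glue f g ⟶ Z}
    (h : ∀ z : Z.left, (∃ a : X.left, (inl f g ≫ k).left a = z) ∨
      ∃ b : Y.left, (inr f g ≫ k).left b = z) : Surjective k.left := by
  refine ⟨fun z => ?_⟩
  rcases h z with (⟨a, ha⟩ | ⟨b, hb⟩)
  · exact ⟨(inl f g).left a, by rw [← ha, Over.comp_left, Scheme.Hom.comp_apply]⟩
  · exact ⟨(inr f g).left b, by rw [← hb, Over.comp_left, Scheme.Hom.comp_apply]⟩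

end Cover

section Sum

open Doubled

/-- The disjoint union of two copies of `X`. -/
noncomputable abbrev two (X : Over S) : Over S := dbl X ⊥

/-- The first copy. -/
noncomputable abbrev inl₂ (X : Over S) : X ⟶ two X := inl (opnι X ⊥) (opnι X ⊥)

/-- The second copy. -/
noncomputable abbrev inr₂ (X : Over S) : X ⟶ two X := inr (opnι X ⊥) (opnι X ⊥)

theorem isEmpty_bot (X : Over S) : IsEmpty (opn X ⊥).left :=
  ⟨fun x => x.2⟩

theorem hom_eq_of_isEmpty {X Y : Over S} [hX : IsEmpty X.left] (a b : X ⟶ Y) : a = b := by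
  apply Over.OverMorphism.ext
  have := isInitialOfIsEmpty (X := X.left)
  exact this.hom_ext _ _

theorem inl₂_ne_inr₂ (X : Over S) (a b : X.left) : (inl₂ X).left a ≠ (inr₂ X).left b := by
  intro h
  obtain ⟨v, -, -⟩ := Scheme.exists_preimage_of_isPullback
    (isPullback_left (opnι X ⊥) (opnι X ⊥)) a b h
  exact (isEmpty_bot X).elim v

/-- The morphism from the disjoint union. -/
noncomputable def desc₂ {X Z : Over S} (a b : X ⟶ Z) : two X ⟶ Z :=
  desc a b (haveI := isEmpty_bot X; hom_eq_of_isEmpty _ _)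

theorem inl_desc₂ {X Z : Over S} (a b : X ⟶ Z) : inl₂ X ≫ desc₂ a b = a := inl_desc _ _ _

theorem inr_desc₂ {X Z : Over S} (a b : X ⟶ Z) : inr₂ X ≫ desc₂ a b = b := inr_desc _ _ _

end Sum

end K864.Disj
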