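import Groth.Agent.IsoNat.K862.Span
import Groth.Agent.IsoNat.K864.CleanCorr
import Groth.Agent.AlgSp.K597.LocP
import Groth.Agent.AlgSp.K597.EtLoc
import Groth.Agent.AlgSp.K613.Chart

/-!
# Spans between objects of a stack: the second projection, base change, rigidity
-/

set_option autoImplicit false
set_option linter.unusedSectionVars false
set_option backward.isDefEq.respectTransparency false
set_option backward.isDefEq.respectTransparency.types false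

universe u

open CategoryTheory CategoryTheory.Limits AlgebraicGeometry Opposite AlgSp
open K862 K862.Fib K862.Yon K864.SepUniq K864.CleanCorr

namespace K864.SpanKit

variable {S : Scheme.{u}} {𝒳 : AlgSt.Cat S} [FibCat.IsFibGrpd 𝒳.p] {U T : Over S}
  {x : 𝒳.p.Fiber U} {t : 𝒳.p.Fiber T} {F : Sp S}

section Basic

variable (R : SpanRep x t F)

theorem sec_inv {T' : Over S} {g g' : T' ⟶ T} {u u' : T' ⟶ U} {z z' : 𝒳.p.Fiber T'}
    {a : z.1 ⟶ x.1} {a' : z'.1 ⟶ x.1} {b : z.1 ⟶ t.1} {b' : z'.1 ⟶ t.1}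
    (ha : 𝒳.p.IsHomLift u a) (ha' : 𝒳.p.IsHomLift u' a') (hb : 𝒳.p.IsHomLift g b)
    (hb' : 𝒳.p.IsHomLift g' b') (h : R.sec g u z a b ha hb = R.sec g' u' z' a' b' ha' hb') : g = g' ∧ u = u' := by
  obtain ⟨θ, h1, h2⟩ := (R.sec_eq_iff _ _ _ _ _ _ _ _ _ _ _ _ _ _).1 h
  constructor
  · have l1 : 𝒳.p.IsHomLift g' (θ.1 ≫ b') := IsHomLift.comp_lift_id_left 𝒳.p g' b' θ.1
    rw [h2] at l1
    exact eq_of_lift 𝒳.p b hb l1
  · have l1 : 𝒳.p.IsHomLift u' (θ.1 ≫ a') := IsHomLift.comp_lift_id_left 𝒳.p u' a' θ.1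
    rw [h1] at l1
    exact eq_of_lift 𝒳.p a ha l1

/-- The second projection. -/
theorem exists_lft : ∃ l : F ⟶ (yon S).obj U, ∀ {T' : Over S} (g : T' ⟶ T) (u : T' ⟶ U) (z : 𝒳.p.Fiber T')
    (a : z.1 ⟶ x.1) (b : z.1 ⟶ t.1) (ha : 𝒳.p.IsHomLift u a) (hb : 𝒳.p.IsHomLift g b),
    l.hom.app (op T') (R.sec g u z a b ha hb) = ⟨u⟩ := by
  have key : ∀ (T' : (Over S)ᵒᵖ) (s : F.obj.obj T'), ∃ w : ((yon S).obj U).obj.obj T',
      ∀ (g : T'.unop ⟶ T) (u : T'.unop ⟶ U) (z : 𝒳.p.Fiber T'.unop)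
        (a : z.1 ⟶ x.1) (b : z.1 ⟶ t.1) (ha : 𝒳.p.IsHomLift u a) (hb : 𝒳.p.IsHomLift g b),
        R.sec g u z a b ha hb = s → w = ⟨u⟩ := by
    intro T' s
    obtain ⟨g, u, z, a, b, ha, hb, rfl⟩ := R.sec_surj (T' := T'.unop) s
    refine ⟨⟨u⟩, fun g' u' z' a' b' ha' hb' h => ?_⟩
    rw [(sec_inv R ha' ha hb' hb h).2]
  choose w hw using key
  refine ⟨⟨{ app := fun T' => ↾(w T'), naturality := ?_ }⟩, ?_⟩
  · intro T' T'' h
    ext s
    obtain ⟨g, u, z, a, b, ha, hb, rfl⟩ := R.sec_surj (T' := T'.unop) s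
    have e1 := hw T' _ g u z a b ha hb rfl
    have hc : 𝒳.p.IsHomLift h.unop (pullHom (p := 𝒳.p) h.unop z) := pullHom_isHomLift _ _
    have e2 := R.sec_map h.unop g u (pull h.unop z) z (pullHom h.unop z) a b hc ha hb
      (IsHomLift.comp 𝒳.p h.unop u _ a) (IsHomLift.comp 𝒳.p h.unop g _ b)
    have e3 := hw T'' _ _ _ _ _ _ _ _ e2.symm
    change w T'' (F.obj.map h (R.sec g u z a b ha hb)) = ((yon S).obj U).obj.map h (w T' (R.sec g u z a b ha hb))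
    rw [e1]
    exact e3
  · intro T' g u z a b ha hb
    exact hw (op T') _ g u z a b ha hb rfl

/-- The second projection of `U ×_𝒳 T`. -/
noncomputable def lft : F ⟶ (yon S).obj U := (exists_lft R).choose

theorem lft_sec {T' : Over S} (g : T' ⟶ T) (u : T' ⟶ U) (z : 𝒳.p.Fiber T')
    (a : z.1 ⟶ x.1) (b : z.1 ⟶ t.1) (ha : 𝒳.p.IsHomLift u a) (hb : 𝒳.p.IsHomLift g b) :
    (lft R).hom.app (op T') (R.sec g u z a b ha hb) = ⟨u⟩ := (exists_lft R).choose_spec g u z a b ha hb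

/-- The symmetric span space. -/
noncomputable def swap : SpanRep t x F where
  π := lft R
  sec g u z a b ha hb := R.sec u g z b a hb ha
  sec_π g u z a b ha hb := lft_sec R u g z b a hb ha
  sec_surj s := by
    obtain ⟨g, u, z, a, b, ha, hb, h⟩ := R.sec_surj s
    exact ⟨u, g, z, b, a, hb, ha, h⟩
  sec_eq_iff g g' u u' z z' a a' b b' ha ha' hb hb' := by
    rw [R.sec_eq_iff]
    exact exists_congr fun θ => and_comm
  sec_map h g u z'' z c a b hc ha hb hca hcb := R.sec_map h u g z'' z c b a hc hb ha hcb hca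

theorem swap_π : (swap R).π = lft R := rfl

/-- The map `h_{T'} ⟶ F` given by a span. -/
noncomputable def mk {T' : Over S} (g : T' ⟶ T) (u : T' ⟶ U) (z : 𝒳.p.Fiber T')
    (a : z.1 ⟶ x.1) (b : z.1 ⟶ t.1) (ha : 𝒳.p.IsHomLift u a) (hb : 𝒳.p.IsHomLift g b) : (yon S).obj T' ⟶ F :=
  (secEquiv F T').symm (R.sec g u z a b ha hb)

theorem exists_mk {T' : Over S} (s : (yon S).obj T' ⟶ F) : ∃ (g : T' ⟶ T) (u : T' ⟶ U)
    (z : 𝒳.p.Fiber T') (a : z.1 ⟶ x.1) (b : z.1 ⟶ t.1) (ha : 𝒳.p.IsHomLift u a)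
    (hb : 𝒳.p.IsHomLift g b), s = mk R g u z a b ha hb := by
  obtain ⟨g, u, z, a, b, ha, hb, h⟩ := R.sec_surj (secEquiv F T' s)
  exact ⟨g, u, z, a, b, ha, hb, by rw [mk, h, Equiv.symm_apply_apply]⟩

theorem secEquiv_yon {T T' : Over S} (g : T' ⟶ T) : secEquiv ((yon S).obj T) T' ((yon S).map g) = ⟨g⟩ := by
  have h := secEquiv_map (G := (yon S).obj T) g (𝟙 _)
  rw [Category.comp_id] at h
  rw [h]
  change ULift.up (g ≫ 𝟙 T) = _
  rw [Category.comp_id]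

theorem mk_π {T' : Over S} (g : T' ⟶ T) (u : T' ⟶ U) (z : 𝒳.p.Fiber T')
    (a : z.1 ⟶ x.1) (b : z.1 ⟶ t.1) (ha : 𝒳.p.IsHomLift u a) (hb : 𝒳.p.IsHomLift g b) :
    mk R g u z a b ha hb ≫ R.π = (yon S).map g := by
  apply (secEquiv _ _).injective
  rw [secEquiv_comp, mk, Equiv.apply_symm_apply, R.sec_π, secEquiv_yon]

theorem mk_lft {T' : Over S} (g : T' ⟶ T) (u : T' ⟶ U) (z : 𝒳.p.Fiber T')
    (a : z.1 ⟶ x.1) (b : z.1 ⟶ t.1) (ha : 𝒳.p.IsHomLift u a) (hb : 𝒳.p.IsHomLift g b) :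
    mk R g u z a b ha hb ≫ lft R = (yon S).map u := by
  apply (secEquiv _ _).injective
  rw [secEquiv_comp, mk, Equiv.apply_symm_apply, lft_sec, secEquiv_yon]

theorem map_mk {T' T'' : Over S} (h : T'' ⟶ T') (g : T' ⟶ T) (u : T' ⟶ U) (z'' : 𝒳.p.Fiber T'')
    (z : 𝒳.p.Fiber T') (c : z''.1 ⟶ z.1) (a : z.1 ⟶ x.1) (b : z.1 ⟶ t.1)
    (hc : 𝒳.p.IsHomLift h c) (ha : 𝒳.p.IsHomLift u a) (hb : 𝒳.p.IsHomLift g b)
    (hca : 𝒳.p.IsHomLift (h ≫ u) (c ≫ a)) (hcb : 𝒳.p.IsHomLift (h ≫ g) (c ≫ b)) :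
    (yon S).map h ≫ mk R g u z a b ha hb = mk R (h ≫ g) (h ≫ u) z'' (c ≫ a) (c ≫ b) hca hcb := by
  apply (secEquiv _ _).injective
  rw [secEquiv_map, mk, mk, Equiv.apply_symm_apply, Equiv.apply_symm_apply,
    R.sec_map h g u z'' z c a b hc ha hb hca hcb]

theorem mk_eq_iff {T' : Over S} (g g' : T' ⟶ T) (u u' : T' ⟶ U) (z z' : 𝒳.p.Fiber T')
    (a : z.1 ⟶ x.1) (a' : z'.1 ⟶ x.1) (b : z.1 ⟶ t.1) (b' : z'.1 ⟶ t.1)
    (ha : 𝒳.p.IsHomLift u a) (ha' : 𝒳.p.IsHomLift u' a') (hb : 𝒳.p.IsHomLift g b)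
    (hb' : 𝒳.p.IsHomLift g' b') :
    mk R g u z a b ha hb = mk R g' u' z' a' b' ha' hb' ↔
      ∃ θ : z ⟶ z', θ.1 ≫ a' = a ∧ θ.1 ≫ b' = b := by
  rw [mk, mk, (secEquiv F T').symm.injective.eq_iff, R.sec_eq_iff]

/-- Spans from a rigid object are determined by their base arrows. -/
theorem mk_unique_of_rigid {T' : Over S} {g : T' ⟶ T} {u : T' ⟶ U} {z : 𝒳.p.Fiber T'}
    {a : z.1 ⟶ x.1} {b : z.1 ⟶ t.1} (ha : 𝒳.p.IsHomLift u a) (hb : 𝒳.p.IsHomLift g b) (hz : Rigid z.1)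
    (s : (yon S).obj T' ⟶ F) (h1 : s ≫ R.π = (yon S).map g) (h2 : s ≫ lft R = (yon S).map u) :
    mk R g u z a b ha hb = s := by
  obtain ⟨g', u', z', a', b', ha', hb', rfl⟩ := exists_mk R s
  rw [mk_π] at h1
  rw [mk_lft] at h2
  obtain rfl := (yon S).map_injective h1
  obtain rfl := (yon S).map_injective h2
  rw [mk_eq_iff]
  have e := cmp_comp (p := 𝒳.p) u' (x := x) (x' := z) (x'' := z') a a'
  refine ⟨cmpHom (p := 𝒳.p) u' (x := x) (x' := z) (x'' := z') a a', e, ?_⟩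
  exact hz g' _ _ (IsHomLift.comp_lift_id_left 𝒳.p g' b' _) hb

end Basic

section BaseChange

variable {Z : Over S} {x' : 𝒳.p.Fiber Z} {h : Z ⟶ U} {w : x'.1 ⟶ x.1}

/-- Base change of the span space along an arrow `x' ⟶ x`. -/
noncomputable def bcRep (R : SpanRep x t F) (hw : 𝒳.p.IsHomLift h w) {F' : Sp S} {p : F' ⟶ F}
    {q : F' ⟶ (yon S).obj Z} (sq : IsPullback p q (lft R) ((yon S).map h)) : SpanRep x' t F' where
  π := p ≫ R.π
  sec {T'} g u z a b ha hb := secEquiv F' T' (sq.lift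
    (mk R g (u ≫ h) z (a ≫ w) b (IsHomLift.comp 𝒳.p u h a w) hb) ((yon S).map u) (by
      rw [mk_lft, Functor.map_comp]))
  sec_π g u z a b ha hb := by
    rw [← secEquiv_comp, ← Category.assoc, sq.lift_fst, mk_π, secEquiv_yon]
  sec_surj {T'} s := by
    obtain ⟨g, u₀, z, a₀, b, ha₀, hb, h1⟩ := exists_mk R ((secEquiv F' T').symm s ≫ p)
    obtain ⟨u, hu⟩ := (yon S).map_surjective ((secEquiv F' T').symm s ≫ q)
    have h2 : u₀ = u ≫ h := by
      apply (yon S).map_injective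
      rw [Functor.map_comp, hu, ← mk_lft R g u₀ z a₀ b ha₀ hb, ← h1, Category.assoc, Category.assoc, sq.w]
    subst h2
    let a : z.1 ⟶ x'.1 := fill 𝒳.p h u rfl w a₀
    have ha : 𝒳.p.IsHomLift u a := fill_isHomLift (p := 𝒳.p) h u rfl w a₀
    have haw : a ≫ w = a₀ := fill_comp (p := 𝒳.p) h u rfl w a₀
    refine ⟨g, u, z, a, b, ha, hb, ?_⟩
    rw [← Equiv.eq_symm_apply]
    apply sq.hom_ext
    · rw [sq.lift_fst, h1, mk_eq_iff]
      exact ⟨𝟙 z, by rw [id_val, Category.id_comp, haw], by rw [id_val, Category.id_comp]⟩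
    · rw [sq.lift_snd, hu]
  sec_eq_iff {T'} g g' u u' z z' a a' b b' ha ha' hb hb' := by
    rw [(secEquiv F' T').injective.eq_iff]
    constructor
    · intro e
      have e1 := congrArg (fun s => s ≫ p) e
      have e2 := congrArg (fun s => s ≫ q) e
      simp only [sq.lift_fst, sq.lift_snd] at e1 e2
      obtain rfl := (yon S).map_injective e2
      obtain ⟨θ, h1, h2⟩ := (mk_eq_iff R _ _ _ _ _ _ _ _ _ _ _ _ _ _).1 e1
      refine ⟨θ, ?_, h2⟩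
      have l1 : 𝒳.p.IsHomLift u (θ.1 ≫ a') := IsHomLift.comp_lift_id_left 𝒳.p u a' θ.1
      refine cancel (p := 𝒳.p) h u w ?_
      rw [Category.assoc, h1]
    · rintro ⟨θ, h1, h2⟩
      have l1 : 𝒳.p.IsHomLift u' (θ.1 ≫ a') := IsHomLift.comp_lift_id_left 𝒳.p u' a' θ.1
      rw [h1] at l1
      obtain rfl := eq_of_lift 𝒳.p a ha l1
      apply sq.hom_ext
      · rw [sq.lift_fst, sq.lift_fst, mk_eq_iff]
        exact ⟨θ, by rw [← Category.assoc, h1], h2⟩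
      · rw [sq.lift_snd, sq.lift_snd]
  sec_map {T' T''} k g u z'' z c a b hc ha hb hca hcb := by
    rw [← secEquiv_map]
    refine congrArg _ ?_
    apply sq.hom_ext
    · have l2 : 𝒳.p.IsHomLift (k ≫ u ≫ h) (c ≫ a ≫ w) := IsHomLift.comp 𝒳.p k (u ≫ h) c (a ≫ w)
      rw [Category.assoc, sq.lift_fst, sq.lift_fst, map_mk R k g (u ≫ h) z'' z c (a ≫ w) b hc _ hb l2 hcb]
      rw [mk_eq_iff]
      exact ⟨𝟙 _, by rw [id_val, Category.id_comp, Category.assoc], by rw [id_val, Category.id_comp]⟩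
    · rw [Category.assoc, sq.lift_snd, sq.lift_snd, Functor.map_comp]

end BaseChange

end K864.SpanKit
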