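import Groth.Agent.Models.DVRGeneric
import Groth.Agent.IsoNat.K864.Doubled
import Groth.Agent.IsoNat.K863.Pair
import Groth.Agent.IsoNat.K863.Corr
import Groth.Agent.IsoNat.K862.Isom
import Groth.Agent.AlgSp.K604.DvrClosed
import Groth.Agent.IsoNat.K864.SpanKit
import Groth.Agent.S10284
import Groth.Agent.S10289

/-!
# Extension of automorphisms over discrete valuation rings and the presheaf of isomorphism classes
-/

set_option autoImplicit false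
set_option backward.isDefEq.respectTransparency false
set_option backward.isDefEq.respectTransparency.types false

universe u

open CategoryTheory CategoryTheory.Limits AlgebraicGeometry Opposite AlgSp

namespace K864.DvrExt

open K863 K863.Arr K863.Corr K864.Doubled K604.DvrClosed

variable {S : Scheme.{u}} {𝒳 𝒴 : AlgSt.Cat S}

/-- Automorphisms over the generic point of the spectrum of a discrete valuation ring extend. -/
def Ext (𝒳 : AlgSt.Cat S) : Prop :=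
  ∀ (A K : Type u) [CommRing A] [IsDomain A] [IsDiscreteValuationRing A] [Field K] [Algebra A K]
    [IsFractionRing A K] (str : Spec (CommRingCat.of A) ⟶ S) (x w : 𝒳.obj) (_ : 𝒳.p.obj x = Over.mk str)
    (c : w ⟶ x) (_ : 𝒳.p.IsHomLift (jj A K str) c) (τ : w ⟶ w)
    (_ : 𝒳.p.IsHomLift (𝟙 (Over.mk (Spec.map (CommRingCat.ofHom (algebraMap A K)) ≫ str))) τ),
    ∃ σ : x ⟶ x, 𝒳.p.IsHomLift (𝟙 (Over.mk str)) σ ∧ τ ≫ c = c ≫ σ

theorem isOpenPair_glue {T V : Over S} (j : V ⟶ T) [IsOpenImmersion j.left] :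
    Pair.IsOpenPair (inl j j) (inr j j) j j where
  open₁ := inferInstance
  open₂ := inferInstance
  cover x := by
    rcases exists_or j j x with ⟨a, ha⟩ | ⟨a, ha⟩
    · exact Or.inl ⟨a, ha⟩
    · exact Or.inr ⟨a, ha⟩
  pb := isPullback j j

/-- One step: extension of automorphisms along an open immersion transfers. -/
theorem ext_right {φ : IsoNat.FIso 𝒳 𝒴} (h𝒳 : Stk.IsStack (AlgSp.J S) 𝒳) (h𝒴 : Stk.IsStack (AlgSp.J S) 𝒴)
    {T V : Over S} (j : V ⟶ T) [IsOpenImmersion j.left]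
    (H : ∀ (x w : 𝒳.obj) (_ : 𝒳.p.obj x = T) (c : w ⟶ x) (_ : 𝒳.p.IsHomLift j c) (τ : w ⟶ w)
      (_ : 𝒳.p.IsHomLift (𝟙 V) τ), ∃ σ : x ⟶ x, 𝒳.p.IsHomLift (𝟙 T) σ ∧ τ ≫ c = c ≫ σ)
    (y w : 𝒴.obj) (hy : 𝒴.p.obj y = T) (c : w ⟶ y) (hc : 𝒴.p.IsHomLift j c) (τ : w ⟶ w)
    (hτ : 𝒴.p.IsHomLift (𝟙 V) τ) : ∃ σ : y ⟶ y, 𝒴.p.IsHomLift (𝟙 T) σ ∧ τ ≫ c = c ≫ σ := by
  obtain ⟨z, ζ₁, ζ₂, hζ₁, hζ₂, e⟩ := Pair.exists_obj h𝒴 (isOpenPair_glue j) (lift_id_comp hτ hc) hc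
  obtain ⟨x, hx, cx⟩ := exists_left φ hy
  obtain ⟨v, hv, cv⟩ := exists_left φ (dom hc)
  obtain ⟨z', hz', cz⟩ := exists_left φ (cod hζ₁)
  obtain ⟨c', hc'⟩ := arrow_left h𝒳.1 h𝒴.1 cx cv c hc
  obtain ⟨ξ₁, hξ₁⟩ := arrow_left h𝒳.1 h𝒴.1 cz cx ζ₁ hζ₁
  obtain ⟨ξ₂, hξ₂⟩ := arrow_left h𝒳.1 h𝒴.1 cz cx ζ₂ hζ₂
  obtain ⟨τ', hτ', e'⟩ := exists_vert h𝒳.1 (lift_comp hc' hξ₁)
    (lift_comp' hc' hξ₂ (condition j j).symm)
  obtain ⟨σ', hσ', e''⟩ := H x v hx c' hc' τ' hτ'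
  let fd : glue j j ⟶ T := desc (𝟙 T) (𝟙 T) rfl
  obtain ⟨γ, hγ, -, -⟩ := Pair.exists_hom h𝒳 (isOpenPair_glue j) (lift_id_comp hτ' hc') hc' hξ₁ hξ₂
    (by rw [Category.assoc]; exact e') (g := fd) (γ₁ := 𝟙 x) (γ₂ := σ')
    (by rw [inl_desc]; exact lift_id hx) (by rw [inr_desc]; exact hσ') (by rw [Category.comp_id]; exact e'')
  obtain ⟨δ, hδ⟩ := arrow_right h𝒴.1 cx cz γ hγ
  have l₁ : 𝒴.p.IsHomLift (𝟙 T) (ζ₁ ≫ δ) := lift_comp' hζ₁ hδ (inl_desc _ _ _)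
  have l₂ : 𝒴.p.IsHomLift (𝟙 T) (ζ₂ ≫ δ) := lift_comp' hζ₂ hδ (inr_desc _ _ _)
  have := isIso_of_id h𝒴.1 l₁
  refine ⟨(ζ₂ ≫ δ) ≫ inv (ζ₁ ≫ δ), lift_comp_id l₂ (lift_inv l₁), ?_⟩
  rw [← Category.assoc c, IsIso.eq_comp_inv, ← Category.assoc c ζ₂, ← e]
  simp only [Category.assoc]

theorem Ext.right (φ : IsoNat.FIso 𝒳 𝒴) (h𝒳 : Stk.IsStack (AlgSp.J S) 𝒳) (h𝒴 : Stk.IsStack (AlgSp.J S) 𝒴)
    (H : Ext 𝒳) : Ext 𝒴 := by
  intro A K _ _ _ _ _ _ str y w hy c hc τ hτ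
  have : IsOpenImmersion (jj A K str).left :=
    Groth.Agent.Models.DVRGeneric.isOpenImmersion_generic A K
  exact ext_right (φ := φ) h𝒳 h𝒴 (jj A K str) (fun x w hx c hc τ hτ => H A K str x w hx c hc τ hτ) y w hy c hc τ hτ

open K862 K862.Fib K864.SepUniq K864.SpanKit

/-- Extension of automorphisms from properness of the inertia. -/
theorem ext_of_proper [FibCat.IsFibGrpd 𝒳.p]
    (hpr : AlgSt.RepByAlgSpWith AlgSp.IsProperMor (FibCat.inertiaToBase (FibCat.toSelf 𝒳))) : Ext 𝒳 := by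
  intro A K _ _ _ _ _ _ str x w hx c hc τ hτ
  let x₀ : 𝒳.p.Fiber (Over.mk str) := ⟨x, hx⟩
  obtain ⟨F, R, hR⟩ := exists_autRep x₀ hpr
  let w₀ : 𝒳.p.Fiber (Over.mk (Spec.map (CommRingCat.ofHom (algebraMap A K)) ≫ str)) := ⟨w, dom hc⟩
  let τ₀ : w₀ ⟶ w₀ := ⟨τ, hτ⟩
  let a := R.sec (jj A K str) w₀ c τ₀ hc
  let f : F ⟶ (ofScheme S).obj (Over.mk str) := ObjectProperty.homMk R.π
  have hqs : IsQuasiSeparatedMor f.hom :=
    K596.Univ.repWith_mono (fun _ _ g (_ : IsClosedImmersion g) => show QuasiCompact g from inferInstance) hR.1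
  let sq : ValSq f.hom :=
    { A := A, K := K, str := str
      top := (secEquiv F.obj _).symm a
      bot := 𝟙 _
      comm := by
        apply (secEquiv _ _).injective
        rw [secEquiv_comp, Equiv.apply_symm_apply, Category.comp_id]
        exact (R.sec_π _ _ _ _ _).trans (secEquiv_yon (jj A K str)).symm }
  obtain ⟨e, he⟩ := Groth.Agent.S10289.result f hqs hR.2.2 sq
  obtain ⟨l, hl1, hl2⟩ := Groth.Agent.S10284.result f hR.1 sq e he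
  have h1 : R.π.hom.app _ (secEquiv F.obj _ l) = ⟨𝟙 _⟩ := by
    rw [← secEquiv_comp]
    have : l ≫ R.π = (yon S).map (𝟙 (Over.mk str)) := by rw [CategoryTheory.Functor.map_id]; exact hl2
    rw [this, secEquiv_yon]
  have lx : 𝒳.p.IsHomLift (𝟙 (Over.mk str)) (𝟙 x) := lift_id hx
  obtain ⟨σ, hσ⟩ := R.sec_surj' (𝟙 (Over.mk str)) (z := x₀) (𝟙 x) lx (secEquiv F.obj _ l) h1
  have h2 : F.obj.obj.map (jj A K str).op (secEquiv F.obj _ l) = a := by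
    rw [← secEquiv_map]
    have : (yon S).map (jj A K str) ≫ l = (secEquiv F.obj _).symm a := hl1
    rw [this, Equiv.apply_symm_apply]
  rw [← hσ, R.sec_res (jj A K str) (𝟙 _) (z'' := w₀) (z := x₀) c (𝟙 x) σ hc lx] at h2
  obtain ⟨θ, h3, h4⟩ := (R.sec_eq_iff _ _ _ _ _ _ _ _ _ _).1 h2
  have h5 : θ = 𝟙 w₀ := by
    refine Subtype.ext (fac_unique (inferInstance : FibCat.IsFibGrpd 𝒳.p) c θ.2 (𝟙 w₀ : w₀ ⟶ w₀).2 ?_)
    rw [h4, Category.comp_id]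
    exact (Category.id_comp c).symm
  rw [h5, Category.comp_id, Category.id_comp] at h3
  refine ⟨σ.1, σ.2, ?_⟩
  have h6 := res_comp (p := 𝒳.p) (jj A K str) (x' := w₀) (y' := w₀) (x := x₀) (y := x₀) c c σ
  rw [h3] at h6
  exact h6

/-- Lifts over discrete valuation rings for the space of automorphisms. -/
theorem dvrExist_of_ext [FibCat.IsFibGrpd 𝒳.p] (H : Ext 𝒳) {T : Over S} (t : 𝒳.p.Fiber T) {F : Sp S}
    (R : AutRep t F) : DvrExist R.π := by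
  intro A K _ _ _ _ _ _ str x y h
  obtain ⟨g, rfl⟩ := (yon S).map_surjective y
  obtain ⟨z, b, hb⟩ := exists_lift (inferInstance : FibCat.IsFibGrpd 𝒳.p) t.2 g
  obtain ⟨w, c, hc⟩ := exists_lift (inferInstance : FibCat.IsFibGrpd 𝒳.p) (dom hb) (jj A K str)
  let z₀ : 𝒳.p.Fiber (Over.mk str) := ⟨z, dom hb⟩
  let w₀ : 𝒳.p.Fiber (Over.mk (Spec.map (CommRingCat.ofHom (algebraMap A K)) ≫ str)) := ⟨w, dom hc⟩
  have h1 : R.π.hom.app _ (secEquiv F _ x) = ⟨jj A K str ≫ g⟩ := by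
    rw [← secEquiv_comp, h, ← Functor.map_comp, secEquiv_yon]
  obtain ⟨τ, hτ⟩ := R.sec_surj' (jj A K str ≫ g) (z := w₀) (c ≫ b) (lift_comp hc hb) _ h1
  obtain ⟨σ, hσ, e⟩ := H A K str z w (dom hb) c hc τ.1 τ.2
  let σ₀ : z₀ ⟶ z₀ := ⟨σ, hσ⟩
  refine ⟨(secEquiv F _).symm (R.sec g z₀ b σ₀ hb), ?_, ?_⟩
  · apply (secEquiv _ _).injective
    rw [secEquiv_map, Equiv.apply_symm_apply, ← hτ]
    exact R.sec_map (jj A K str) g w₀ z₀ c b σ₀ τ hc hb (lift_comp hc hb) e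
  · apply (secEquiv _ _).injective
    rw [secEquiv_comp, Equiv.apply_symm_apply, R.sec_π, secEquiv_yon]

end K864.DvrExt
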