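import Groth.Agent.IsoNat.K862.FRep
import Groth.Agent.IsoNat.K862.Cls
import Groth.Agent.AlgSp.K598.RepKit
import Groth.Prelude.Def_AlgSt3

/-!
# Monomorphisms of stacks are fully faithful on fibres

`RepByAlgSpWith P f` with `P` contained in the monomorphisms: every fibre morphism `f x ⟶ f x'` lifts
uniquely to `x ⟶ x'`.
-/

set_option autoImplicit false
set_option linter.unusedSectionVars false
set_option backward.isDefEq.respectTransparency false
set_option backward.isDefEq.respectTransparency.types false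

universe u

open CategoryTheory CategoryTheory.Limits AlgebraicGeometry Opposite K862 K862.Fib

namespace K864.MonoFF

variable {S : Scheme.{u}} {𝒳 𝒴 : AlgSt.Cat S}

theorem injective_app {F G : AlgSp.Sp S} (f : F ⟶ G) (hf : Mono f) (T : Over S) :
    Function.Injective (f.hom.app (op T)) := by
  have h1 : Mono f.hom := (Sheaf.Hom.mono_iff_presheaf_mono _ _ f).1 hf
  have h2 : Mono (f.hom.app (op T)) := inferInstance
  exact (mono_iff_injective _).1 h2

theorem existsUnique_lift {P : MorphismProperty (AlgSp.Sp S)} (hP : P ≤ MorphismProperty.monomorphisms _)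
    {f : 𝒳 ⥤ᵇ 𝒴} [FibCat.IsFibGrpd 𝒳.p] [FibCat.IsFibGrpd 𝒴.p] (h : AlgSt.RepByAlgSpWith P f)
    {T : Over S} (x x' : 𝒳.p.Fiber T) (c : fibObj f x ⟶ fibObj f x') :
    ∃! θ : x ⟶ x', f.map θ.1 = c.1 := by
  obtain ⟨F, R, hR⟩ := exists_fRep h (fibObj f x')
  have hid : 𝒴.p.IsHomLift (𝟙 T) (𝟙 (fibObj f x').1) := IsHomLift.id (fibObj f x').2
  have hc : 𝒴.p.IsHomLift (𝟙 T) c.1 := c.2
  have e : R.sec (𝟙 T) x c.1 hc = R.sec (𝟙 T) x' (𝟙 (fibObj f x').1) hid := by
    apply injective_app R.π (hP _ hR) T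
    exact (R.sec_π (𝟙 T) x c.1 hc).trans (R.sec_π (𝟙 T) x' (𝟙 (fibObj f x').1) hid).symm
  obtain ⟨θ, hθ⟩ := (R.sec_eq_iff (𝟙 T) (𝟙 T) x x' c.1 (𝟙 (fibObj f x').1) hc hid).1 e
  refine ⟨θ, (Category.comp_id _).symm.trans hθ, fun θ' hθ' => ?_⟩
  refine R.uniq (𝟙 T) x x' θ' θ (𝟙 (fibObj f x').1) hid ?_
  exact (congrArg (fun k => k ≫ 𝟙 (fibObj f x').1) hθ').trans ((Category.comp_id _).trans hθ.symm)

/-- Open immersions of stacks are fully faithful on fibres. -/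
theorem existsUnique_lift_of_isOpenImm {i : 𝒳 ⥤ᵇ 𝒴} [FibCat.IsFibGrpd 𝒳.p] [FibCat.IsFibGrpd 𝒴.p]
    (h : AlgSt.IsOpenImm i) {T : Over S} (x x' : 𝒳.p.Fiber T) (c : fibObj i x ⟶ fibObj i x') :
    ∃! θ : x ⟶ x', i.map θ.1 = c.1 :=
  existsUnique_lift (fun _ _ _ h => K598.RepKit.mono_of_repWith_isOpenImmersion h) h x x' c

end K864.MonoFF
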