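import Groth.Agent.IsoNat.K864.Doubled
import Groth.Prelude.Def_CInt
import Groth.Agent.Ega4dB.SchDense
import Mathlib.AlgebraicGeometry.Morphisms.SchemeTheoreticallyDominant
import Mathlib.AlgebraicGeometry.Morphisms.Flat

/-!
# The product `T × Z` of a scheme `T` over `S` with an absolute scheme `Z`, as a scheme over `S`
-/

set_option autoImplicit false
universe u
open CategoryTheory CategoryTheory.Limits AlgebraicGeometry

namespace K864.Prd

noncomputable section

variable {S : Scheme.{u}}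

/-- The product `T × Z` (over the terminal scheme) as a scheme over `S`, through the first factor. -/
def prd (T : Over S) (Z : Scheme.{u}) : Over S :=
  Over.mk (pullback.fst (terminal.from T.left) (terminal.from Z) ≫ T.hom)

/-- first projection -/
def p₁ (T : Over S) (Z : Scheme.{u}) : prd T Z ⟶ T :=
  Over.homMk (pullback.fst (terminal.from T.left) (terminal.from Z))

/-- second projection -/
def p₂ (T : Over S) (Z : Scheme.{u}) : (prd T Z).left ⟶ Z :=
  pullback.snd (terminal.from T.left) (terminal.from Z)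

theorem isPullback (T : Over S) (Z : Scheme.{u}) :
    IsPullback (p₁ T Z).left (p₂ T Z) (terminal.from T.left) (terminal.from Z) :=
  IsPullback.of_hasPullback _ _

/-- Morphisms into `T × Z`. -/
def lift {W T : Over S} {Z : Scheme.{u}} (a : W ⟶ T) (b : W.left ⟶ Z) : W ⟶ prd T Z :=
  Over.homMk ((isPullback T Z).lift a.left b (Subsingleton.elim _ _)) (by
    have h : (isPullback T Z).lift a.left b (Subsingleton.elim _ _) ≫ (p₁ T Z).left = a.left :=
      (isPullback T Z).lift_fst _ _ _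
    have h2 : (p₁ T Z).left ≫ T.hom = (prd T Z).hom := Over.w _
    rw [← h2, ← Category.assoc, h, Over.w])

@[reassoc (attr := simp)]
theorem lift_p₁ {W T : Over S} {Z : Scheme.{u}} (a : W ⟶ T) (b : W.left ⟶ Z) :
    lift a b ≫ p₁ T Z = a :=
  Over.OverMorphism.ext ((isPullback T Z).lift_fst _ _ _)

@[reassoc (attr := simp)]
theorem lift_p₂ {W T : Over S} {Z : Scheme.{u}} (a : W ⟶ T) (b : W.left ⟶ Z) :
    (lift a b).left ≫ p₂ T Z = b :=
  (isPullback T Z).lift_snd _ _ _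

theorem hom_ext {W T : Over S} {Z : Scheme.{u}} {a b : W ⟶ prd T Z}
    (h₁ : a ≫ p₁ T Z = b ≫ p₁ T Z) (h₂ : a.left ≫ p₂ T Z = b.left ≫ p₂ T Z) : a = b :=
  Over.OverMorphism.ext ((isPullback T Z).hom_ext (congrArg (fun k => k.left) h₁) h₂)

/-- Functoriality in the absolute factor. -/
def mapR (T : Over S) {Z Z' : Scheme.{u}} (j : Z ⟶ Z') : prd T Z ⟶ prd T Z' :=
  lift (p₁ T Z) (p₂ T Z ≫ j)

@[reassoc (attr := simp)]
theorem mapR_p₁ (T : Over S) {Z Z' : Scheme.{u}} (j : Z ⟶ Z') : mapR T j ≫ p₁ T Z' = p₁ T Z :=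
  lift_p₁ _ _

@[reassoc (attr := simp)]
theorem mapR_p₂ (T : Over S) {Z Z' : Scheme.{u}} (j : Z ⟶ Z') :
    (mapR T j).left ≫ p₂ T Z' = p₂ T Z ≫ j :=
  lift_p₂ _ _

/-- Functoriality in the relative factor. -/
def mapL {T T' : Over S} (f : T ⟶ T') (Z : Scheme.{u}) : prd T Z ⟶ prd T' Z :=
  lift (p₁ T Z ≫ f) (p₂ T Z)

@[reassoc (attr := simp)]
theorem mapL_p₁ {T T' : Over S} (f : T ⟶ T') (Z : Scheme.{u}) :
    mapL f Z ≫ p₁ T' Z = p₁ T Z ≫ f :=
  lift_p₁ _ _

@[reassoc (attr := simp)]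
theorem mapL_p₂ {T T' : Over S} (f : T ⟶ T') (Z : Scheme.{u}) :
    (mapL f Z).left ≫ p₂ T' Z = p₂ T Z :=
  lift_p₂ _ _

@[reassoc]
theorem mapR_comp (T : Over S) {Z Z' Z'' : Scheme.{u}} (j : Z ⟶ Z') (k : Z' ⟶ Z'') :
    mapR T (j ≫ k) = mapR T j ≫ mapR T k := by
  apply hom_ext
  · simp
  · rw [mapR_p₂, Over.comp_left, Category.assoc, mapR_p₂, mapR_p₂_assoc]

theorem mapR_id (T : Over S) (Z : Scheme.{u}) : mapR T (𝟙 Z) = 𝟙 _ := by
  apply hom_ext
  · simp
  · rw [mapR_p₂, Over.id_left, Category.comp_id, Category.id_comp]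

@[reassoc]
theorem mapL_comp {T T' T'' : Over S} (f : T ⟶ T') (g : T' ⟶ T'') (Z : Scheme.{u}) :
    mapL (f ≫ g) Z = mapL f Z ≫ mapL g Z := by
  apply hom_ext
  · simp
  · rw [mapL_p₂, Over.comp_left, Category.assoc, mapL_p₂, mapL_p₂]

theorem mapL_id (T : Over S) (Z : Scheme.{u}) : mapL (𝟙 T) Z = 𝟙 _ := by
  apply hom_ext
  · simp
  · rw [mapL_p₂, Over.id_left, Category.id_comp]

@[reassoc]
theorem mapL_mapR {T T' : Over S} (f : T ⟶ T') {Z Z' : Scheme.{u}} (j : Z ⟶ Z') :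
    mapL f Z ≫ mapR T' j = mapR T j ≫ mapL f Z' := by
  apply hom_ext
  · simp
  · rw [Over.comp_left, Over.comp_left, Category.assoc, Category.assoc, mapR_p₂, mapL_p₂,
      mapL_p₂_assoc, mapR_p₂]

@[reassoc]
theorem lift_mapR {W T : Over S} {Z Z' : Scheme.{u}} (a : W ⟶ T) (b : W.left ⟶ Z) (j : Z ⟶ Z') :
    lift a b ≫ mapR T j = lift a (b ≫ j) := by
  apply hom_ext
  · simp
  · rw [Over.comp_left, Category.assoc, mapR_p₂, lift_p₂_assoc, lift_p₂]

@[reassoc]
theorem lift_mapL {W T T' : Over S} {Z : Scheme.{u}} (a : W ⟶ T) (b : W.left ⟶ Z) (f : T ⟶ T') :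
    lift a b ≫ mapL f Z = lift (a ≫ f) b := by
  apply hom_ext
  · simp
  · rw [Over.comp_left, Category.assoc, mapL_p₂, lift_p₂, lift_p₂]

@[reassoc]
theorem comp_lift {W W' T : Over S} {Z : Scheme.{u}} (h : W' ⟶ W) (a : W ⟶ T) (b : W.left ⟶ Z) :
    h ≫ lift a b = lift (h ≫ a) (h.left ≫ b) := by
  apply hom_ext
  · simp
  · rw [Over.comp_left, Category.assoc, lift_p₂, lift_p₂]

/-- `T × j` is a base change of `j`. -/
theorem isPullback_mapR (T : Over S) {Z Z' : Scheme.{u}} (j : Z ⟶ Z') :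
    IsPullback (mapR T j).left (p₂ T Z) (p₂ T Z') j := by
  have h1 : (mapR T j).left ≫ (p₁ T Z').left = (p₁ T Z).left :=
    congrArg (fun k => k.left) (mapR_p₁ T j)
  have h2 : j ≫ terminal.from Z' = terminal.from Z := Subsingleton.elim _ _
  refine IsPullback.of_right (h₁₂ := (p₁ T Z').left) (h₂₂ := terminal.from Z')
    (v₁₃ := terminal.from T.left) ?_ (mapR_p₂ T j) (isPullback T Z')
  rw [h1, h2]
  exact isPullback T Z

/-- `f × Z` is a base change of `f`. -/
theorem isPullback_mapL {T T' : Over S} (f : T ⟶ T') (Z : Scheme.{u}) :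
    IsPullback (mapL f Z).left (p₁ T Z).left (p₁ T' Z).left f.left := by
  have h1 : f.left ≫ terminal.from T'.left = terminal.from T.left := Subsingleton.elim _ _
  refine IsPullback.of_right (h₁₂ := p₂ T' Z) (h₂₂ := terminal.from T'.left)
    (v₁₃ := terminal.from Z) ?_ (congrArg (fun k => k.left) (mapL_p₁ f Z)) (isPullback T' Z).flip
  rw [h1, mapL_p₂]
  exact (isPullback T Z).flip

theorem mapR_prop (P : MorphismProperty Scheme.{u}) [P.IsStableUnderBaseChange] (T : Over S)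
    {Z Z' : Scheme.{u}} {j : Z ⟶ Z'} (hj : P j) : P (mapR T j).left :=
  P.of_isPullback (isPullback_mapR T j).flip hj

theorem mapL_prop (P : MorphismProperty Scheme.{u}) [P.IsStableUnderBaseChange] {T T' : Over S}
    {f : T ⟶ T'} (hf : P f.left) (Z : Scheme.{u}) : P (mapL f Z).left :=
  P.of_isPullback (isPullback_mapL f Z).flip hf

theorem p₁_prop (P : MorphismProperty Scheme.{u}) [P.IsStableUnderBaseChange] (T : Over S)
    {Z : Scheme.{u}} (hZ : P (terminal.from Z)) : P (p₁ T Z).left :=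
  P.of_isPullback (isPullback T Z).flip hZ

instance isOpenImmersion_mapR (T : Over S) {Z Z' : Scheme.{u}} (j : Z ⟶ Z') [IsOpenImmersion j] :
    IsOpenImmersion (mapR T j).left :=
  mapR_prop @IsOpenImmersion T ‹_›

/-- `T ×` of a cartesian square is cartesian. -/
theorem isPullback_prd_left (T : Over S) {A B C D : Scheme.{u}} {a : A ⟶ B} {b : A ⟶ C} {c : B ⟶ D}
    {d : C ⟶ D} (h : IsPullback a b c d) :
    IsPullback (mapR T a).left (mapR T b).left (mapR T c).left (mapR T d).left := by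
  have h1 := (isPullback_mapR T b).flip.paste_horiz h
  rw [← mapR_p₂, ← mapR_p₂] at h1
  refine IsPullback.of_right h1 ?_ (isPullback_mapR T c).flip
  rw [← Over.comp_left, ← Over.comp_left, ← mapR_comp, ← mapR_comp, h.w]

/-- `T ×` of a cartesian square is cartesian. -/
theorem isPullback_prd (T : Over S) {A B C D : Scheme.{u}} {a : A ⟶ B} {b : A ⟶ C} {c : B ⟶ D}
    {d : C ⟶ D} (h : IsPullback a b c d) :
    IsPullback (mapR T a) (mapR T b) (mapR T c) (mapR T d) := by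
  refine IsPullback.of_map (Over.forget S) ?_ (isPullback_prd_left T h)
  rw [← mapR_comp, ← mapR_comp, h.w]

theorem exists_of_mem (T : Over S) {Z Z₁ : Scheme.{u}} (j₁ : Z₁ ⟶ Z) (x : ↥(prd T Z).left)
    (a : Z₁) (ha : j₁ a = p₂ T Z x) : ∃ w : (prd T Z₁).left, (mapR T j₁).left w = x := by
  obtain ⟨w, hw, -⟩ := Scheme.exists_preimage_of_isPullback (isPullback_mapR T j₁) x a ha.symm
  exact ⟨w, hw⟩

/-- `T ×` of a jointly surjective pair is jointly surjective. -/
theorem exists_or (T : Over S) {Z Z₁ Z₂ : Scheme.{u}} (j₁ : Z₁ ⟶ Z) (j₂ : Z₂ ⟶ Z)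
    (h : ∀ z : Z, (∃ a : Z₁, j₁ a = z) ∨ ∃ b : Z₂, j₂ b = z) (x : ↥(prd T Z).left) :
    (∃ a : (prd T Z₁).left, (mapR T j₁).left a = x) ∨
      ∃ b : (prd T Z₂).left, (mapR T j₂).left b = x := by
  rcases h (p₂ T Z x) with (⟨a, ha⟩ | ⟨b, hb⟩)
  · exact Or.inl (exists_of_mem T j₁ x a ha)
  · exact Or.inr (exists_of_mem T j₂ x b hb)

end

end K864.Prd
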