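import Groth.Agent.IsoNat.K864.Twist
import Groth.Agent.IsoNat.K864.SepUniq

/-!
# Separated presheaf of isomorphism classes implies no automorphisms
-/

set_option autoImplicit false
set_option linter.unusedSectionVars false
set_option backward.isDefEq.respectTransparency false
set_option backward.isDefEq.respectTransparency.types false

universe v₂ u₂ u

open CategoryTheory CategoryTheory.Limits AlgebraicGeometry

namespace K864.SepClean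

open K863.Arr K863.Glue K863.Pair K864.Disj K864.Prd K864.Cross K864.Twist K864.Doubled

variable {S : Scheme.{u}}

/-- The covering of `T × D2` by two disjoint copies of `T × Cr`. -/
noncomputable def πD (T : Over S) : two (prd T Cr.{u}) ⟶ prd T D2.{u} :=
  desc₂ (mapR T i₁) (mapR T i₂)

theorem inl_πD (T : Over S) : inl₂ (prd T Cr.{u}) ≫ πD T = mapR T i₁ := inl_desc₂ _ _

theorem inr_πD (T : Over S) : inr₂ (prd T Cr.{u}) ≫ πD T = mapR T i₂ := inr_desc₂ _ _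

theorem πD_prop (P : MorphismProperty Scheme.{u}) [IsZariskiLocalAtSource P]
    (hP : ∀ ⦃X Y : Scheme.{u}⦄ (f : X ⟶ Y), IsOpenImmersion f → P f) (T : Over S) :
    P (πD T).left := by
  refine prop_of_pieces P ?_ ?_
  · rw [inl_πD]; exact hP _ inferInstance
  · rw [inr_πD]; exact hP _ inferInstance

instance flat_πD (T : Over S) : Flat (πD T).left := πD_prop @Flat (fun _ _ _ _ => inferInstance) T

instance lofp_πD (T : Over S) : LocallyOfFinitePresentation (πD T).left :=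
  πD_prop @LocallyOfFinitePresentation (fun _ _ _ _ => inferInstance) T

instance surjective_πD (T : Over S) : Surjective (πD T).left := by
  refine surjective_of_pieces (fun z => ?_)
  rw [inl_πD, inr_πD]
  exact exists_or T i₁ i₂ exists_i z

/-- The section of `T × Z` given by a section of `Z` over the point. -/
noncomputable def secT (T : Over S) {Z : Scheme.{u}} (z : pt.{u} ⟶ Z) : T ⟶ prd T Z :=
  lift (𝟙 T) (isTerminalPt.from T.left ≫ z)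

theorem secT_p₁ (T : Over S) {Z : Scheme.{u}} (z : pt.{u} ⟶ Z) : secT T z ≫ p₁ T Z = 𝟙 T :=
  lift_p₁ _ _

theorem secT_mapR (T : Over S) {Z Z' : Scheme.{u}} (z : pt.{u} ⟶ Z) (j : Z ⟶ Z') :
    secT T z ≫ mapR T j = secT T (z ≫ j) := by
  rw [secT, lift_mapR, Category.assoc]
  rfl

section

variable {𝒳 : BasedCategory.{v₂, u₂} (Over S)}

/-- The twisted object and the pullback of `x` become isomorphic on a covering. -/
theorem exists_cover_iso (hst : Stk.IsStack (AlgSp.J S) 𝒳) {T : Over S} {x : 𝒳.obj} {s : x ⟶ x}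
    (D : Data T x s) {xD : 𝒳.obj} {aD : xD ⟶ x} (haD : 𝒳.p.IsHomLift (p₁ T D2.{u}) aD) :
    ∃ (z' x' : 𝒳.obj) (bz : z' ⟶ D.z) (bx : x' ⟶ xD) (γ : z' ⟶ x'),
      𝒳.p.IsHomLift (πD T) bz ∧ 𝒳.p.IsHomLift (πD T) bx ∧
      𝒳.p.IsHomLift (𝟙 (two (prd T Cr.{u}))) γ := by
  have hp := hst.1
  obtain ⟨z', bz, hbz⟩ := exists_lift hp (cod D.hζ₁) (πD T)
  obtain ⟨x', bx, hbx⟩ := exists_lift hp (dom haD) (πD T)
  obtain ⟨ζ₁, hζ₁, -⟩ := exists_fac hp hbz D.hζ₁ (inl_πD T)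
  obtain ⟨ζ₂, hζ₂, -⟩ := exists_fac hp hbz D.hζ₂ (inr_πD T)
  obtain ⟨δ₁, hδ₁, -⟩ := exists_fac hp (lift_comp hbx haD) D.haP
    (g := inl₂ (prd T Cr.{u})) (by rw [← Category.assoc, inl_πD, mapR_p₁])
  obtain ⟨δ₂, hδ₂, -⟩ := exists_fac hp (lift_comp hbx haD) D.haP
    (g := inr₂ (prd T Cr.{u})) (by rw [← Category.assoc, inr_πD, mapR_p₁])
  obtain ⟨γ, hγ, -, -⟩ := exists_hom_disj hst (j₁ := inl₂ (prd T Cr.{u})) (j₂ := inr₂ (prd T Cr))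
    inferInstance inferInstance (fun y => exists_or _ _ y) (inl₂_ne_inr₂ _) hζ₁ hζ₂
    (w := x') (g := 𝟙 _) (γ₁ := δ₁) (γ₂ := δ₂)
    (by rw [Category.comp_id]; exact hδ₁) (by rw [Category.comp_id]; exact hδ₂)
  exact ⟨z', x', bz, bx, γ, hbz, hbx, hγ⟩

end

variable {𝒳 : AlgSt.Cat S} [FibCat.IsFibGrpd 𝒳.p]

/-- If the twist of `x` by `s` is isomorphic to the pullback of `x` then `s` is the identity. -/
theorem eq_id_of_data {P : MorphismProperty (AlgSp.Sp S)} (hP : P ≤ @AlgSp.IsSeparatedMor S)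
    (hd : AlgSt.RepByAlgSpWith P (FibCat.diag (FibCat.toSelf 𝒳)))
    (hp : FibCat.IsFibGrpd 𝒳.p) {T : Over S} {x : 𝒳.obj} {s : x ⟶ x}
    (hs : 𝒳.p.IsHomLift (𝟙 T) s) (D : Data T x s) {γ : D.z ⟶ x}
    (hγ : 𝒳.p.IsHomLift (p₁ T D2.{u}) γ) : s = 𝟙 x := by
  have hx : 𝒳.p.obj x = T := cod hγ
  -- the two arrows on the cross
  have h₁ : 𝒳.p.IsHomLift (p₁ T Cr.{u}) (D.ζ₁ ≫ γ) := lift_comp' D.hζ₁ hγ (mapR_p₁ _ _)
  have h₂ : 𝒳.p.IsHomLift (p₁ T Cr.{u}) (D.ζ₂ ≫ γ) := lift_comp' D.hζ₂ hγ (mapR_p₁ _ _)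
  have hg : D.aV ≫ D.ζ₁ ≫ γ = D.σ ≫ D.aV ≫ D.ζ₂ ≫ γ := by
    rw [← Category.assoc, D.glue]; simp only [Category.assoc]
  -- restriction of `s` to the cross
  obtain ⟨sP, hsP, hsP'⟩ := exists_restr hp D.haP D.haP hs
  have hσ₂ : D.ω₂ ≫ D.σ ≫ D.aV = D.ω₂ ≫ D.aV ≫ sP := by
    refine fac_unique hp D.aP (g := mapR T w₂.{u} ≫ mapR T V.ι) ?_ ?_ ?_
    · exact lift_comp D.hω₂ (lift_id_comp D.hσ D.haV)
    · exact lift_comp D.hω₂ (lift_comp_id D.haV hsP)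
    · simp only [Category.assoc]; rw [hsP', D.σ₂]
  -- the branches
  obtain ⟨xB₁, c₁, hc₁⟩ := exists_lift hp (dom D.haP) (mapR T b₁.{u})
  obtain ⟨xB₂, c₂, hc₂⟩ := exists_lift hp (dom D.haP) (mapR T b₂.{u})
  obtain ⟨ν₁, hν₁, hν₁'⟩ := exists_fac hp hc₁ (lift_comp D.hω₁ D.haV) (g := mapR T jGm.{u}) (by
    rw [← mapR_comp, ← mapR_comp]
    exact congrArg (mapR T) w₁_ι.symm)
  obtain ⟨ν₂, hν₂, hν₂'⟩ := exists_fac hp hc₂ (lift_comp D.hω₂ D.haV) (g := mapR T jGm.{u}) (by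
    rw [← mapR_comp, ← mapR_comp]
    exact congrArg (mapR T) w₂_ι.symm)
  have := std_jGm.{u} T
  have e₁ : c₁ ≫ D.ζ₁ ≫ γ = c₁ ≫ D.ζ₂ ≫ γ := by
    refine SepUniq.arrow_ext hP hd (mapR T jGm.{u}) hν₁ (lift_comp hc₁ h₁) (lift_comp hc₁ h₂) ?_
    rw [← Category.assoc, hν₁', ← Category.assoc ν₁ c₁, hν₁', Category.assoc, hg, Category.assoc,
      ← Category.assoc, D.σ₁]
  have e₂ : c₂ ≫ D.ζ₁ ≫ γ = c₂ ≫ sP ≫ D.ζ₂ ≫ γ := by
    refine SepUniq.arrow_ext hP hd (mapR T jGm.{u}) hν₂ (lift_comp hc₂ h₁)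
      (lift_comp hc₂ (lift_id_comp hsP h₂)) ?_
    rw [← Category.assoc, hν₂', ← Category.assoc ν₂ c₂, hν₂', Category.assoc, hg]
    calc D.ω₂ ≫ D.σ ≫ D.aV ≫ D.ζ₂ ≫ γ = (D.ω₂ ≫ D.σ ≫ D.aV) ≫ D.ζ₂ ≫ γ := by
          simp only [Category.assoc]
      _ = (D.ω₂ ≫ D.aV) ≫ sP ≫ D.ζ₂ ≫ γ := by rw [hσ₂]; simp only [Category.assoc]
  -- the origin
  obtain ⟨κ, hκ, hκ'⟩ := exists_fac hp D.haP (lift_id hx) (secT_p₁ T o.{u})
  obtain ⟨κ₁, hκ₁, hκ₁'⟩ := exists_fac hp hc₁ hκ (g := secT T zero.{u})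
    (by rw [secT_mapR, zero_b₁])
  obtain ⟨κ₂, hκ₂, hκ₂'⟩ := exists_fac hp hc₂ hκ (g := secT T zero.{u})
    (by rw [secT_mapR, zero_b₂])
  have e₃ : κ ≫ D.ζ₁ ≫ γ = κ ≫ D.ζ₂ ≫ γ := by
    rw [← hκ₁', Category.assoc, e₁, Category.assoc]
  have e₄ : κ ≫ D.ζ₁ ≫ γ = κ ≫ sP ≫ D.ζ₂ ≫ γ := by
    rw [← hκ₂', Category.assoc, e₂, Category.assoc]
  have e₅ : κ ≫ sP = s ≫ κ := by
    refine fac_unique hp D.aP (g := secT T o.{u}) (lift_comp_id hκ hsP) (lift_id_comp hs hκ) ?_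
    rw [Category.assoc, hsP', ← Category.assoc, hκ', Category.assoc, hκ', Category.id_comp,
      Category.comp_id]
  have hv : 𝒳.p.IsHomLift (𝟙 T) (κ ≫ D.ζ₂ ≫ γ) := lift_comp' hκ h₂ (secT_p₁ T o.{u})
  have hi : IsIso (κ ≫ D.ζ₂ ≫ γ) := isIso_of_id hp hv
  rw [← cancel_mono (κ ≫ D.ζ₂ ≫ γ), Category.id_comp, ← Category.assoc, ← e₅, Category.assoc,
    ← e₄, e₃]

end K864.SepClean
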