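import Groth.Agent.IsoNat.K863.AutEquiv

/-!
# Compatibility with restriction of the correspondence of automorphisms in the abelian case
-/

set_option autoImplicit false
set_option backward.isDefEq.respectTransparency false
set_option backward.isDefEq.respectTransparency.types false

universe u

open CategoryTheory CategoryTheory.Limits AlgebraicGeometry Opposite

namespace K864.ThRestr

open K863.Arr K863.Frame K863.Rel K863.KSet K863.Corr K863.Abel K863.AutEquiv K864.Prd K864.Cross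

variable {S : Scheme.{u}} {𝒳 𝒴 : AlgSt.Cat S}

section

variable (hp : FibCat.IsFibGrpd 𝒳.p) {T T₁ : Over S} {g : T₁ ⟶ T} {η : 𝒳.p.Fiber T} {η₁ : 𝒳.p.Fiber T₁}
  {f : η₁.1 ⟶ η.1} (hf : 𝒳.p.IsHomLift g f)

include hf in
theorem l_aux (Z : Scheme.{u}) : ∃ χ : (E hp η₁ Z).1 ⟶ (E hp η Z).1,
    𝒳.p.IsHomLift (mapL g Z) χ ∧ χ ≫ ε hp η Z = ε hp η₁ Z ≫ f :=
  exists_fac hp (ε_lift hp η Z) (lift_comp (ε_lift hp η₁ Z) hf) (mapL_p₁ g Z)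

/-- The arrow between the pullbacks to `T₁ × Z` and `T × Z`. -/
noncomputable def l (Z : Scheme.{u}) : (E hp η₁ Z).1 ⟶ (E hp η Z).1 := (l_aux hp hf Z).choose

theorem l_lift (Z : Scheme.{u}) : 𝒳.p.IsHomLift (mapL g Z) (l hp hf Z) := (l_aux hp hf Z).choose_spec.1

theorem l_ε (Z : Scheme.{u}) : l hp hf Z ≫ ε hp η Z = ε hp η₁ Z ≫ f := (l_aux hp hf Z).choose_spec.2

theorem l_m {Z Z' : Scheme.{u}} (j : Z ⟶ Z') : l hp hf Z ≫ m hp η j = m hp η₁ j ≫ l hp hf Z' :=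
  fac_unique hp (ε hp η Z') (lift_comp (l_lift hp hf Z) (m_lift hp η j))
    (lift_comp' (m_lift hp η₁ j) (l_lift hp hf Z') (mapL_mapR g j).symm)
    (by rw [Category.assoc, m_ε, l_ε, Category.assoc, l_ε, ← Category.assoc, m_ε])

theorem l_c (Z : Scheme.{u}) {a : η ⟶ η} {a₁ : η₁ ⟶ η₁} (ha : a₁.1 ≫ f = f ≫ a.1) :
    (c hp η₁ Z a₁).1 ≫ l hp hf Z = l hp hf Z ≫ (c hp η Z a).1 :=
  fac_unique hp (ε hp η Z) (lift_id_comp (c hp η₁ Z a₁).2 (l_lift hp hf Z))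
    (lift_comp_id (l_lift hp hf Z) (c hp η Z a).2)
    (by rw [Category.assoc, l_ε, ← Category.assoc, c_fac, Category.assoc, ha, Category.assoc, c_fac,
      ← Category.assoc (l hp hf Z), l_ε, Category.assoc])

include hf in
/-- Restriction of glued objects. -/
theorem R.restrL {D : Scheme.{u}} {k₁ k₂ : Cr.{u} ⟶ D} {a : η ⟶ η} {a₁ : η₁ ⟶ η₁} (ha : a₁.1 ≫ f = f ≫ a.1)
    {F F₁ : 𝒳.obj} (h : R hp η k₁ k₂ a F) {ψ : F₁ ⟶ F} (hψ : 𝒳.p.IsHomLift (mapL g D) ψ)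
    (hw : v₁ ≫ k₁ = v₁ ≫ k₂) (hw' : v₂ ≫ k₁ = v₂ ≫ k₂) : R hp η₁ k₁ k₂ a₁ F₁ := by
  obtain ⟨ζ₁, ζ₂, h⟩ := h
  obtain ⟨ξ₁, h1, h1'⟩ := exists_fac hp hψ (lift_comp (l_lift hp hf Cr) h.lift₁) (mapL_mapR g k₁).symm
  obtain ⟨ξ₂, h2, h2'⟩ := exists_fac hp hψ (lift_comp (l_lift hp hf Cr) h.lift₂) (mapL_mapR g k₂).symm
  refine ⟨ξ₁, ξ₂, h1, h2, ?_, ?_⟩
  · refine fac_unique hp ψ (g := mapR T₁ (v₁ ≫ k₁)) (lift_comp' (m_lift hp η₁ _) h1 (mapR_comp _ _ _).symm)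
      (lift_comp' (m_lift hp η₁ _) h2 (by rw [hw, mapR_comp])) ?_
    rw [Category.assoc, Category.assoc, h1', h2', ← Category.assoc, ← Category.assoc, ← l_m,
      Category.assoc, Category.assoc, h.e₁]
  · refine fac_unique hp ψ (g := mapR T₁ (v₂ ≫ k₁)) (lift_comp' (m_lift hp η₁ _)
      (lift_id_comp (c hp η₁ Cr a₁).2 h1) (mapR_comp _ _ _).symm)
      (lift_comp' (m_lift hp η₁ _) h2 (by rw [hw', mapR_comp])) ?_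
    rw [Category.assoc, Category.assoc, Category.assoc, h1', h2', ← Category.assoc (c hp η₁ Cr a₁).1, l_c hp hf Cr ha,
      Category.assoc, ← Category.assoc, ← l_m, Category.assoc, h.e₂, ← Category.assoc, l_m, Category.assoc]

end

/-- Pullbacks of corresponding objects along the same arrow correspond. -/
theorem corr_pull {φ : IsoNat.FIso 𝒳 𝒴} (h𝒴 : FibCat.IsFibGrpd 𝒴.p) {T T₁ : Over S} {g : T₁ ⟶ T}
    {x x₁ : 𝒳.obj} {y y₁ : 𝒴.obj} {hx : 𝒳.p.obj x = T} {hy : 𝒴.p.obj y = T} (h : Corr φ hx hy)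
    {a : x₁ ⟶ x} (ha : 𝒳.p.IsHomLift g a) {b : y₁ ⟶ y} (hb : 𝒴.p.IsHomLift g b) :
    Corr φ (dom ha) (dom hb) := by
  obtain ⟨y', hy', h'⟩ := exists_right φ (dom ha)
  obtain ⟨b', hb'⟩ := arrow_right h𝒴 h h' a ha
  obtain ⟨c, hc, -⟩ := exists_vert h𝒴 hb' hb
  have e : IsoNat.cls (𝒳 := 𝒴) (⟨y₁, dom hb⟩ : 𝒴.p.Fiber T₁) = IsoNat.cls (⟨y', hy'⟩ : 𝒴.p.Fiber T₁) :=
    (cls_eq_iff h𝒴 _ _).2 ⟨c, hc⟩
  exact h'.trans e.symm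

/-- The correspondence of automorphisms is compatible with restriction. -/
theorem Th.restr {φ : IsoNat.FIso 𝒳 𝒴} {h𝒳 : FibCat.IsFibGrpd 𝒳.p} {h𝒴 : FibCat.IsFibGrpd 𝒴.p}
    {T T₁ : Over S} {g : T₁ ⟶ T} {η : 𝒳.p.Fiber T} {η₁ : 𝒳.p.Fiber T₁} {f : η₁.1 ⟶ η.1} (hf : 𝒳.p.IsHomLift g f)
    {η' : 𝒴.p.Fiber T} {η₁' : 𝒴.p.Fiber T₁} {f' : η₁'.1 ⟶ η'.1} (hf' : 𝒴.p.IsHomLift g f')
    {a : η ⟶ η} {a' : η' ⟶ η'} (h : Th φ h𝒳 h𝒴 a a') {a₁ : η₁ ⟶ η₁} {a₁' : η₁' ⟶ η₁'}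
    (ha : a₁.1 ≫ f = f ≫ a.1) (ha' : a₁'.1 ≫ f' = f' ≫ a'.1) : Th φ h𝒳 h𝒴 a₁ a₁' := by
  obtain ⟨F, F', hF, hF', hc, r, r'⟩ := h
  obtain ⟨F₁, ψ, hψ⟩ := exists_lift h𝒳 hF (mapL g D2.{u})
  obtain ⟨F₁', ψ', hψ'⟩ := exists_lift h𝒴 hF' (mapL g D2.{u})
  exact ⟨F₁, F₁', dom hψ, dom hψ', corr_pull h𝒴 hc hψ hψ', R.restrL h𝒳 hf ha r hψ v₁_i v₂_i,
    R.restrL h𝒴 hf' ha' r' hψ' v₁_i v₂_i⟩

end K864.ThRestr
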