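import Groth.Agent.IsoNat.K864.TrivLocus
import Groth.Agent.Ega43.LocusFlat
import Groth.Agent.AlgSp.K609.QC

/-!
# The triviality locus is locally constructible
-/

set_option autoImplicit false
set_option linter.unusedSectionVars false
set_option backward.isDefEq.respectTransparency false
set_option backward.isDefEq.respectTransparency.types false

universe u

open CategoryTheory CategoryTheory.Limits AlgebraicGeometry Opposite AlgSp K613.Basic K613.Cover K613.Chart K613.Diag
open Groth.Agent.Ega43.Locus Groth.Agent.Ega43.LocusAff Groth.Agent.Ega43.LocusFlat K864.TrivLocus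

namespace K864.TrivCons

theorem fpqcInv_iso : FpqcInv (MorphismProperty.isomorphisms Scheme.{u}) :=
  FpqcInv.of_descendsAlong _

variable {S : Scheme.{u}} {G : Sp S} {T : Over S}

/-- The set of points of `T` in the image of a scheme over which `G` is trivial. -/
def trivSet (π : G ⟶ (yon S).obj T) (e : (yon S).obj T ⟶ G) : Set T.left :=
  {t | ∃ (Z : Over S) (τ : Z ⟶ T) (z : Z.left), τ.left z = t ∧ Triv π e τ}

theorem isOpen_trivSet (hG : IsAlgSpace G) {π : G ⟶ (yon S).obj T} {e : (yon S).obj T ⟶ G}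
    (he : e ≫ π = 𝟙 _) (hlft : LocP @LocallyOfFiniteType π) (huc : IsUnivClosedMor π) :
    IsOpen (trivSet π e) := by
  rw [isOpen_iff_forall_mem_open]
  rintro t ⟨Z, τ, z, rfl, h⟩
  obtain ⟨T', j, t', hj, ht', h'⟩ := exists_etale_triv hG he hlft huc τ z h
  refine ⟨Set.range j.left, ?_, j.left.isOpenMap.isOpen_range, ⟨t', ht'⟩⟩
  rintro _ ⟨s, rfl⟩
  exact ⟨T', j, s, rfl, h'⟩


theorem exists_ptTo (Z : Over S) (z : Z.left) : ∃ (K : Type u) (_ : Field K) (h : Spec (.of K) ⟶ S)
    (x : Over.mk h ⟶ Z), x.left (IsLocalRing.closedPoint K) = z := by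
  refine ⟨Z.left.residueField z, inferInstance, Z.left.fromSpecResidueField z ≫ Z.hom,
    Over.homMk (Z.left.fromSpecResidueField z) rfl, ?_⟩
  exact Scheme.fromSpecResidueField_apply z _

/-- Triviality over `x : A ⟶ T` in terms of a chart. -/
theorem triv_iff_isIso {π : G ⟶ (yon S).obj T} {e : (yon S).obj T ⟶ G} (he : e ≫ π = 𝟙 _)
    {W Q R : Over S} {p : W ⟶ T} {q : (yon S).obj W ⟶ G} (hq : ESurj q) (hp : (yon S).map p = q ≫ π)
    {c₁ c₂ : Q ⟶ W} (sqQ : IsPullback c₁ c₂ p p) {i : R ⟶ Q}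
    (hi : IsEq ((yon S).map c₁ ≫ q) ((yon S).map c₂ ≫ q) i)
    {A Y' X' : Over S} {x : A ⟶ T} {qY : Y' ⟶ Q} {a' : Y' ⟶ A} {qX : X' ⟶ R} {f' : X' ⟶ Y'}
    (sqY : IsPullback qY a' (c₁ ≫ p) x) (sqX : IsPullback qX f' i qY) :
    Triv π e x ↔ IsIso f' := by
  have him : Mono i := hi.mono
  have hf'm : Mono f' := ⟨fun u v huv => by
    apply sqX.hom_ext
    · rw [← cancel_mono i, Category.assoc, Category.assoc, sqX.w, ← Category.assoc, ← Category.assoc, huv]
    · exact huv⟩
  constructor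
  · intro h
    have h1 : (yon S).map (qY ≫ c₁) ≫ q = (yon S).map (a' ≫ x) ≫ e := by
      refine h Y' a' _ ?_
      rw [Category.assoc, ← hp, ← Functor.map_comp, Category.assoc, sqY.w]
    have h2 : (yon S).map (qY ≫ c₂) ≫ q = (yon S).map (a' ≫ x) ≫ e := by
      refine h Y' a' _ ?_
      rw [Category.assoc, ← hp, ← Functor.map_comp, Category.assoc, ← sqQ.w, sqY.w]
    have h3 : (yon S).map qY ≫ (yon S).map c₁ ≫ q = (yon S).map qY ≫ (yon S).map c₂ ≫ q := by
      rw [← Category.assoc, ← Category.assoc, ← Functor.map_comp, ← Functor.map_comp, h1, h2]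
    obtain ⟨r, hr, -⟩ := hi.lift Y' qY h3
    have hs : sqX.lift r (𝟙 Y') (by rw [hr, Category.id_comp]) ≫ f' = 𝟙 Y' := sqX.lift_snd _ _ _
    exact ⟨sqX.lift r (𝟙 Y') (by rw [hr, Category.id_comp]), by
      rw [← cancel_mono f', Category.assoc, hs, Category.id_comp, Category.comp_id], hs⟩
  · intro hf' B b g hg
    obtain ⟨B₁, d₁, u, hd₁, hu⟩ := hq B g
    obtain ⟨B₂, d₂, v, hd₂, hv⟩ := hq B₁ ((yon S).map (d₁ ≫ b ≫ x) ≫ e)
    obtain ⟨u, rfl⟩ := (yon S).map_surjective u
    obtain ⟨v, rfl⟩ := (yon S).map_surjective v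
    have hup : u ≫ p = d₁ ≫ b ≫ x := by
      apply (yon S).map_injective
      rw [Functor.map_comp, hp, ← Category.assoc, hu, Category.assoc, hg, ← Functor.map_comp]
    have hvp : v ≫ p = d₂ ≫ d₁ ≫ b ≫ x := by
      apply (yon S).map_injective
      rw [Functor.map_comp, hp, ← Category.assoc, hv, Category.assoc, Category.assoc, he, Category.comp_id,
        ← Functor.map_comp]
    have h1 : (d₂ ≫ u) ≫ p = v ≫ p := by rw [Category.assoc, hup, hvp]
    have h2 : sqQ.lift (d₂ ≫ u) v h1 ≫ c₁ ≫ p = (d₂ ≫ d₁ ≫ b) ≫ x := by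
      rw [← Category.assoc, sqQ.lift_fst, Category.assoc, hup]
      simp only [Category.assoc]
    have h3 : sqY.lift _ _ h2 ≫ inv f' ≫ qX ≫ i = sqQ.lift (d₂ ≫ u) v h1 := by
      rw [sqX.w, IsIso.inv_hom_id_assoc, sqY.lift_fst]
    have h4 : (yon S).map (d₂ ≫ u) ≫ q = (yon S).map v ≫ q := by
      have h5 := congrArg (fun t => (yon S).map (sqY.lift _ _ h2 ≫ inv f' ≫ qX) ≫ t) hi.w
      have h6 : ∀ (c : Q ⟶ W), (yon S).map (sqY.lift _ _ h2 ≫ inv f' ≫ qX) ≫ (yon S).map i ≫ (yon S).map c ≫ q =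
          (yon S).map (sqQ.lift (d₂ ≫ u) v h1 ≫ c) ≫ q := by
        intro c
        rw [← Category.assoc, ← Category.assoc, ← Functor.map_comp, ← Functor.map_comp]
        refine congrArg (fun t => (yon S).map t ≫ q) (congrArg (fun t => t ≫ c) ?_)
        rw [Category.assoc, Category.assoc]
        exact h3
      simp only [h6] at h5
      rw [sqQ.lift_fst, sqQ.lift_snd] at h5
      exact h5
    have := (hd₁.comp hd₂).fpC.epi
    rw [← cancel_epi ((yon S).map (d₂ ≫ d₁))]
    calc (yon S).map (d₂ ≫ d₁) ≫ g = (yon S).map (d₂ ≫ u) ≫ q := by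
          rw [Functor.map_comp, Functor.map_comp, Category.assoc, Category.assoc, hu]
      _ = (yon S).map v ≫ q := h4
      _ = _ := by
        rw [hv]
        simp only [Functor.map_comp, Category.assoc]

theorem trivSet_eq_locus {π : G ⟶ (yon S).obj T} {e : (yon S).obj T ⟶ G} (he : e ≫ π = 𝟙 _)
    {W Q R : Over S} {p : W ⟶ T} {q : (yon S).obj W ⟶ G} (hq : ESurj q) (hp : (yon S).map p = q ≫ π)
    {c₁ c₂ : Q ⟶ W} (sqQ : IsPullback c₁ c₂ p p) {i : R ⟶ Q}
    (hi : IsEq ((yon S).map c₁ ≫ q) ((yon S).map c₂ ≫ q) i) :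
    trivSet π e = locus (MorphismProperty.isomorphisms Scheme.{u}) i.left (c₁ ≫ p).left := by
  -- a point of `T` with values in a field
  have main : ∀ (K : Type u) [Field K] (h : Spec (.of K) ⟶ S) (x : Over.mk h ⟶ T),
      (Triv π e x ↔ x.left (IsLocalRing.closedPoint K) ∈
        locus (MorphismProperty.isomorphisms Scheme.{u}) i.left (c₁ ≫ p).left) := by
    intro K _ h x
    have sqY := IsPullback.of_hasPullback (c₁ ≫ p) x
    have sqX := IsPullback.of_hasPullback i (pullback.fst (c₁ ≫ p) x)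
    rw [triv_iff_isIso he hq hp sqQ hi sqY sqX]
    have h1 := mem_locus_iff_of_field fpqcInv_iso (K := K) (sqY.map (Over.forget S)) (sqX.map (Over.forget S))
    refine Iff.trans ?_ h1.symm
    rw [MorphismProperty.isomorphisms.iff]
    exact (isIso_iff_of_reflects_iso _ (Over.forget S)).symm
  ext t
  constructor
  · rintro ⟨Z, τ, z, rfl, h⟩
    obtain ⟨K, _, k, x, rfl⟩ := exists_ptTo Z z
    exact (main K _ (x ≫ τ)).1 (h.comp _)
  · intro ht
    obtain ⟨K, _, k, x, rfl⟩ := exists_ptTo T t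
    exact ⟨_, x, IsLocalRing.closedPoint K, rfl, (main K _ x).2 ht⟩

/-- The triviality locus is locally constructible. -/
theorem isLocallyConstructible_trivSet [hT : IsAffine T.left] {π : G ⟶ (yon S).obj T}
    {e : (yon S).obj T ⟶ G} (he : e ≫ π = 𝟙 _) (hsep : IsSeparatedMor π)
    (hlfp : LocP @LocallyOfFinitePresentation π) (hqc : IsQuasiCompactSp G) :
    Topology.IsLocallyConstructible (trivSet π e) := by
  obtain ⟨W, q, hW, hqe, hqs⟩ := K609.QC.exists_affine_chart hqc
  have hq : Ch q := ⟨hqe, hqs⟩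
  obtain ⟨p, hp⟩ := (yon S).map_surjective (q ≫ π)
  have hplfp : LocallyOfFinitePresentation p.left := hlfp q (𝟙 _) p hq.et (repWith_id _ _) (by
    rw [hp, Category.comp_id])
  -- the equivalence relation
  obtain ⟨R, r₂, k₀, sqR⟩ := hq.et.1 q
  obtain ⟨r₁, rfl⟩ := (yon S).map_surjective k₀
  have hr₂ : Etale r₂.left := hq.et.2 q _ r₂ sqR
  have sqQ := IsPullback.of_hasPullback p p
  set Q := pullback p p
  set c₁ : Q ⟶ W := pullback.fst p p
  set c₂ : Q ⟶ W := pullback.snd p p
  have hrp : r₁ ≫ p = r₂ ≫ p := by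
    apply (yon S).map_injective
    rw [Functor.map_comp, Functor.map_comp, hp, ← Category.assoc, sqR.w, Category.assoc]
  obtain ⟨i, hi1, hi2⟩ : ∃ i : R ⟶ Q, i ≫ c₁ = r₁ ∧ i ≫ c₂ = r₂ :=
    ⟨sqQ.lift r₁ r₂ hrp, sqQ.lift_fst _ _ _, sqQ.lift_snd _ _ _⟩
  have hab : ((yon S).map c₁ ≫ q) ≫ π = ((yon S).map c₂ ≫ q) ≫ π := by
    rw [Category.assoc, Category.assoc, ← hp, ← Functor.map_comp, ← Functor.map_comp, sqQ.w]
  have hIsEq : IsEq ((yon S).map c₁ ≫ q) ((yon S).map c₂ ≫ q) i := by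
    refine ⟨?_, fun B b hb => ?_⟩
    · rw [← Category.assoc, ← Category.assoc, ← Functor.map_comp, ← Functor.map_comp, hi1, hi2,
        sqR.w]
    · have h1 : (yon S).map (b ≫ c₁) ≫ q = (yon S).map (b ≫ c₂) ≫ q := by
        rw [Functor.map_comp, Functor.map_comp, Category.assoc, Category.assoc, hb]
      obtain ⟨b', hb'⟩ := (yon S).map_surjective (sqR.lift _ _ h1)
      have h2 : b' ≫ r₁ = b ≫ c₁ := by
        apply (yon S).map_injective; rw [Functor.map_comp, hb', sqR.lift_fst]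
      have h3 : b' ≫ r₂ = b ≫ c₂ := by
        apply (yon S).map_injective; rw [Functor.map_comp, hb', sqR.lift_snd]
      refine ⟨b', ?_, fun b'' hb'' => ?_⟩
      · apply sqQ.hom_ext
        · rw [Category.assoc, hi1, h2]
        · rw [Category.assoc, hi2, h3]
      · apply (yon S).map_injective
        apply sqR.hom_ext
        · rw [← Functor.map_comp, ← Functor.map_comp, h2, ← hi1, ← Category.assoc]
          exact congrArg _ (congrArg (fun t => t ≫ c₁) hb'')
        · rw [← Functor.map_comp, ← Functor.map_comp, h3, ← hi2, ← Category.assoc]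
          exact congrArg _ (congrArg (fun t => t ≫ c₂) hb'')
  have hicl : IsClosedImmersion i.left := prop_of_isEq hsep hab hIsEq
  have him : Mono i := hIsEq.mono
  -- finite presentation
  have hpFP : FP p.left := by
    have : IsAffineHom p.left := inferInstance
    exact FP.mk' _
  have hc₁ : FP c₁.left := hpFP.of_isPullback (sqQ.flip.map (Over.forget S))
  have hQ : FP (c₁ ≫ p).left := hc₁.comp hpFP
  have hR : FP (i.left ≫ (c₁ ≫ p).left) := by
    have h1 := hQ.qc
    have h2 := hQ.qs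
    have h3 : i.left ≫ (c₁ ≫ p).left = r₂.left ≫ p.left := by
      rw [← Over.comp_left, ← Category.assoc, hi1, hrp, Over.comp_left]
    refine ⟨?_, inferInstance, inferInstance⟩
    rw [h3]
    infer_instance
  -- comparison of the two loci
  rw [trivSet_eq_locus he hq.eSurj hp sqQ hIsEq]
  exact isLocallyConstructible_locus_isIso _ _ hQ hR

end K864.TrivCons
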