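import Groth.Agent.UnramA.PullbackChart
import Groth.Agent.AlgSp.K613.Diag
import Groth.Agent.AlgSp.K612.Pts
import Groth.Agent.AlgSp.K621.Base
import Groth.Agent.IsoNat.K864.Doubled

/-!
# Triviality locus of a pointed universally closed space

`G ⟶ T` an algebraic space locally of finite type and universally closed over `T` with a section `e`.  If the base
change of `G` along `τ : Z ⟶ T` is trivial (all sections are `e`) then every point in the image of `τ` has an étale
neighbourhood over which `G` is trivial.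
-/

set_option autoImplicit false
set_option linter.unusedSectionVars false
set_option backward.isDefEq.respectTransparency false
set_option backward.isDefEq.respectTransparency.types false

universe u

open CategoryTheory CategoryTheory.Limits AlgebraicGeometry Opposite AlgSp K613.Basic K613.Cover K613.Chart K613.Diag

namespace K864.TrivLocus

/-- A morphism locally of finite type is unramified near a point as soon as a base change is. -/
theorem exists_unramified_nhd {W T Z P : Scheme.{u}} {p : W ⟶ T} [LocallyOfFiniteType p] {τ : Z ⟶ T}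
    {pr₁ : P ⟶ W} {pr₂ : P ⟶ Z} (sq : IsPullback pr₁ pr₂ p τ) [FormallyUnramified pr₂] (z : P) :
    ∃ V : W.Opens, pr₁ z ∈ V ∧ FormallyUnramified (V.ι ≫ p) := by
  rw [Groth.Agent.UnramA.NearPoint.exists_formallyUnramified_nhd_iff]
  apply Groth.Agent.UnramA.PullbackChart.formallyUnramified_stalkMap_of_isPullback sq z
  have := MorphismProperty.of_isPullback (P := @LocallyOfFiniteType) sq ‹_›
  rw [← Groth.Agent.UnramA.NearPoint.exists_formallyUnramified_nhd_iff]
  exact ⟨⊤, trivial, IsZariskiLocalAtSource.comp (P := @FormallyUnramified) ‹_› _⟩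

variable {S : Scheme.{u}} {G : Sp S} {T : Over S}

/-- Every section of `G` over a base change of `a : A ⟶ T` is the one given by `e`. -/
def Triv (π : G ⟶ (yon S).obj T) (e : (yon S).obj T ⟶ G) {A : Over S} (a : A ⟶ T) : Prop :=
  ∀ (B : Over S) (b : B ⟶ A) (g : (yon S).obj B ⟶ G), g ≫ π = (yon S).map (b ≫ a) →
    g = (yon S).map (b ≫ a) ≫ e

theorem Triv.comp {π : G ⟶ (yon S).obj T} {e : (yon S).obj T ⟶ G} {A A' : Over S} {a : A ⟶ T}
    (h : Triv π e a) (c : A' ⟶ A) : Triv π e (c ≫ a) := by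
  intro B b g hg
  have := h B (b ≫ c) g (by rw [hg, Category.assoc])
  rw [this, Category.assoc]

theorem exists_etale_triv (hG : IsAlgSpace G) {π : G ⟶ (yon S).obj T} {e : (yon S).obj T ⟶ G}
    (he : e ≫ π = 𝟙 _) (hlft : LocP @LocallyOfFiniteType π) (huc : IsUnivClosedMor π) {Z : Over S}
    (τ : Z ⟶ T) (z : Z.left) (hτ : Triv π e τ) :
    ∃ (T' : Over S) (j : T' ⟶ T) (t' : T'.left), Etale j.left ∧ j.left t' = τ.left z ∧
      Triv π e j := by
  obtain ⟨W, q, hq⟩ := exists_ch hG
  obtain ⟨p, hp⟩ := (yon S).map_surjective (q ≫ π)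
  have hplft : LocallyOfFiniteType p.left := hlft q (𝟙 _) p hq.et (repWith_id _ _) (by
    rw [hp, Category.comp_id])
  -- the pullback of the chart along the section
  obtain ⟨E, ε, k₀, sqE⟩ := hq.et.1 e
  obtain ⟨k, rfl⟩ := (yon S).map_surjective k₀
  have hkε : k ≫ p = ε := by
    apply (yon S).map_injective
    rw [Functor.map_comp, hp, ← Category.assoc, sqE.w, Category.assoc, he, Category.comp_id]
  have hεe : Etale ε.left := hq.et.2 e _ ε sqE
  have hεs : Surjective ε.left := hq.surj.2 e _ ε sqE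
  obtain ⟨ε₀, hε₀⟩ := ε.left.surjective (τ.left z)
  -- the fibre of the chart
  have sqP := IsPullback.of_hasPullback p τ
  have sqP' := sqP.map (Over.forget S)
  set P := pullback p τ
  set pr₁ : P ⟶ W := pullback.fst p τ
  set pr₂ : P ⟶ Z := pullback.snd p τ
  have h1 : (yon S).map pr₁ ≫ q = (yon S).map (pr₂ ≫ τ) ≫ e := by
    refine hτ P pr₂ _ ?_
    rw [Category.assoc, ← hp, ← Functor.map_comp, sqP.w]
  obtain ⟨l, hl⟩ := (yon S).map_surjective (sqE.lift ((yon S).map pr₁) ((yon S).map (pr₂ ≫ τ)) h1)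
  have hl1 : l ≫ k = pr₁ := by
    apply (yon S).map_injective
    rw [Functor.map_comp, hl, sqE.lift_fst]
  have hl2 : l ≫ ε = pr₂ ≫ τ := by
    apply (yon S).map_injective
    rw [Functor.map_comp, hl, sqE.lift_snd]
  have sqL : IsPullback l pr₂ ε τ := by
    refine ⟨⟨hl2⟩, ⟨PullbackCone.IsLimit.mk _ (fun s => sqP.lift (s.fst ≫ k) s.snd (by
      rw [Category.assoc, hkε, s.condition])) (fun s => ?_) (fun s => sqP.lift_snd _ _ _)
      (fun s m hm1 hm2 => ?_)⟩⟩
    · apply (yon S).map_injective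
      apply sqE.hom_ext
      · rw [← Functor.map_comp, ← Functor.map_comp, Category.assoc, hl1, sqP.lift_fst]
      · rw [← Functor.map_comp, ← Functor.map_comp, Category.assoc, hl2, ← Category.assoc,
          sqP.lift_snd, s.condition]
    · apply sqP.hom_ext
      · rw [sqP.lift_fst, ← hm1, Category.assoc, hl1]
      · rw [sqP.lift_snd, hm2]
  have hpr₂ : Etale pr₂.left := MorphismProperty.of_isPullback (P := @Etale)
    (sqL.map (Over.forget S)) hεe
  have hw0 : p.left (k.left ε₀) = τ.left z := by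
    rw [← hε₀, ← hkε, Over.comp_left, Scheme.Hom.comp_apply]
  obtain ⟨z₁, hz₁, -⟩ := Scheme.exists_preimage_of_isPullback sqP' (k.left ε₀) z hw0
  have hu : FormallyUnramified ((Over.forget S).map pr₂) := by
    change FormallyUnramified pr₂.left
    infer_instance
  have hlft' : LocallyOfFiniteType ((Over.forget S).map p) := hplft
  obtain ⟨V, hV, hVu⟩ := exists_unramified_nhd (p := (Over.forget S).map p) sqP' z₁
  have hV' : k.left ε₀ ∈ V := hz₁ ▸ hV
  -- the étale neighbourhood over which the section is étale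
  let T' : Over S := Doubled.opn E (k.left ⁻¹ᵁ V)
  let jE : T' ⟶ E := Doubled.opnι E (k.left ⁻¹ᵁ V)
  have hjE : IsOpenImmersion jE.left := Doubled.isOpenImmersion_opnι_left _ _
  let j : T' ⟶ T := jE ≫ ε
  have hj : Etale j.left := inferInstanceAs (Etale (jE.left ≫ ε.left))
  have hk' : Etale (jE ≫ k).left := by
    have hr : Set.range (jE ≫ k).left ⊆ Set.range V.ι := by
      rw [Scheme.Opens.range_ι]
      rintro _ ⟨x, rfl⟩
      exact x.2
    let m : T'.left ⟶ V.toScheme := IsOpenImmersion.lift V.ι (jE ≫ k).left hr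
    have hm : m ≫ V.ι = (jE ≫ k).left := IsOpenImmersion.lift_fac _ _ _
    have h2 : Etale (m ≫ V.ι ≫ p.left) := by
      have : m ≫ V.ι ≫ p.left = j.left := by
        rw [← Category.assoc, hm, ← Over.comp_left, Category.assoc, hkε]
      rw [this]; exact hj
    have h3 : FormallyUnramified (V.ι ≫ p.left) := hVu
    have h4 : Etale m := Etale.of_comp m (V.ι ≫ p.left)
    rw [← hm]
    infer_instance
  -- base change to `T'`
  have sqG := IsPullback.of_hasPullback π ((yon S).map j)
  set G' := pullback π ((yon S).map j)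
  set g₁ : G' ⟶ G := pullback.fst π ((yon S).map j)
  set g₂ : G' ⟶ (yon S).obj T' := pullback.snd π ((yon S).map j)
  let e' : (yon S).obj T' ⟶ G' := sqG.lift ((yon S).map j ≫ e) (𝟙 _) (by
    rw [Category.assoc, he, Category.comp_id, Category.id_comp])
  have he'1 : e' ≫ g₁ = (yon S).map j ≫ e := sqG.lift_fst _ _ _
  have he'2 : e' ≫ g₂ = 𝟙 _ := sqG.lift_snd _ _ _
  have sqW := IsPullback.of_hasPullback p j
  set W' := pullback p j
  set w₁ : W' ⟶ W := pullback.fst p j
  set w₂ : W' ⟶ T' := pullback.snd p j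
  have hw₁ : Etale w₁.left := MorphismProperty.of_isPullback (P := @Etale)
    (sqW.flip.map (Over.forget S)) hj
  let q' : (yon S).obj W' ⟶ G' := sqG.lift ((yon S).map w₁ ≫ q) ((yon S).map w₂) (by
    rw [Category.assoc, ← hp, ← Functor.map_comp, sqW.w, Functor.map_comp])
  have hq'1 : q' ≫ g₁ = (yon S).map w₁ ≫ q := sqG.lift_fst _ _ _
  have hq'2 : q' ≫ g₂ = (yon S).map w₂ := sqG.lift_snd _ _ _
  have sqq : IsPullback ((yon S).map w₁) q' q g₁ := by
    refine IsPullback.of_bot (h₃₁ := (yon S).map j) (v₂₁ := g₂) (v₂₂ := π) ?_ hq'1.symm sqG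
    rw [hq'2, ← hp]
    exact sqW.map (yon S)
  have hq'e : RepWith @Etale q' := MorphismProperty.of_isPullback sqq hq.et
  obtain ⟨γ, hγ1, hγ2⟩ : ∃ γ : T' ⟶ W', γ ≫ w₁ = jE ≫ k ∧ γ ≫ w₂ = 𝟙 _ :=
    ⟨sqW.lift (jE ≫ k) (𝟙 _) (by rw [Category.assoc, hkε, Category.id_comp]), sqW.lift_fst _ _ _,
      sqW.lift_snd _ _ _⟩
  have hγ : Etale γ.left := by
    have : Etale (γ.left ≫ w₁.left) := by rw [← Over.comp_left, hγ1]; exact hk'
    exact Etale.of_comp γ.left w₁.left
  have hjk : (yon S).map (jE ≫ k) ≫ q = (yon S).map jE ≫ (yon S).map ε ≫ e := by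
    rw [← sqE.w, Functor.map_comp, Category.assoc]
  have he' : e' = (yon S).map γ ≫ q' := by
    apply sqG.hom_ext
    · rw [he'1, Category.assoc, hq'1, ← Category.assoc, ← Functor.map_comp, hγ1]
      exact (hjk.trans (by rw [Functor.map_comp, Category.assoc])).symm
    · rw [he'2, Category.assoc, hq'2, ← Functor.map_comp, hγ2, CategoryTheory.Functor.map_id]
  have he'e : RepWith @Etale e' := by
    rw [he']
    exact MorphismProperty.comp_mem _ _ _ ((repWith_yon_map_iff _ _).2 hγ) hq'e
  -- the closed subset of `T'`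
  have hcl : IsClosed (Set.range (Points.ofPt e'))ᶜ := by
    rw [isClosed_compl_iff]
    exact (K621.Base.isOpenMap_ofPt he'e).isOpen_range
  have hyon : IsAlgSpace ((yon S).obj T') := IsAlgSpace.yon_obj T'
  have hcm : IsClosedMap (Points.map g₂) := huc hyon _ _ _ sqG
  have hZ := hcm _ hcl
  let O : T'.left.Opens := ⟨(Points.ofScheme T' ⁻¹' (Points.map g₂ '' (Set.range (Points.ofPt e'))ᶜ))ᶜ,
    (hZ.preimage (Points.schemeHomeo T').continuous).isOpen_compl⟩
  -- the point
  let t' : T'.left := ⟨ε₀, hV'⟩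
  have ht'E : jE.left t' = ε₀ := rfl
  have ht' : t' ∈ O := by
    rintro ⟨ξ, hξ, hξ'⟩
    apply hξ
    obtain ⟨B, g₀, s, rfl⟩ := K612.Pts.exists_ofPt ξ
    obtain ⟨b, hb⟩ := (yon S).map_surjective (g₀ ≫ g₂)
    have hbs : b.left s = t' := by
      rw [Points.map_ofPt, ← hb] at hξ'
      have := K612.Pts.ofPt_map_comp b (𝟙 _) s
      rw [Category.comp_id] at this
      rw [this] at hξ'
      exact (Points.schemeEquiv T').injective hξ'
    have hjs : (b ≫ j).left s = τ.left z := by
      rw [Over.comp_left, Scheme.Hom.comp_apply, hbs, Over.comp_left, Scheme.Hom.comp_apply, ht'E, hε₀]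
    have sqB := IsPullback.of_hasPullback (b ≫ j) τ
    obtain ⟨s', hs', -⟩ := Scheme.exists_preimage_of_isPullback (sqB.map (Over.forget S)) s z hjs
    set β₁ := pullback.fst (b ≫ j) τ
    set β₂ := pullback.snd (b ≫ j) τ
    have h5 : (yon S).map β₁ ≫ g₀ ≫ g₁ = (yon S).map (β₂ ≫ τ) ≫ e := by
      refine hτ _ β₂ _ ?_
      rw [Category.assoc, Category.assoc, sqG.w, ← Category.assoc g₀, ← hb, ← Functor.map_comp,
        ← Functor.map_comp, sqB.w]
    have h6 : (yon S).map β₁ ≫ g₀ = (yon S).map (β₁ ≫ b) ≫ e' := by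
      apply sqG.hom_ext
      · have h51 : (yon S).map (β₁ ≫ b ≫ j) = (yon S).map (β₁ ≫ b) ≫ (yon S).map j :=
          (congrArg (yon S).map (Category.assoc β₁ b j).symm).trans (Functor.map_comp _ _ _)
        rw [Category.assoc, h5, ← sqB.w, h51, Category.assoc, Category.assoc, he'1]
      · rw [Category.assoc, ← hb, Category.assoc, he'2, Category.comp_id, Functor.map_comp]
    refine ⟨(β₁ ≫ b).left s', ?_⟩
    have h7 := congrArg (fun x => Points.ofPt x s') h6
    rw [K612.Pts.ofPt_map_comp, K612.Pts.ofPt_map_comp] at h7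
    rw [← h7]
    exact congrArg (Points.ofPt g₀) hs'
  -- triviality
  refine ⟨Doubled.opn T' O, Doubled.opnι T' O ≫ j, ⟨t', ht'⟩, ?_, ?_, ?_⟩
  · have := Doubled.isOpenImmersion_opnι_left T' O
    exact inferInstanceAs (Etale ((Doubled.opnι T' O).left ≫ j.left))
  · rw [← hε₀]; rfl
  · intro B b g hg
    let g' : (yon S).obj B ⟶ G' := sqG.lift g ((yon S).map (b ≫ Doubled.opnι T' O)) (by
      rw [hg, ← Functor.map_comp, Category.assoc])
    have hg'1 : g' ≫ g₁ = g := sqG.lift_fst _ _ _
    have hg'2 : g' ≫ g₂ = (yon S).map (b ≫ Doubled.opnι T' O) := sqG.lift_snd _ _ _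
    obtain ⟨D, c, d, sqC⟩ := he'e.1 g'
    have hce : Etale c.left := he'e.2 g' _ c sqC
    have hcs : Surjective c.left := by
      refine ⟨fun y => ?_⟩
      have h8 : Points.ofPt g' y ∈ Set.range (Points.ofPt e') := by
        by_contra hn
        have h9 : (b ≫ Doubled.opnι T' O).left y ∈ O := (b.left y).2
        apply h9
        refine ⟨_, hn, ?_⟩
        rw [Points.map_ofPt, hg'2]
        have := K612.Pts.ofPt_map_comp (b ≫ Doubled.opnι T' O) (𝟙 _) y
        rw [Category.comp_id] at this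
        exact this
      obtain ⟨y', hy'⟩ := h8
      obtain ⟨v, -, hv⟩ := K612.Pts.exists_pt_of_isPullback sqC (Points.ofScheme T' y') y (by
        rw [Points.map_ofPt, Category.id_comp]; exact hy')
      exact ⟨v, hv⟩
    have hepi := (EtC.mk hce hcs).fpC.epi
    have hd : d = (yon S).map (c ≫ b ≫ Doubled.opnι T' O) := by
      calc d = d ≫ e' ≫ g₂ := by rw [he'2, Category.comp_id]
        _ = (d ≫ e') ≫ g₂ := (Category.assoc _ _ _).symm
        _ = _ := by rw [sqC.w, Category.assoc, hg'2, ← Functor.map_comp]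
    rw [← cancel_epi ((yon S).map c)]
    calc (yon S).map c ≫ g = ((yon S).map c ≫ g') ≫ g₁ := by rw [Category.assoc, hg'1]
      _ = d ≫ (yon S).map j ≫ e := by rw [← sqC.w, Category.assoc, he'1]
      _ = _ := by
        rw [hd]
        simp only [Functor.map_comp, Category.assoc]

end K864.TrivLocus
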