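import Groth.Agent.IsoNat.K864.Disj
import Groth.Agent.IsoNat.K864.Cross

/-!
# Twisting an object over `T × D2` by an automorphism

For `x` over `T` and a vertical `s : x ⟶ x`: the object over `T × D2` obtained from two copies of `x|T × Cr` glued over
`T × V` by the identity on the first punctured branch and by `s` on the second one.
-/

set_option autoImplicit false
set_option linter.unusedSectionVars false
set_option backward.isDefEq.respectTransparency false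
set_option backward.isDefEq.respectTransparency.types false

universe v₂ u₂ u

open CategoryTheory CategoryTheory.Limits AlgebraicGeometry

namespace K864.Twist

open K863.Arr K863.Glue K863.Pair K864.Disj K864.Prd K864.Cross

variable {S : Scheme.{u}} {𝒳 : BasedCategory.{v₂, u₂} (Over S)}

theorem isOpenPair_D2 (T : Over S) :
    IsOpenPair (mapR T i₁.{u}) (mapR T i₂) (mapR T V.ι) (mapR T V.ι) where
  open₁ := inferInstance
  open₂ := inferInstance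
  cover x := exists_or T i₁ i₂ exists_i x
  pb := isPullback_prd T isPullback_D2

theorem w_ne (T : Over S) (a b : ↥(prd T Gm.{u}).left) : (mapR T w₁).left a ≠ (mapR T w₂).left b := by
  intro h
  have h1 := congrArg (p₂ T _) h
  rw [← Scheme.Hom.comp_apply, ← Scheme.Hom.comp_apply, mapR_p₂, mapR_p₂, Scheme.Hom.comp_apply,
    Scheme.Hom.comp_apply] at h1
  exact w₁_ne_w₂ _ _ h1

/-- The data of the twist of `x` by `s`. -/
structure Data (T : Over S) (x : 𝒳.obj) (s : x ⟶ x) where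
  /-- `x|T × Cr` -/
  xP : 𝒳.obj
  /-- `x|T × V` -/
  xV : 𝒳.obj
  /-- `x|T × Gm` (first branch) -/
  x₁ : 𝒳.obj
  /-- `x|T × Gm` (second branch) -/
  x₂ : 𝒳.obj
  /-- the twisted object -/
  z : 𝒳.obj
  /-- arrow -/
  aP : xP ⟶ x
  haP : 𝒳.p.IsHomLift (p₁ T Cr.{u}) aP
  /-- arrow -/
  aV : xV ⟶ xP
  haV : 𝒳.p.IsHomLift (mapR T V.{u}.ι) aV
  /-- arrow -/
  ω₁ : x₁ ⟶ xV
  hω₁ : 𝒳.p.IsHomLift (mapR T w₁.{u}) ω₁
  /-- arrow -/
  ω₂ : x₂ ⟶ xV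
  hω₂ : 𝒳.p.IsHomLift (mapR T w₂.{u}) ω₂
  /-- the gluing automorphism -/
  σ : xV ⟶ xV
  hσ : 𝒳.p.IsHomLift (𝟙 (prd T V.{u}.toScheme)) σ
  σ₁ : ω₁ ≫ σ = ω₁
  σ₂ : ω₂ ≫ σ ≫ aV ≫ aP = ω₂ ≫ aV ≫ aP ≫ s
  /-- arrow -/
  ζ₁ : xP ⟶ z
  hζ₁ : 𝒳.p.IsHomLift (mapR T i₁.{u}) ζ₁
  /-- arrow -/
  ζ₂ : xP ⟶ z
  hζ₂ : 𝒳.p.IsHomLift (mapR T i₂.{u}) ζ₂
  glue : aV ≫ ζ₁ = σ ≫ aV ≫ ζ₂

theorem exists_data (hst : Stk.IsStack (AlgSp.J S) 𝒳) {T : Over S} {x : 𝒳.obj}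
    (hx : 𝒳.p.obj x = T) {s : x ⟶ x} (hs : 𝒳.p.IsHomLift (𝟙 T) s) : Nonempty (Data T x s) := by
  have hp := hst.1
  obtain ⟨xP, aP, haP⟩ := exists_lift hp hx (p₁ T Cr.{u})
  obtain ⟨xV, aV, haV⟩ := exists_lift hp (dom haP) (mapR T V.{u}.ι)
  obtain ⟨x₁, ω₁, hω₁⟩ := exists_lift hp (dom haV) (mapR T w₁.{u})
  obtain ⟨x₂, ω₂, hω₂⟩ := exists_lift hp (dom haV) (mapR T w₂.{u})
  have hφ : 𝒳.p.IsHomLift ((mapR T w₂.{u}) ≫ (mapR T V.ι) ≫ p₁ T Cr) (ω₂ ≫ aV ≫ aP) :=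
    lift_comp hω₂ (lift_comp haV haP)
  obtain ⟨t, ht, ht'⟩ := exists_restr hp hφ hφ hs
  obtain ⟨σ, hσ, σ₁, σ₂⟩ := exists_hom_disj hst (j₁ := mapR T w₁.{u}) (j₂ := mapR T w₂)
    inferInstance inferInstance (fun y => exists_or T w₁ w₂ exists_w y) (w_ne T) hω₁ hω₂
    (w := xV) (g := 𝟙 _) (γ₁ := ω₁) (γ₂ := t ≫ ω₂)
    (by rw [Category.comp_id]; exact hω₁) (by rw [Category.comp_id]; exact lift_id_comp ht hω₂)
  obtain ⟨z, ζ₁, ζ₂, hζ₁, hζ₂, hg⟩ := exists_obj hst (isOpenPair_D2 T) haV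
    (lift_id_comp hσ haV)
  exact ⟨{ xP, xV, x₁, x₂, z, aP, haP, aV, haV, ω₁, hω₁, ω₂, hω₂, σ, hσ, σ₁, ζ₁, hζ₁, ζ₂, hζ₂
           σ₂ := by
            rw [← Category.assoc, σ₂, Category.assoc, ht', Category.assoc, Category.assoc]
           glue := by rw [hg, Category.assoc] }⟩

end K864.Twist
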